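import Mathlib
import Cfsg.Agent.Lib.Char.ZassInd
import Cfsg.Agent.Lib.Char.ZassCount
import Cfsg.Agent.Lib.Char.Coherent
import Cfsg.Agent.Lib.Char.PermChar
import Cfsg.Agent.Lib.Char.Constituent

/-!
Zassenhaus groups with an abelian kernel: the characters induced from the kernel.
-/

set_option autoImplicit false
set_option linter.unusedSectionVars false
set_option linter.unusedVariables false
set_option linter.style.haveILetI false
set_option linter.unusedSimpArgs false
set_option linter.unnecessarySimpa false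

open MulAction
open scoped ComplexConjugate
open Cfsg (classInner IsCharacter IsIrrCharacter IrrCharacter IsClassFunction
  IsGeneralizedCharacter extendByZero indFun)

namespace Cfsg.Agent.Lib.Perm.ZA

open Cfsg.Agent.Lib.Char

universe u v

/-- The setting: a Zassenhaus group with an abelian kernel in a point stabilizer. -/
structure Setup (G : Type u) (Ω : Type v) [Group G] [MulAction G Ω] [Fintype G] [Fintype Ω]
    (a b : Ω) (F : Subgroup G) : Prop where
  hZ : Cfsg.IsZassenhausGroup G Ω
  hab : a ≠ b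
  hFa : F ≤ stabilizer G a
  hFcard : Nat.card F + 1 = Fintype.card Ω
  hFfix : ∀ u ∈ F, u ≠ 1 → ∀ c : Ω, u • c = c → c = a
  hFc : ∀ x ∈ F, ∀ y ∈ F, x * y = y * x

variable {G : Type u} {Ω : Type v} [Group G] [MulAction G Ω] [Fintype G] [Fintype Ω]
  {a b : Ω} {F : Subgroup G}

local notation "E" => (stabilizer G a ⊓ stabilizer G b : Subgroup G)

/-- A composite of an irreducible character with an automorphism is irreducible. -/
theorem irr_comp {X : Type*} [Group X] [Fintype X] (σ : X ≃* X) {χ : X → ℂ} (hχ : IsIrrCharacter X χ) :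
    IsIrrCharacter X (fun x => χ (σ x)) := by
  apply isIrr_of_character_norm_one
  · exact IsCharacter.comp σ.toMonoidHom (IsIrrCharacter.isCharacter hχ)
  · have h1 := classInner_irr_self hχ
    rw [classInner_def] at h1 ⊢
    rw [← h1]
    congr 1
    exact Equiv.sum_comp σ.toEquiv (fun x => χ x * conj (χ x))

namespace Setup

variable (S : Setup G Ω a b F)
include S

theorem conj_mem {s u : G} (hs : s • a = a) (hu : u ∈ F) : s * u * s⁻¹ ∈ F :=
  zass_kernel_conj_mem S.hZ S.hab F S.hFa S.hFcard S.hFfix hs hu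

theorem inv_conj_mem {s u : G} (hs : s • a = a) (hu : u ∈ F) : s⁻¹ * u * s ∈ F := by
  have h1 : s⁻¹ • a = a := by rw [inv_smul_eq_iff, hs]
  have := S.conj_mem h1 hu
  simpa using this

/-- The kernel is regular on the other points. -/
theorem reg {y z : Ω} (hy : y ≠ a) (hz : z ≠ a) : ∃ u ∈ F, u • y = z := by
  classical
  have hcompl : Nat.card {x : Ω // x ≠ a} = Nat.card F := by
    have h1 : Fintype.card {x : Ω // x ≠ a} + 1 = Fintype.card Ω := by
      have := Fintype.card_congr (Equiv.optionSubtypeNe a)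
      rwa [Fintype.card_option] at this
    have h2 := S.hFcard
    rw [Nat.card_eq_fintype_card]
    omega
  have hne : ∀ u : F, (u : G) • y ≠ a := by
    intro u h0
    apply hy
    have h1 : (u : G) • a = a := S.hFa u.2
    exact smul_left_cancel (u : G) (h0.trans h1.symm)
  let f : F → {x : Ω // x ≠ a} := fun u => ⟨(u : G) • y, hne u⟩
  have hfinj : Function.Injective f := by
    intro u v huv
    have h1 : (u : G) • y = (v : G) • y := congrArg Subtype.val huv
    have h2 : ((v : G)⁻¹ * u) • y = y := by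
      rw [mul_smul, h1, inv_smul_smul]
    by_contra hne'
    have h3 : (v : G)⁻¹ * u ≠ 1 := by
      intro h0
      rw [inv_mul_eq_one] at h0
      exact hne' (Subtype.ext h0.symm)
    exact hy (S.hFfix _ (mul_mem (inv_mem v.2) u.2) h3 y h2)
  have hfsurj : Function.Surjective f :=
    (Function.Injective.bijective_of_nat_card_le hfinj hcompl.le).2
  obtain ⟨u, hu⟩ := hfsurj ⟨z, hz⟩
  exact ⟨u, u.2, congrArg Subtype.val hu⟩

/-- Decomposition of a point stabilizer. -/
theorem decomp {x : G} (hx : x • a = a) : ∃ f ∈ F, ∃ e ∈ E, x = f * e := by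
  have hb : x • b ≠ a := by
    intro h0
    apply S.hab
    apply smul_left_cancel x
    rw [hx, h0]
  obtain ⟨f, hf, hfb⟩ := S.reg (Ne.symm S.hab) hb
  refine ⟨f, hf, f⁻¹ * x, ⟨?_, ?_⟩, by group⟩
  · change (f⁻¹ * x) • a = a
    rw [mul_smul, hx, inv_smul_eq_iff]
    exact (S.hFa hf).symm
  · change (f⁻¹ * x) • b = b
    rw [mul_smul, inv_smul_eq_iff, hfb]

theorem inf_trivial {x : G} (hF : x ∈ F) (hE : x ∈ E) : x = 1 := by
  by_contra h0
  exact S.hab (S.hFfix x hF h0 b hE.2).symm

theorem decomp_inj {f f' e e' : G} (hf : f ∈ F) (hf' : f' ∈ F) (he : e ∈ E) (he' : e' ∈ E)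
    (h : f * e = f' * e') : f = f' ∧ e = e' := by
  have h1 : f'⁻¹ * f = e' * e⁻¹ := by
    calc f'⁻¹ * f = f'⁻¹ * (f * e) * e⁻¹ := by group
      _ = e' * e⁻¹ := by rw [h]; group
  have h2 : f'⁻¹ * f = 1 := S.inf_trivial (mul_mem (inv_mem hf') hf) (by
    rw [h1]
    exact mul_mem he' (inv_mem he))
  have h3 : f = f' := by
    rw [inv_mul_eq_one] at h2
    exact h2.symm
  subst h3
  exact ⟨rfl, mul_left_cancel h⟩

/-- A sum over the group of a function supported on the point stabilizer. -/
theorem sum_stab [Fintype F] [Fintype E] (T : G → ℂ) (hT : ∀ x : G, x • a ≠ a → T x = 0) :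
    ∑ x : G, T x = ∑ f : F, ∑ e : E, T ((f : G) * (e : G)) := by
  classical
  rw [← Finset.sum_product']
  symm
  refine Fintype.sum_of_injective (fun p : F × E => (p.1 : G) * (p.2 : G)) ?_ _ _ ?_ (fun _ => rfl)
  · rintro ⟨f, e⟩ ⟨f', e'⟩ h
    obtain ⟨h1, h2⟩ := S.decomp_inj f.2 f'.2 e.2 e'.2 h
    exact Prod.ext (Subtype.ext h1) (Subtype.ext h2)
  · intro x hx
    apply hT
    intro hxa
    obtain ⟨f, hf, e, he, rfl⟩ := S.decomp hxa
    exact hx ⟨(⟨f, hf⟩, ⟨e, he⟩), rfl⟩

/-- The conjugation action on the kernel. -/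
noncomputable def cj (e : E) : F ≃* F where
  toFun u := ⟨(e : G)⁻¹ * u * e, S.inv_conj_mem e.2.1 u.2⟩
  invFun u := ⟨(e : G) * u * (e : G)⁻¹, S.conj_mem e.2.1 u.2⟩
  left_inv u := by
    apply Subtype.ext
    show (e : G) * ((e : G)⁻¹ * u * e) * (e : G)⁻¹ = u
    group
  right_inv u := by
    apply Subtype.ext
    show (e : G)⁻¹ * ((e : G) * u * (e : G)⁻¹) * e = u
    group
  map_mul' u v := by
    apply Subtype.ext
    show (e : G)⁻¹ * ((u : G) * v) * e = ((e : G)⁻¹ * u * e) * ((e : G)⁻¹ * v * e)
    group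

@[simp] theorem cj_coe (e : E) (u : F) : ((S.cj e u : F) : G) = (e : G)⁻¹ * u * e := rfl

/-- The values on the kernel. -/
theorem indFun_ne [Fintype F] [Fintype E] (θ : F → ℂ) (u : F) (hu1 : u ≠ 1) :
    indFun F θ u = ∑ e : E, θ (S.cj e u) := by
  classical
  rw [indFun_apply]
  have hu1' : (u : G) ≠ 1 := fun h => hu1 (Subtype.ext h)
  rw [S.sum_stab]
  · have h1 : ∀ (f : F) (e : E), extendByZero F θ (((f : G) * e)⁻¹ * u * ((f : G) * e)) = θ (S.cj e u) := by
      intro f e
      have h2 : ((f : G) * e)⁻¹ * u * ((f : G) * e) = (S.cj e u : F) := by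
        show _ = (e : G)⁻¹ * u * e
        have h3 := S.hFc f f.2 u u.2
        calc ((f : G) * e)⁻¹ * u * ((f : G) * e) = (e : G)⁻¹ * ((f : G)⁻¹ * ((u : G) * f)) * e := by group
          _ = (e : G)⁻¹ * ((f : G)⁻¹ * ((f : G) * u)) * e := by rw [h3]
          _ = _ := by group
      rw [h2, extendByZero_coe]
    simp only [h1, Finset.sum_const, Finset.card_univ, ← Nat.card_eq_fintype_card, nsmul_eq_mul]
    have h0 : (Nat.card F : ℂ) ≠ 0 := by exact_mod_cast (Nat.card_pos (α := F)).ne'
    field_simp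
  · intro x hx
    apply extendByZero_of_not_mem
    intro h0
    have h2 := S.hFa h0
    have h3 : (x⁻¹ * u * x) • a = a := h2
    rw [mul_smul, mul_smul, inv_smul_eq_iff] at h3
    exact hx (S.hFfix u u.2 hu1' _ h3)

/-- The order of the group. -/
theorem card_group : Nat.card G = Nat.card E * (Nat.card F + 1) * Nat.card F := by
  have h1 := zass_card S.hZ S.hab
  have h2 := S.hFcard
  rw [← h1, ← h2]
  simp [mul_assoc]

theorem card_index : F.index = (Nat.card F + 1) * Nat.card E := by
  have h1 := S.card_group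
  have h2 := F.card_mul_index
  have hp : 0 < Nat.card F := Nat.card_pos
  apply Nat.eq_of_mul_eq_mul_left hp
  rw [h2, h1]
  ring

open Classical in
/-- The restriction of an induced character to the kernel. -/
theorem res_indFun [Fintype F] [Fintype E] (θ : F → ℂ) (hθ : θ 1 = 1) (u : F) :
    indFun F θ u = ∑ e : E, θ (S.cj e u) +
      if u = 1 then (Nat.card F : ℂ) * (Nat.card E : ℂ) else 0 := by
  by_cases hu : u = 1
  · subst hu
    rw [if_pos rfl]
    have h1 : ((1 : F) : G) = 1 := rfl
    rw [h1, indFun_one, S.card_index]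
    have h2 : ∀ e : E, θ (S.cj e 1) = 1 := by
      intro e
      rw [map_one, hθ]
    simp only [h2, Finset.sum_const, Finset.card_univ, ← Nat.card_eq_fintype_card, nsmul_eq_mul, mul_one]
    have h3 : θ ⟨1, one_mem F⟩ = 1 := hθ
    rw [show (⟨1, one_mem F⟩ : F) = 1 from rfl] at *
    rw [hθ]
    push_cast
    ring
  · rw [if_neg hu, add_zero]
    exact S.indFun_ne θ u hu

/-- The inner product of two induced characters. -/
theorem inner_ind [Fintype F] [Fintype E] {lam mu : F → ℂ} (hlam : IsIrrCharacter F lam)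
    (hmu : IsIrrCharacter F mu) (hlam1 : lam 1 = 1) (hmu1 : mu 1 = 1) :
    classInner (indFun F lam) (indFun F mu) =
      ∑ e : E, classInner lam (fun u => mu (S.cj e u)) + (Nat.card E : ℂ) := by
  classical
  rw [frobenius_reciprocity _ _ _ (indFun_isClassFunction _ _)]
  rw [classInner_def]
  simp only [S.res_indFun mu hmu1]
  have h0 : (Nat.card F : ℂ) ≠ 0 := by exact_mod_cast (Nat.card_pos (α := F)).ne'
  have h1 : ∀ u : F, lam u * conj (∑ e : E, mu (S.cj e u) +
      if u = 1 then (Nat.card F : ℂ) * (Nat.card E : ℂ) else 0) =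
      ∑ e : E, lam u * conj (mu (S.cj e u)) +
        if u = 1 then (Nat.card F : ℂ) * (Nat.card E : ℂ) else 0 := by
    intro u
    rw [map_add, map_sum, mul_add, Finset.mul_sum]
    congr 1
    by_cases hu : u = 1
    · subst hu
      simp [hlam1]
    · simp [hu]
  simp only [h1]
  rw [Finset.sum_add_distrib, Finset.sum_comm, mul_add]
  congr 1
  · rw [Finset.mul_sum]
    rfl
  · rw [Finset.sum_ite_eq' Finset.univ (1 : F)]
    simp only [Finset.mem_univ, if_true]
    field_simp

/-- Orthogonality. -/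
theorem inner_comp [Fintype F] {lam mu : F → ℂ} (hlam : IsIrrCharacter F lam)
    (hmu : IsIrrCharacter F mu) (e : E) :
    classInner lam (fun u => mu (S.cj e u)) =
      if lam = (fun u => mu (S.cj e u)) then 1 else 0 :=
  classInner_irr hlam (irr_comp (S.cj e) hmu)

theorem comm_F : ∀ x y : F, x * y = y * x := fun x y =>
  Subtype.ext (S.hFc x x.2 y y.2)

theorem irr_one [Fintype F] {lam : F → ℂ} (hlam : IsIrrCharacter F lam) : lam 1 = 1 :=
  charDegree_eq_one_of_comm S.comm_F hlam

/-- Freeness of the action on the kernel. -/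
theorem cj_free (e : E) (he : e ≠ 1) (v : F) : ∃ u : F, S.cj e u * u⁻¹ = v := by
  classical
  let g : F → F := fun u => S.cj e u * u⁻¹
  have hg : Function.Injective g := by
    intro u w h
    have h1 : S.cj e u * u⁻¹ = S.cj e w * w⁻¹ := h
    have h2 : S.cj e (w⁻¹ * u) = w⁻¹ * u := by
      rw [map_mul, map_inv]
      have h3 : S.cj e u = S.cj e w * w⁻¹ * u := by
        rw [← h1]
        group
      rw [h3]
      group
    by_contra! hne
    have hw1 : w⁻¹ * u ≠ 1 := by
      intro h0
      rw [inv_mul_eq_one] at h0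
      exact hne h0.symm
    set t : G := ((w⁻¹ * u : F) : G) with ht
    have htF : t ∈ F := (w⁻¹ * u : F).2
    have ht1 : t ≠ 1 := fun h0 => hw1 (Subtype.ext h0)
    have hc : (e : G)⁻¹ * t * e = t := congrArg Subtype.val h2
    have hc' : (e : G) * t = t * e := by
      have h3 : (e : G) * ((e : G)⁻¹ * t * e) = (e : G) * t := by rw [hc]
      rw [← h3]
      group
    have hb : t • b ≠ b := fun h0 => S.hab (S.hFfix t htF ht1 b h0).symm
    have ha : t • b ≠ a := by
      intro h0
      have h1 : t • a = a := S.hFa htF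
      exact S.hab (smul_left_cancel t (h1.trans h0.symm))
    have hfix : (e : G) • (t • b) = t • b := by
      rw [← mul_smul, hc', mul_smul, show (e : G) • b = b from e.2.2]
    have := zass_eq_one S.hZ S.hab (Ne.symm hb) (Ne.symm ha) e.2.1 e.2.2 hfix
    exact he (Subtype.ext this)
  exact (Finite.injective_iff_surjective.mp hg) v

/-- The action is free on the nontrivial characters. -/
theorem char_free [Fintype F] {mu : F → ℂ} (hmu : IsIrrCharacter F mu) (e : E) (he : e ≠ 1)
    (h : mu = fun u => mu (S.cj e u)) : mu = fun _ => 1 := by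
  classical
  obtain ⟨l, rfl⟩ := exists_hom_of_character_one (IsIrrCharacter.isCharacter hmu) (S.irr_one hmu)
  funext v
  obtain ⟨u, rfl⟩ := S.cj_free e he v
  have h1 := congrFun h u
  have h2 : (l (S.cj e u) : ℂ) = l u := h1.symm
  have h3 : l (S.cj e u) = l u := Units.ext h2
  simp [h3]

theorem cj_mul (e f : E) (u : F) : S.cj e (S.cj f u) = S.cj (f * e) u := by
  apply Subtype.ext
  show (e : G)⁻¹ * ((f : G)⁻¹ * u * f) * e = ((f : G) * e)⁻¹ * u * ((f : G) * e)
  group

theorem cj_one (u : F) : S.cj 1 u = u := by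
  apply Subtype.ext
  show (1 : G)⁻¹ * u * 1 = u
  group

/-- At most one element carries one nontrivial character to another. -/
theorem char_unique [Fintype F] {mu : F → ℂ} (hmu : IsIrrCharacter F mu) (hmu1 : mu ≠ fun _ => 1)
    (e f : E) (h : (fun u => mu (S.cj e u)) = fun u => mu (S.cj f u)) : e = f := by
  by_contra hne
  apply hmu1
  apply S.char_free hmu (e⁻¹ * f)
  · intro h0
    apply hne
    rw [inv_mul_eq_one] at h0
    exact h0
  · funext v
    have h1 := congrFun h (S.cj e⁻¹ v)
    simp only [S.cj_mul] at h1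
    have h2 : e⁻¹ * e = 1 := inv_mul_cancel e
    rw [h2, S.cj_one] at h1
    exact h1

end Setup

end Cfsg.Agent.Lib.Perm.ZA
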