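import Mathlib
import Cfsg.Agent.Lib.Perm.ZassAb1

/-!
Generalized characters of norm two and degree zero.
-/

set_option autoImplicit false
set_option linter.unusedSectionVars false
set_option linter.unusedVariables false
set_option linter.style.haveILetI false
set_option linter.unusedSimpArgs false
set_option linter.unnecessarySimpa false

open MulAction
open scoped ComplexConjugate
open Cfsg (classInner IsCharacter IsIrrCharacter IrrCharacter IsClassFunction
  IsGeneralizedCharacter extendByZero indFun)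

namespace Cfsg.Agent.Lib.Perm.ZA

open Cfsg.Agent.Lib.Char

universe u v

variable {G : Type u} [Group G] [Fintype G]

/-- A generalized character of norm two and degree zero is a difference of two irreducible
characters. -/
theorem exists_diff_of_norm_two {θ : G → ℂ} (h : IsGeneralizedCharacter G θ)
    (hn : classInner θ θ = 2) (h1 : θ 1 = 0) :
    ∃ α β : G → ℂ, IsIrrCharacter G α ∧ IsIrrCharacter G β ∧ θ = α - β := by
  classical
  obtain ⟨c, rfl⟩ := generalized_eq_sum h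
  rw [classInner_self_eq_sum_int] at hn
  have hsum : ∑ χ, c χ ^ 2 = 2 := by exact_mod_cast hn
  -- degrees
  have hdeg : ∀ χ : IrrCharacter G, ∃ d : ℕ, (χ : G → ℂ) 1 = d ∧ d ≠ 0 ∧ d ∣ Nat.card G :=
    fun χ => IsIrrCharacter_degree_dvd χ.2
  choose deg hdeg1 hdeg2 hdeg3 using hdeg
  have hdegsum : ∑ χ, c χ * (deg χ : ℤ) = 0 := by
    have h2 : ((∑ χ, c χ * (deg χ : ℤ) : ℤ) : ℂ) = 0 := by
      rw [← h1]
      rw [Finset.sum_apply]
      push_cast
      refine Finset.sum_congr rfl fun χ _ => ?_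
      simp [hdeg1]
    exact_mod_cast h2
  have hdpos : ∀ χ, (0 : ℤ) < deg χ := fun χ => by
    exact_mod_cast Nat.pos_of_ne_zero (hdeg2 χ)
  have hne0 : ∃ χ, c χ ≠ 0 := by
    by_contra hcon
    push Not at hcon
    simp [hcon] at hsum
  have hpos : ∃ χ, 0 < c χ := by
    by_contra hcon
    push Not at hcon
    obtain ⟨χ, hχ⟩ := hne0
    have h2 : c χ < 0 := lt_of_le_of_ne (hcon χ) hχ
    have h3 : ∑ ψ, c ψ * (deg ψ : ℤ) < 0 := by
      apply Finset.sum_neg'
      · intro ψ _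
        exact mul_nonpos_of_nonpos_of_nonneg (hcon ψ) (hdpos ψ).le
      · exact ⟨χ, Finset.mem_univ _, mul_neg_of_neg_of_pos h2 (hdpos χ)⟩
    omega
  have hneg : ∃ χ, c χ < 0 := by
    by_contra hcon
    push Not at hcon
    obtain ⟨χ, hχ⟩ := hne0
    have h2 : 0 < c χ := lt_of_le_of_ne (hcon χ) (Ne.symm hχ)
    have h3 : 0 < ∑ ψ, c ψ * (deg ψ : ℤ) := by
      apply Finset.sum_pos'
      · intro ψ _
        exact mul_nonneg (hcon ψ) (hdpos ψ).le
      · exact ⟨χ, Finset.mem_univ _, mul_pos h2 (hdpos χ)⟩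
    omega
  obtain ⟨α, hα⟩ := hpos
  obtain ⟨β, hβ⟩ := hneg
  have hαβ : α ≠ β := by
    rintro rfl
    omega
  have hsplit : ∑ χ, c χ ^ 2 = c α ^ 2 + c β ^ 2 +
      ∑ χ ∈ (Finset.univ.erase α).erase β, c χ ^ 2 := by
    rw [← Finset.add_sum_erase _ _ (Finset.mem_univ α),
      ← Finset.add_sum_erase _ _ (Finset.mem_erase.mpr ⟨hαβ.symm, Finset.mem_univ β⟩)]
    ring
  have hR : 0 ≤ ∑ χ ∈ (Finset.univ.erase α).erase β, c χ ^ 2 :=
    Finset.sum_nonneg fun χ _ => sq_nonneg _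
  have hα1 : c α = 1 := by nlinarith
  have hβ1 : c β = -1 := by nlinarith
  have hR0 : ∑ χ ∈ (Finset.univ.erase α).erase β, c χ ^ 2 = 0 := by
    rw [hsplit, hα1, hβ1] at hsum
    omega
  have hzero : ∀ χ ∈ (Finset.univ.erase α).erase β, c χ = 0 := by
    intro χ hχ
    have h3 := (Finset.sum_eq_zero_iff_of_nonneg (fun χ _ => sq_nonneg (c χ))).mp hR0 χ hχ
    exact pow_eq_zero_iff (two_ne_zero) |>.mp h3
  refine ⟨α, β, α.2, β.2, ?_⟩
  rw [← Finset.add_sum_erase _ _ (Finset.mem_univ α),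
    ← Finset.add_sum_erase _ _ (Finset.mem_erase.mpr ⟨hαβ.symm, Finset.mem_univ β⟩)]
  rw [Finset.sum_eq_zero (s := (Finset.univ.erase α).erase β)]
  · rw [hα1, hβ1]
    funext g
    simp
    ring
  · intro χ hχ
    rw [hzero χ hχ]
    simp

/-- Constituents of differences have a common value where the differences vanish. -/
theorem same_value {T₀ T₁ T₂ : G → ℂ} (h₀ : IsCharacter G T₀) (h₁ : IsCharacter G T₁)
    (h₂ : IsCharacter G T₂) (hd₁ : T₀ 1 = T₁ 1) (hd₂ : T₀ 1 = T₂ 1) {m : ℕ}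
    (h00 : classInner T₀ T₀ = (m : ℂ) + 1) (h11 : classInner T₁ T₁ = (m : ℂ) + 1)
    (h22 : classInner T₂ T₂ = (m : ℂ) + 1) (h01 : classInner T₀ T₁ = (m : ℂ))
    (h02 : classInner T₀ T₂ = (m : ℂ)) (h12 : classInner T₁ T₂ = (m : ℂ) ∨ classInner T₁ T₂ = (m : ℂ) + 1)
    {g : G} (g₀ : T₀ g = 0) (g₁ : T₁ g = 0) (g₂ : T₂ g = 0)
    {η₁ η₂ : G → ℂ} (hη₁ : IsIrrCharacter G η₁) (hη₂ : IsIrrCharacter G η₂)
    (hc₁ : classInner T₀ η₁ ≠ classInner T₁ η₁) (hc₂ : classInner T₀ η₂ ≠ classInner T₂ η₂) :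
    η₁ g = η₂ g := by
  classical
  have h10 : classInner T₁ T₀ = (m : ℂ) := by
    rw [← conj_classInner, h01]
    simp
  have h20 : classInner T₂ T₀ = (m : ℂ) := by
    rw [← conj_classInner, h02]
    simp
  have hgen : ∀ {X Y : G → ℂ}, IsCharacter G X → IsCharacter G Y → IsGeneralizedCharacter G (X - Y) :=
    fun hX hY => ⟨_, _, hX, hY, rfl⟩
  have hn₁ : classInner (T₀ - T₁) (T₀ - T₁) = 2 := by
    rw [classInner_sub_left, classInner_sub_right, classInner_sub_right, h00, h01, h10, h11]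
    ring
  have hn₂ : classInner (T₀ - T₂) (T₀ - T₂) = 2 := by
    rw [classInner_sub_left, classInner_sub_right, classInner_sub_right, h00, h02, h20, h22]
    ring
  obtain ⟨α₁, β₁, hα₁, hβ₁, h₁eq⟩ := exists_diff_of_norm_two (hgen h₀ h₁) hn₁
    (by simp [hd₁])
  obtain ⟨α₂, β₂, hα₂, hβ₂, h₂eq⟩ := exists_diff_of_norm_two (hgen h₀ h₂) hn₂
    (by simp [hd₂])
  have hv₁ : α₁ g = β₁ g := by
    have := congrFun h₁eq g
    simp only [Pi.sub_apply, g₀, g₁] at this
    rw [sub_zero] at this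
    exact (sub_eq_zero.mp this.symm)
  have hv₂ : α₂ g = β₂ g := by
    have := congrFun h₂eq g
    simp only [Pi.sub_apply, g₀, g₂] at this
    rw [sub_zero] at this
    exact (sub_eq_zero.mp this.symm)
  -- membership of `η` in the support
  have hm₁ : η₁ = α₁ ∨ η₁ = β₁ := by
    by_contra hcon
    push Not at hcon
    apply hc₁
    have h3 : classInner (T₀ - T₁) η₁ = 0 := by
      rw [h₁eq, classInner_sub_left, classInner_irr_of_ne hα₁ hη₁ (Ne.symm hcon.1),
        classInner_irr_of_ne hβ₁ hη₁ (Ne.symm hcon.2)]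
      ring
    rw [classInner_sub_left] at h3
    exact sub_eq_zero.mp h3
  have hm₂ : η₂ = α₂ ∨ η₂ = β₂ := by
    by_contra hcon
    push Not at hcon
    apply hc₂
    have h3 : classInner (T₀ - T₂) η₂ = 0 := by
      rw [h₂eq, classInner_sub_left, classInner_irr_of_ne hα₂ hη₂ (Ne.symm hcon.1),
        classInner_irr_of_ne hβ₂ hη₂ (Ne.symm hcon.2)]
      ring
    rw [classInner_sub_left] at h3
    exact sub_eq_zero.mp h3
  have hv₁' : η₁ g = α₁ g := by
    rcases hm₁ with h | h <;> rw [h]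
    exact hv₁.symm
  have hv₂' : η₂ g = α₂ g := by
    rcases hm₂ with h | h <;> rw [h]
    exact hv₂.symm
  rw [hv₁', hv₂']
  -- the supports meet
  have hinner : classInner (T₀ - T₁) (T₀ - T₂) ≠ 0 := by
    rw [classInner_sub_left, classInner_sub_right, classInner_sub_right, h00, h02, h10]
    rcases h12 with h | h <;> rw [h] <;> ring_nf <;> norm_num
  rw [h₁eq, h₂eq] at hinner
  by_contra hne
  apply hinner
  have hne1 : α₁ ≠ α₂ := fun h => hne (by rw [h])
  have hne2 : α₁ ≠ β₂ := fun h => hne (by rw [h, hv₂])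
  have hne3 : β₁ ≠ α₂ := fun h => hne (by rw [hv₁, h])
  have hne4 : β₁ ≠ β₂ := fun h => hne (by rw [hv₁, h, hv₂])
  rw [classInner_sub_left, classInner_sub_right, classInner_sub_right,
    classInner_irr_of_ne hα₁ hα₂ hne1, classInner_irr_of_ne hα₁ hβ₂ hne2,
    classInner_irr_of_ne hβ₁ hα₂ hne3, classInner_irr_of_ne hβ₁ hβ₂ hne4]
  ring

end Cfsg.Agent.Lib.Perm.ZA
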