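import Mathlib
import Cfsg.Agent.Lib.Perm.ZassAb2

/-!
Zassenhaus groups with an abelian kernel: characters induced from the point stabilizer.
-/

set_option autoImplicit false
set_option linter.unusedSectionVars false
set_option linter.unusedVariables false
set_option linter.style.haveILetI false
set_option linter.unusedSimpArgs false
set_option linter.unnecessarySimpa false

open MulAction
open scoped ComplexConjugate
open Cfsg (classInner IsCharacter IsIrrCharacter IrrCharacter IsClassFunction
  IsGeneralizedCharacter extendByZero indFun)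

namespace Cfsg.Agent.Lib.Perm.ZA

open Cfsg.Agent.Lib.Char

universe u v

variable {G : Type u} {Ω : Type v} [Group G] [MulAction G Ω] [Fintype G] [Fintype Ω]
  {a b : Ω} {F : Subgroup G}

local notation "E" => (stabilizer G a ⊓ stabilizer G b : Subgroup G)

namespace Setup

variable (S : Setup G Ω a b F)
include S

open Classical in
/-- The values of the induced function. -/
theorem z_value
    (hinv : ∀ c, c ≠ a → ∀ t : G, t • a = c → t • c = a → ∀ y ∈ stabilizer G a ⊓ stabilizer G c,
      t⁻¹ * y * t = y⁻¹)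
    (l : stabilizer G a →* ℂˣ) (hlH : ∀ u : stabilizer G a, (u : G) ∈ F → l u = 1)
    (x : stabilizer G a) (hx1 : x ≠ 1) :
    indFun (stabilizer G a) (fun g => (l g : ℂ)) x =
      if (x : G) ∈ F then 1 else (l x : ℂ) + ((l x)⁻¹ : ℂˣ) := by
  classical
  have hZ := S.hZ
  have hab := S.hab
  have hsurj : ∀ c : Ω, ∃ g : G, g • a = c := by
    intro c
    by_cases hac : a = c
    · exact ⟨1, by simp [hac]⟩
    · obtain ⟨g, hg, -⟩ := zass_two_trans hZ a c c a hac (Ne.symm hac)
      exact ⟨g, hg⟩
  choose s hs using hsurj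
  have hcl : ∀ (r z : stabilizer G a), (fun g => (l g : ℂ)) (r⁻¹ * z * r) = (fun g => (l g : ℂ)) z := by
    intro r z
    simp only [map_mul, map_inv, Units.val_inj]
    rw [mul_comm (l r)⁻¹, mul_assoc, inv_mul_cancel, mul_one]
  rw [indFun_stab_apply a _ hcl s hs (fun c => ⟨s c, hs c⟩)]
  have hx1' : (x : G) ≠ 1 := fun h => hx1 (Subtype.ext h)
  have hxa : (x : G) • a = a := x.2
  have hsa : s a ∈ stabilizer G a := hs a
  -- the term at a point `c`
  have hzero : ∀ c : Ω, (x : G) • c ≠ c →
      Cfsg.extendByZero (stabilizer G a) (fun g => (l g : ℂ)) ((s c)⁻¹ * x * s c) = 0 := by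
    intro c hc
    apply extendByZero_of_not_mem
    intro h
    have h2 : ((s c)⁻¹ * x * s c) • a = a := h
    rw [mul_smul, mul_smul, hs, inv_smul_eq_iff, hs] at h2
    exact hc h2
  have hterm_a : Cfsg.extendByZero (stabilizer G a) (fun g => (l g : ℂ)) ((s a)⁻¹ * x * s a) = (l x : ℂ) := by
    have h3 : (s a)⁻¹ * x * s a ∈ stabilizer G a :=
      Subgroup.mul_mem _ (Subgroup.mul_mem _ (Subgroup.inv_mem _ hsa) x.2) hsa
    rw [extendByZero_of_mem _ _ h3]
    have := hcl ⟨s a, hsa⟩ x
    exact this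
  by_cases hxH : (x : G) ∈ F
  · rw [if_pos hxH]
    rw [Finset.sum_eq_single a]
    · rw [hterm_a, hlH x hxH]
      simp
    · intro c _ hca
      exact hzero c fun h => hca (S.hFfix _ hxH hx1' c h)
    · intro h
      exact absurd (Finset.mem_univ _) h
  · rw [if_neg hxH]
    rw [zass_kernel_mem_iff hZ hab F S.hFa S.hFcard S.hFfix] at hxH
    push Not at hxH
    obtain ⟨-, c, hca, hxc⟩ := hxH hxa
    rw [Finset.sum_eq_add a c (Ne.symm hca)]
    · rw [hterm_a]
      congr 1
      -- the second term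
      obtain ⟨t, ht1, ht2⟩ := zass_two_trans hZ a c c a (Ne.symm hca) hca
      have hxE : (x : G) ∈ (stabilizer G a ⊓ stabilizer G c : Subgroup G) := ⟨hxa, hxc⟩
      have hconj := zass_swap_conj_mem ht1 ht2 hxE
      have hr : (t⁻¹ * s c) ∈ stabilizer G a := by
        change (t⁻¹ * s c) • a = a
        rw [mul_smul, hs, inv_smul_eq_iff, ht1]
      have h4 : (s c)⁻¹ * x * s c = (t⁻¹ * s c)⁻¹ * (t⁻¹ * x * t) * (t⁻¹ * s c) := by group
      have h5 : (s c)⁻¹ * x * s c ∈ stabilizer G a := by
        rw [h4]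
        exact Subgroup.mul_mem _ (Subgroup.mul_mem _ (Subgroup.inv_mem _ hr) hconj.1) hr
      rw [extendByZero_of_mem _ _ h5]
      have h6 := hcl ⟨_, hr⟩ ⟨t⁻¹ * x * t, hconj.1⟩
      have h7 : ((⟨t⁻¹ * s c, hr⟩ : stabilizer G a)⁻¹ * ⟨t⁻¹ * x * t, hconj.1⟩ * ⟨t⁻¹ * s c, hr⟩ : stabilizer G a) =
          ⟨(s c)⁻¹ * x * s c, h5⟩ := by
        apply Subtype.ext
        exact h4.symm
      rw [h7] at h6
      simp only at h6
      rw [h6]
      have h8 : l ⟨t⁻¹ * x * t, hconj.1⟩ = (l x)⁻¹ := by
        have h9 : (⟨t⁻¹ * x * t, hconj.1⟩ : stabilizer G a) = x⁻¹ :=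
          Subtype.ext (by simpa using hinv c hca t ht1 ht2 x hxE)
        rw [h9, map_inv]
      rw [h8]
    · intro c' _ hc'
      apply hzero
      intro h
      -- three fixed points
      apply hc'.1
      by_contra hne
      exact hx1' (zass_eq_one hZ (Ne.symm hca) (Ne.symm hc'.2) (Ne.symm hne) hxa hxc h)
    · intro h
      exact absurd (Finset.mem_univ _) h
    · intro h
      exact absurd (Finset.mem_univ _) h

/-- **The induced linear character is irreducible.** -/
theorem z_irr
    (hinv : ∀ c, c ≠ a → ∀ t : G, t • a = c → t • c = a → ∀ y ∈ stabilizer G a ⊓ stabilizer G c,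
      t⁻¹ * y * t = y⁻¹)
    (hodd : Odd (Nat.card (stabilizer G a ⊓ stabilizer G b : Subgroup G)))
    (l : stabilizer G a →* ℂˣ) (hlchar : IsCharacter (stabilizer G a) (fun g => (l g : ℂ)))
    (hlH : ∀ u : stabilizer G a, (u : G) ∈ F → l u = 1)
    (hne : l ≠ 1) :
    IsIrrCharacter G (indFun (stabilizer G a) (fun g => (l g : ℂ))) := by
  classical
  have hZ := S.hZ
  have hab := S.hab
  apply isIrr_of_character_norm_one (indFun_isCharacter _ hlchar)
  set ψ := indFun (stabilizer G a) (fun g => (l g : ℂ)) with hψ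
  have hval : ∀ (x : stabilizer G a), x ≠ 1 → ψ x = if (x : G) ∈ F then 1 else (l x : ℂ) + ((l x)⁻¹ : ℂˣ) :=
    S.z_value hinv l hlH
  have h1val : ψ 1 = (Fintype.card Ω : ℂ) := by
    rw [hψ, indFun_one]
    have h2 : (stabilizer G a).index = Fintype.card Ω := by
      have h3 := card_stab_eq hZ hab a
      have h4 := (stabilizer G a).card_mul_index
      have hpos : 0 < Nat.card (stabilizer G a) := Nat.card_pos
      exact Nat.eq_of_mul_eq_mul_left hpos (h4.trans h3.symm)
    rw [h2]
    simp
  rw [frobenius_reciprocity _ _ _ (indFun_isClassFunction _ _)]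
  rw [classInner_def]
  have hU : (Nat.card (stabilizer G a) : ℂ) ≠ 0 := by
    exact_mod_cast (Nat.card_pos (α := stabilizer G a)).ne'
  rw [inv_mul_eq_div, div_eq_one_iff_eq hU]
  have hpow : ∀ x : stabilizer G a, l x ^ Nat.card (stabilizer G a) = 1 := by
    intro x
    rw [← map_pow, pow_card_eq_one', map_one]
  have hconj : ∀ x : stabilizer G a, conj (l x : ℂ) = ((l x)⁻¹ : ℂˣ) := fun x =>
    (inv_eq_conj_of_pow_one Nat.card_pos (hpow x)).symm
  -- the value of each term
  have hterm : ∀ x : stabilizer G a, (l x : ℂ) * conj (ψ x) =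
      1 + (l x : ℂ) ^ 2 - (if (x : G) ∈ F then 1 else 0) + (if x = 1 then ((Fintype.card Ω : ℂ) - 1) else 0) := by
    intro x
    by_cases hx1 : x = 1
    · subst hx1
      have h3 : ((1 : stabilizer G a) : G) = 1 := rfl
      rw [h3, h1val, map_one]
      simp [F.one_mem]
    · rw [hval x hx1, if_neg hx1]
      by_cases hxH : (x : G) ∈ F
      · rw [if_pos hxH, if_pos hxH, hlH x hxH]
        simp
      · rw [if_neg hxH, if_neg hxH, map_add, hconj]
        have h3 : conj (((l x)⁻¹ : ℂˣ) : ℂ) = (l x : ℂ) := by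
          rw [← hconj, Complex.conj_conj]
        rw [h3]
        have h4 : (l x : ℂ) * ((l x)⁻¹ : ℂˣ) = 1 := by simp
        rw [mul_add, h4]
        ring
  rw [Finset.sum_congr rfl (fun x _ => hterm x)]
  rw [Finset.sum_add_distrib, Finset.sum_sub_distrib, Finset.sum_add_distrib]
  -- the sum of the squares
  have hne2 : ∃ y : stabilizer G a, l y ^ 2 ≠ 1 := by
    by_contra hcon
    push Not at hcon
    apply hne
    ext y
    suffices l y = 1 by simp [this]
    by_cases hyH : (y : G) ∈ F
    · exact hlH y hyH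
    · have hy := hyH
      rw [zass_kernel_mem_iff hZ hab F S.hFa S.hFcard S.hFfix] at hy
      push Not at hy
      obtain ⟨-, c, hca, hyc⟩ := hy y.2
      have hyE : (y : G) ∈ (stabilizer G a ⊓ stabilizer G c : Subgroup G) := ⟨y.2, hyc⟩
      have hoddc := zass_odd_any hZ hab hodd (Ne.symm hca)
      have h3 : (y : G) ^ Nat.card (stabilizer G a ⊓ stabilizer G c : Subgroup G) = 1 := by
        have := pow_card_eq_one' (x := (⟨y, hyE⟩ : (stabilizer G a ⊓ stabilizer G c : Subgroup G)))
        simpa [Subtype.ext_iff] using this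
      have h4 : y ^ Nat.card (stabilizer G a ⊓ stabilizer G c : Subgroup G) = 1 := Subtype.ext (by simpa using h3)
      apply eq_one_of_sq_of_odd (hcon y) _ hoddc
      rw [← map_pow, h4, map_one]
  have hsq0 : ∑ x : stabilizer G a, (l x : ℂ) ^ 2 = 0 := by
    obtain ⟨y, hy⟩ := hne2
    have h3 : ∑ x : stabilizer G a, (l x : ℂ) ^ 2 = (l y : ℂ) ^ 2 * ∑ x : stabilizer G a, (l x : ℂ) ^ 2 := by
      rw [Finset.mul_sum, ← Equiv.sum_comp (Equiv.mulLeft y)]
      refine Finset.sum_congr rfl fun x _ => ?_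
      simp only [Equiv.coe_mulLeft, map_mul, Units.val_mul]
      ring
    have h4 : ((l y : ℂ) ^ 2 - 1) * ∑ x : stabilizer G a, (l x : ℂ) ^ 2 = 0 := by
      rw [sub_mul, ← h3]
      ring
    rcases mul_eq_zero.mp h4 with h5 | h5
    · exfalso
      apply hy
      apply Units.ext
      simpa [sub_eq_zero] using h5
    · exact h5
  have hcardH : ∑ x : stabilizer G a, (if (x : G) ∈ F then (1 : ℂ) else 0) = (Nat.card F : ℂ) := by
    rw [Finset.sum_boole]
    congr 1
    rw [Nat.card_eq_fintype_card, Fintype.card_subtype]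
    refine Finset.card_bij (fun x _ => (x : G)) ?_ ?_ ?_
    · intro x hx
      simpa using hx
    · intro x _ y _ h
      exact Subtype.ext h
    · intro y hy
      simp only [Finset.mem_filter, Finset.mem_univ, true_and] at hy
      exact ⟨⟨y, S.hFa hy⟩, by simpa using hy, rfl⟩
  rw [hsq0, hcardH]
  simp only [Finset.sum_const, Finset.card_univ, nsmul_eq_mul, mul_one, Finset.sum_ite_eq', Finset.mem_univ, if_true]
  rw [← S.hFcard]
  push_cast
  rw [Fintype.card_eq_nat_card]
  ring

end Setup

end Cfsg.Agent.Lib.Perm.ZA
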