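import Mathlib
import Cfsg.Agent.Lib.Perm.ZassAb3

/-!
Zassenhaus groups with an abelian kernel: inner products and the decomposition of the character
induced from the trivial character of the kernel.
-/

set_option autoImplicit false
set_option linter.unusedSectionVars false
set_option linter.unusedVariables false
set_option linter.style.haveILetI false
set_option linter.unusedSimpArgs false
set_option linter.unnecessarySimpa false

open MulAction
open scoped ComplexConjugate
open Cfsg (classInner IsCharacter IsIrrCharacter IrrCharacter IsClassFunction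
  IsGeneralizedCharacter extendByZero indFun)

namespace Cfsg.Agent.Lib.Perm.ZA

open Cfsg.Agent.Lib.Char

universe u v

variable {G : Type u} {Ω : Type v} [Group G] [MulAction G Ω] [Fintype G] [Fintype Ω]
  {a b : Ω} {F : Subgroup G}

local notation "E" => (stabilizer G a ⊓ stabilizer G b : Subgroup G)

namespace Setup

variable (S : Setup G Ω a b F)
include S

/-- The retraction of the point stabilizer onto the two point stabilizer. -/
theorem exists_retr : ∃ ρ : stabilizer G a →* E, (∀ x : stabilizer G a, ρ x = 1 ↔ (x : G) ∈ F) ∧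
    ∀ e : E, ρ ⟨e, e.2.1⟩ = e := by
  have h : ∀ x : stabilizer G a, ∃ e : E, (x : G) * (e : G)⁻¹ ∈ F := by
    intro x
    obtain ⟨f, hf, e, he, hx⟩ := S.decomp x.2
    refine ⟨⟨e, he⟩, ?_⟩
    rw [hx]
    simpa using hf
  choose r hr using h
  have huniq : ∀ (x : stabilizer G a) (e : E), (x : G) * (e : G)⁻¹ ∈ F → r x = e := by
    intro x e he
    have h1 : (x : G) * ((r x : E) : G)⁻¹ * ((r x : E) : G) = (x : G) * (e : G)⁻¹ * (e : G) := by
      group
    exact Subtype.ext (S.decomp_inj (hr x) he (r x).2 e.2 h1).2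
  let ρ : stabilizer G a →* E :=
    { toFun := r
      map_one' := huniq 1 1 (by simp [one_mem])
      map_mul' := fun x y => by
        apply huniq
        have h1 := S.conj_mem (s := (x : G)) x.2 (hr y)
        have h2 := mul_mem h1 (hr x)
        have h3 : (x : G) * ((y : G) * ((r y : E) : G)⁻¹) * (x : G)⁻¹ * ((x : G) * ((r x : E) : G)⁻¹) =
            (((x * y : stabilizer G a) : G)) * (((r x * r y : E) : G))⁻¹ := by
          push_cast
          group
        rwa [h3] at h2 }
  refine ⟨ρ, fun x => ⟨fun h0 => ?_, fun h0 => ?_⟩, fun e => ?_⟩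
  · have h1 := hr x
    have h2 : r x = 1 := h0
    rw [h2] at h1
    simpa using h1
  · apply huniq
    simpa using h0
  · apply huniq
    simp [one_mem]

theorem comm_irr_one {X : Type*} [Group X] [Finite X] (hc : ∀ x y : X, x * y = y * x)
    (ν : IrrCharacter X) : (ν : X → ℂ) 1 = 1 :=
  charDegree_eq_one_of_comm hc ν.2

open Classical in
/-- Orthogonality for the inflated characters. -/
theorem sum_inflate (hEc : ∀ x y : E, x * y = y * x) (ρ : stabilizer G a →* E)
    (hρ : ∀ x : stabilizer G a, ρ x = 1 ↔ (x : G) ∈ F) (x : stabilizer G a) :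
    ∑ ν : IrrCharacter E, (ν : E → ℂ) (ρ x) = if (x : G) ∈ F then (Nat.card E : ℂ) else 0 := by
  haveI : Fintype E := Fintype.ofFinite _
  have h1 := second_orthogonality (ρ x) (1 : E)
  have h2 : ∀ ν : IrrCharacter E, (ν : E → ℂ) (ρ x) * conj ((ν : E → ℂ) 1) = (ν : E → ℂ) (ρ x) := by
    intro ν
    rw [comm_irr_one S hEc ν]
    simp
  simp only [h2] at h1
  rw [h1]
  by_cases hx : (x : G) ∈ F
  · have h3 : ρ x = 1 := (hρ x).mpr hx
    rw [if_pos hx, h3, if_pos (IsConj.refl _)]
    have h4 : Subgroup.centralizer ({1} : Set E) = ⊤ := by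
      ext y
      simp [Subgroup.mem_centralizer_singleton_iff]
    rw [h4, Subgroup.card_top]
  · rw [if_neg hx, if_neg]
    intro hc
    exact hx ((hρ x).mp (isConj_one_right.mp hc.symm))

/-- The decomposition of the character induced from the trivial character of the kernel. -/
theorem ind_triv_eq_sum (hEc : ∀ x y : E, x * y = y * x) (ρ : stabilizer G a →* E)
    (hρ : ∀ x : stabilizer G a, ρ x = 1 ↔ (x : G) ∈ F) :
    indFun F (fun _ => (1 : ℂ)) =
      ∑ ν : IrrCharacter E, indFun (stabilizer G a) (fun x => (ν : E → ℂ) (ρ x)) := by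
  classical
  rw [← indFun_sum]
  funext g
  rw [indFun_apply, indFun_apply]
  have h1 : ∀ y : G, extendByZero (stabilizer G a)
      (∑ ν : IrrCharacter E, fun x : stabilizer G a => (ν : E → ℂ) (ρ x)) y =
      (Nat.card E : ℂ) * extendByZero F (fun _ => (1 : ℂ)) y := by
    intro y
    by_cases hy : y ∈ stabilizer G a
    · rw [extendByZero_of_mem _ _ hy, Finset.sum_apply, S.sum_inflate hEc ρ hρ]
      by_cases hy2 : y ∈ F
      · rw [extendByZero_of_mem _ _ hy2]
        simp [hy2]
      · rw [extendByZero_of_not_mem _ _ hy2]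
        simp [hy2]
    · rw [extendByZero_of_not_mem _ _ hy]
      have hy2 : y ∉ F := fun h => hy (S.hFa h)
      rw [extendByZero_of_not_mem _ _ hy2]
      simp
  simp only [h1]
  rw [← Finset.mul_sum, ← mul_assoc]
  congr 1
  have h2 := zass_card_stabilizer S.hZ S.hab
  have h3 := S.hFcard
  have h4 : Nat.card (stabilizer G a) = Nat.card E * Nat.card F := by
    rw [← h2]
    congr 1
    omega
  rw [h4]
  have h5 : (Nat.card E : ℂ) ≠ 0 := by exact_mod_cast (Nat.card_pos (α := E)).ne'
  have h6 : (Nat.card F : ℂ) ≠ 0 := by exact_mod_cast (Nat.card_pos (α := F)).ne'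
  push_cast
  field_simp

/-- Inner products of induced characters with class functions with two values on the kernel. -/
theorem inner_values [Fintype F] {ψ : G → ℂ} (hψ : IsClassFunction G ψ) {x y : ℂ} (h1 : ψ 1 = x)
    (hu : ∀ u ∈ F, u ≠ 1 → ψ u = y) {lam : F → ℂ} (hlam : IsIrrCharacter F lam)
    (hne : lam ≠ fun _ => 1) :
    classInner (indFun F lam) ψ = (conj x - conj y) / (Nat.card F : ℂ) := by
  classical
  rw [frobenius_reciprocity _ _ _ hψ, classInner_def]
  have h0 : (Nat.card F : ℂ) ≠ 0 := by exact_mod_cast (Nat.card_pos (α := F)).ne'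
  have hlam1 : lam 1 = 1 := S.irr_one hlam
  have h2 : ∀ u : F, lam u * conj (ψ u) = lam u * conj y + if u = 1 then conj x - conj y else 0 := by
    intro u
    by_cases hu1 : u = 1
    · subst hu1
      rw [if_pos rfl, hlam1]
      have h3 : ((1 : F) : G) = 1 := rfl
      rw [h3, h1]
      ring
    · rw [if_neg hu1, add_zero, hu u u.2 (fun h => hu1 (Subtype.ext h))]
  simp only [h2]
  rw [Finset.sum_add_distrib, ← Finset.sum_mul]
  have h3 : ∑ u : F, lam u = 0 := by
    have h4 := classInner_irr_of_ne hlam isIrrCharacter_one hne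
    rw [classInner_def] at h4
    simp only [map_one, mul_one] at h4
    rcases mul_eq_zero.mp h4 with h5 | h5
    · exact absurd h5 (inv_ne_zero h0)
    · exact h5
  rw [h3, Finset.sum_ite_eq' Finset.univ (1 : F)]
  simp only [Finset.mem_univ, if_true, zero_mul, zero_add]
  field_simp

theorem inner_values_one [Fintype F] {ψ : G → ℂ} (hψ : IsClassFunction G ψ) {x y : ℂ} (h1 : ψ 1 = x)
    (hu : ∀ u ∈ F, u ≠ 1 → ψ u = y) :
    classInner (indFun F (fun _ => (1 : ℂ))) ψ =
      (conj x + conj y * ((Nat.card F : ℂ) - 1)) / (Nat.card F : ℂ) := by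
  classical
  rw [frobenius_reciprocity _ _ _ hψ, classInner_def]
  have h0 : (Nat.card F : ℂ) ≠ 0 := by exact_mod_cast (Nat.card_pos (α := F)).ne'
  have h2 : ∀ u : F, (1 : ℂ) * conj (ψ u) = conj y + if u = 1 then conj x - conj y else 0 := by
    intro u
    by_cases hu1 : u = 1
    · subst hu1
      rw [if_pos rfl]
      have h3 : ((1 : F) : G) = 1 := rfl
      rw [h3, h1]
      ring
    · rw [if_neg hu1, add_zero, hu u u.2 (fun h => hu1 (Subtype.ext h)), one_mul]
  simp only [h2]
  rw [Finset.sum_add_distrib, Finset.sum_const, Finset.sum_ite_eq' Finset.univ (1 : F)]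
  simp only [Finset.mem_univ, if_true, Finset.card_univ, ← Nat.card_eq_fintype_card, nsmul_eq_mul]
  field_simp
  ring

/-- Cases for the inner product. -/
theorem inner_cases [Fintype F] [Fintype E] {lam mu : F → ℂ} (hlam : IsIrrCharacter F lam)
    (hmu : IsIrrCharacter F mu) (hmu1 : mu ≠ fun _ => 1) :
    classInner (indFun F lam) (indFun F mu) = (Nat.card E : ℂ) ∨
      classInner (indFun F lam) (indFun F mu) = (Nat.card E : ℂ) + 1 := by
  classical
  rw [S.inner_ind hlam hmu (S.irr_one hlam) (S.irr_one hmu)]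
  simp only [S.inner_comp hlam hmu]
  rw [Finset.sum_boole]
  have h1 : (Finset.univ.filter fun e : E => lam = fun u => mu (S.cj e u)).card ≤ 1 := by
    rw [Finset.card_le_one]
    intro e he f hf
    simp only [Finset.mem_filter, Finset.mem_univ, true_and] at he hf
    exact S.char_unique hmu hmu1 e f (he.symm.trans hf)
  interval_cases h2 : (Finset.univ.filter fun e : E => lam = fun u => mu (S.cj e u)).card
  · left
    simp
  · right
    simp
    ring

theorem inner_self [Fintype F] [Fintype E] {mu : F → ℂ} (hmu : IsIrrCharacter F mu)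
    (hmu1 : mu ≠ fun _ => 1) :
    classInner (indFun F mu) (indFun F mu) = (Nat.card E : ℂ) + 1 := by
  classical
  rw [S.inner_ind hmu hmu (S.irr_one hmu) (S.irr_one hmu)]
  simp only [S.inner_comp hmu hmu]
  rw [Finset.sum_eq_single (1 : E)]
  · rw [if_pos]
    · ring
    · funext u
      rw [S.cj_one]
  · intro e _ he
    rw [if_neg]
    intro h0
    apply he
    apply S.char_unique hmu hmu1
    funext u
    rw [S.cj_one]
    exact (congrFun h0 u).symm
  · intro h
    exact absurd (Finset.mem_univ _) h

theorem inner_triv [Fintype F] [Fintype E] {mu : F → ℂ} (hmu : IsIrrCharacter F mu)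
    (hmu1 : mu ≠ fun _ => 1) :
    classInner (indFun F (fun _ => (1 : ℂ))) (indFun F mu) = (Nat.card E : ℂ) := by
  classical
  rw [S.inner_ind isIrrCharacter_one hmu rfl (S.irr_one hmu)]
  simp only [S.inner_comp isIrrCharacter_one hmu]
  rw [Finset.sum_eq_zero, zero_add]
  intro e _
  rw [if_neg]
  intro h0
  apply hmu1
  funext v
  have h1 := congrFun h0 ((S.cj e).symm v)
  simp only [MulEquiv.apply_symm_apply] at h1
  exact h1.symm

end Setup

end Cfsg.Agent.Lib.Perm.ZA
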