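import Mathlib
import Cfsg.Agent.Lib.Perm.ZassAb4

/-!
Zassenhaus groups with an abelian kernel: the main character computation.
-/

set_option autoImplicit false
set_option linter.unusedSectionVars false
set_option linter.unusedVariables false
set_option linter.style.haveILetI false
set_option linter.unusedSimpArgs false
set_option linter.unnecessarySimpa false

open MulAction
open scoped ComplexConjugate
open Cfsg (classInner IsCharacter IsIrrCharacter IrrCharacter IsClassFunction
  IsGeneralizedCharacter extendByZero indFun)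

namespace Cfsg.Agent.Lib.Perm.ZA

open Cfsg.Agent.Lib.Char

universe u v

variable {G : Type u} {Ω : Type v} [Group G] [MulAction G Ω] [Fintype G] [Fintype Ω]
  {a b : Ω} {F : Subgroup G}

local notation "E" => (stabilizer G a ⊓ stabilizer G b : Subgroup G)

namespace Setup

variable (S : Setup G Ω a b F)
include S

theorem transitive : IsPretransitive G Ω := by
  haveI : Nontrivial Ω := ⟨a, b, S.hab⟩
  exact ⟨fun x y => zass_isPretransitive S.hZ zass_two_le_card x y⟩

theorem index_stab : (stabilizer G a).index = Nat.card F + 1 := by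
  have h3 := card_stab_eq S.hZ S.hab a
  have h4 := (stabilizer G a).card_mul_index
  have hpos : 0 < Nat.card (stabilizer G a) := Nat.card_pos
  rw [S.hFcard]
  exact Nat.eq_of_mul_eq_mul_left hpos (h4.trans h3.symm)

/-- The number of fixed points of an element of the kernel. -/
theorem card_fix_kernel {u : G} (hu : u ∈ F) (hu1 : u ≠ 1) : Nat.card (fixedBy Ω u) = 1 := by
  have h1 : fixedBy Ω u = {a} := by
    ext c
    simp only [Set.mem_singleton_iff, mem_fixedBy]
    constructor
    · exact S.hFfix u hu hu1 c
    · rintro rfl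
      exact S.hFa hu
  rw [h1]
  simp

theorem card_fix_one : Nat.card (fixedBy Ω (1 : G)) = Nat.card F + 1 := by
  have h1 : fixedBy Ω (1 : G) = Set.univ := by
    ext c
    simp
  rw [h1, S.hFcard.trans (Nat.card_eq_fintype_card (α := Ω)).symm]
  simp

/-- The induced function from the point stabilizer vanishes off the fixed points. -/
theorem ind_stab_fpf (θ : stabilizer G a → ℂ) {g : G} (hg : ∀ c : Ω, g • c ≠ c) :
    indFun (stabilizer G a) θ g = 0 := by
  rw [indFun_apply, Finset.sum_eq_zero, mul_zero]
  intro x _
  apply extendByZero_of_not_mem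
  intro h
  have h3 : (x⁻¹ * g * x) • a = a := h
  rw [mul_smul, mul_smul, inv_smul_eq_iff] at h3
  exact hg _ h3

theorem ind_kernel_fpf (θ : F → ℂ) {g : G} (hg : ∀ c : Ω, g • c ≠ c) :
    indFun F θ g = 0 := by
  rw [indFun_apply, Finset.sum_eq_zero, mul_zero]
  intro x _
  apply extendByZero_of_not_mem
  intro h
  have h3 : (x⁻¹ * g * x) • a = a := S.hFa h
  rw [mul_smul, mul_smul, inv_smul_eq_iff] at h3
  exact hg _ h3

/-- Classification of the constituents of the character induced from the trivial character of
the kernel. -/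
theorem classify [Fintype F] [Fintype E]
    (hinv : ∀ c, c ≠ a → ∀ t : G, t • a = c → t • c = a → ∀ y ∈ stabilizer G a ⊓ stabilizer G c,
      t⁻¹ * y * t = y⁻¹)
    (hodd : Odd (Nat.card E)) (hEc : ∀ x y : E, x * y = y * x)
    {lam : F → ℂ} (hlam : IsIrrCharacter F lam) (hne : lam ≠ fun _ => 1)
    {g : G} (hg : ∀ c : Ω, g • c ≠ c) {η : G → ℂ} (hη : IsIrrCharacter G η)
    (hb : classInner (indFun F (fun _ => (1 : ℂ))) η ≠ 0) :
    η = (fun g : G => (Nat.card (fixedBy Ω g) : ℂ) - 1) ∨
      (2 * classInner (indFun F lam) η ^ 2 =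
          classInner (indFun F (fun _ => (1 : ℂ))) η * classInner (indFun F lam) η ∧
        classInner (indFun F lam) η * η g = 0) := by
  classical
  haveI htr := S.transitive
  have hn0 : (Nat.card F : ℂ) ≠ 0 := by exact_mod_cast (Nat.card_pos (α := F)).ne'
  obtain ⟨ρ, hρ, hρe⟩ := S.exists_retr
  have hb0 := hb
  rw [S.ind_triv_eq_sum hEc ρ hρ, classInner_sum_left] at hb0
  obtain ⟨ν, -, hν⟩ := Finset.exists_ne_zero_of_sum_ne_zero hb0
  obtain ⟨lν, hlν⟩ := exists_hom_of_character_one (IsIrrCharacter.isCharacter ν.2)
    (comm_irr_one S hEc ν)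
  let l : stabilizer G a →* ℂˣ := lν.comp ρ
  have hZeq : (fun x : stabilizer G a => (ν : E → ℂ) (ρ x)) = fun x => (l x : ℂ) := by
    funext x
    rw [hlν]
    rfl
  rw [hZeq] at hν
  have hlchar : IsCharacter (stabilizer G a) (fun x => (l x : ℂ)) := by
    rw [← hZeq]
    exact IsCharacter.comp ρ (IsIrrCharacter.isCharacter ν.2)
  have hlF : ∀ u : stabilizer G a, (u : G) ∈ F → l u = 1 := by
    intro u hu
    show lν (ρ u) = 1
    rw [(hρ u).mpr hu, map_one]
  have hX : 2 ≤ Nat.card Ω := by
    haveI : Nontrivial Ω := ⟨a, b, S.hab⟩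
    rw [Nat.card_eq_fintype_card]
    exact zass_two_le_card
  have hχ₀ : IsIrrCharacter G (fun g : G => (Nat.card (fixedBy Ω g) : ℂ) - 1) :=
    (permChar_sub_one_isIrr_iff (G := G) (X := Ω) hX).mpr S.hZ.2.1
  by_cases hl : l = 1
  · -- trivial case
    have hZ1 : indFun (stabilizer G a) (fun x => (l x : ℂ)) =
        fun g : G => (Nat.card (fixedBy Ω g) : ℂ) := by
      funext g
      rw [indFun_one_apply_eq_fixedBy a g, hl]
      simp
    rw [hZ1] at hν
    by_cases h1 : η = fun g : G => (Nat.card (fixedBy Ω g) : ℂ) - 1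
    · exact Or.inl h1
    · right
      have h2 : (fun g : G => (Nat.card (fixedBy Ω g) : ℂ)) =
          (fun _ => (1 : ℂ)) + (fun g : G => (Nat.card (fixedBy Ω g) : ℂ) - 1) := by
        funext g
        simp
      rw [h2, classInner_add_left, classInner_irr_of_ne hχ₀ hη (Ne.symm h1), add_zero] at hν
      have h3 : η = fun _ => 1 := by
        by_contra h4
        exact hν (classInner_irr_of_ne isIrrCharacter_one hη (Ne.symm h4))
      have h4 : classInner (indFun F lam) η = 0 := by
        rw [h3, S.inner_values (IsCharacter.isClassFunction IsCharacter.one) rfl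
          (fun u _ _ => rfl) hlam hne]
        simp
      rw [h4]
      simp
  · -- nontrivial case
    have hirr := S.z_irr hinv hodd l hlchar hlF hl
    have h1 : η = indFun (stabilizer G a) (fun x => (l x : ℂ)) := by
      by_contra h2
      exact hν (classInner_irr_of_ne hirr hη (Ne.symm h2))
    right
    have hZ1 : indFun (stabilizer G a) (fun x => (l x : ℂ)) 1 = (Nat.card F : ℂ) + 1 := by
      rw [indFun_one, S.index_stab]
      simp
    have hZu : ∀ u ∈ F, u ≠ 1 → indFun (stabilizer G a) (fun x => (l x : ℂ)) u = 1 := by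
      intro u hu hu1
      have h2 := S.z_value hinv l hlF ⟨u, S.hFa hu⟩ (fun h => hu1 (congrArg Subtype.val h))
      rw [if_pos hu] at h2
      exact h2
    have hcl := indFun_isClassFunction (stabilizer G a) (fun x => (l x : ℂ))
    have h2 := S.inner_values hcl hZ1 hZu hlam hne
    have h3 := S.inner_values_one hcl hZ1 hZu
    have h4 : classInner (indFun F lam) η = 1 := by
      rw [h1, h2]
      simp only [map_add, map_natCast, map_one, Complex.conj_natCast]
      field_simp
      ring
    have h5 : classInner (indFun F (fun _ => (1 : ℂ))) η = 2 := by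
      rw [h1, h3]
      simp only [map_add, map_natCast, map_one, Complex.conj_natCast]
      field_simp
      ring
    rw [h4, h5]
    constructor
    · norm_num
    · rw [h1, S.ind_stab_fpf _ hg, mul_zero]

end Setup

end Cfsg.Agent.Lib.Perm.ZA
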