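import Mathlib
import Cfsg.Agent.Lib.Perm.ZassAb5

/-!
Zassenhaus groups with an abelian kernel: the divisibility from character theory.
-/

set_option autoImplicit false
set_option linter.unusedSectionVars false
set_option linter.unusedVariables false
set_option linter.style.haveILetI false
set_option linter.unusedSimpArgs false
set_option linter.unnecessarySimpa false

open MulAction
open scoped ComplexConjugate
open Cfsg (classInner IsCharacter IsIrrCharacter IrrCharacter IsClassFunction
  IsGeneralizedCharacter extendByZero indFun)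

namespace Cfsg.Agent.Lib.Perm.ZA

open Cfsg.Agent.Lib.Char

universe u v

variable {G : Type u} {Ω : Type v} [Group G] [MulAction G Ω] [Fintype G] [Fintype Ω]
  {a b : Ω} {F : Subgroup G}

local notation "E" => (stabilizer G a ⊓ stabilizer G b : Subgroup G)

namespace Setup

variable (S : Setup G Ω a b F)
include S

/-- Existence of an element without fixed points. -/
theorem exists_fpf : ∃ g : G, ∀ c : Ω, g • c ≠ c := by
  classical
  have h1 := two_card_fpf S.hZ S.hab
  have h2 := S.card_group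
  have h3 := S.hFcard
  have hn : 0 < Nat.card F := Nat.card_pos
  have hd : 0 < Nat.card E := Nat.card_pos
  by_contra hcon
  push Not at hcon
  have h4 : (Finset.univ.filter fun g : G => ∀ c : Ω, g • c ≠ c) = ∅ := by
    ext g
    simp [hcon g]
  rw [h4, Finset.card_empty, h2, ← h3] at h1
  simp only [mul_zero, zero_add, Nat.add_sub_cancel] at h1
  have h5 : Nat.card F + 1 - 2 = Nat.card F - 1 := by omega
  rw [h5] at h1
  have h6 : Nat.card E * (Nat.card F + 1) * Nat.card F = (Nat.card E * (Nat.card F + 1)) * Nat.card F := rfl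
  have h7 : Nat.card F * (Nat.card F - 1) < Nat.card F * (Nat.card E * (Nat.card F + 1)) := by
    apply Nat.mul_lt_mul_of_pos_left _ hn
    calc Nat.card F - 1 < Nat.card F + 1 := by omega
      _ ≤ Nat.card E * (Nat.card F + 1) := Nat.le_mul_of_pos_left _ hd
  nlinarith

/-- The main divisibility. -/
theorem char_core
    (hinv : ∀ c, c ≠ a → ∀ t : G, t • a = c → t • c = a → ∀ y ∈ stabilizer G a ⊓ stabilizer G c,
      t⁻¹ * y * t = y⁻¹)
    (hodd : Odd (Nat.card E)) (hEc : ∀ x y : E, x * y = y * x) (hd1 : Nat.card E ≠ 1) :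
    Nat.card F - 1 ∣ 2 * Nat.card E := by
  classical
  haveI : Fintype F := Fintype.ofFinite _
  haveI : Fintype E := Fintype.ofFinite _
  haveI htr := S.transitive
  obtain ⟨c₃, hc₃a, hc₃b⟩ := zass_exists_third S.hZ S.hab
  have hn2 : 2 ≤ Nat.card F := by
    have h1 : ({a, b, c₃} : Finset Ω).card = 3 := by
      rw [Finset.card_eq_three]
      exact ⟨a, b, c₃, S.hab, Ne.symm hc₃a, Ne.symm hc₃b, rfl⟩
    have h2 : 3 ≤ Fintype.card Ω := by
      rw [← h1]
      exact Finset.card_le_univ _
    have h3 := S.hFcard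
    omega
  set n := Nat.card F with hn
  set d := Nat.card E with hd
  have hn0 : (n : ℂ) ≠ 0 := by
    have : n ≠ 0 := by omega
    exact_mod_cast this
  obtain ⟨g, hg⟩ := S.exists_fpf
  -- irreducible characters of the kernel
  let one : IrrCharacter F := ⟨fun _ => 1, isIrrCharacter_one⟩
  have hlin : ∀ l : IrrCharacter F, (l : F → ℂ) 1 = 1 := fun l => S.irr_one l.2
  have hcardIrr : Fintype.card (IrrCharacter F) = n := by
    have h1 := sum_degree_sq (G := F)
    simp only [hlin, one_pow, Finset.sum_const, Finset.card_univ, nsmul_eq_mul, mul_one] at h1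
    exact_mod_cast h1
  obtain ⟨lam₀, hlam₀⟩ := Fintype.exists_ne_of_one_lt_card (by omega : 1 < Fintype.card (IrrCharacter F)) one
  have hnone : ∀ l : IrrCharacter F, l ≠ one → (l : F → ℂ) ≠ fun _ => 1 := fun l hl h0 =>
    hl (Subtype.ext h0)
  let T : IrrCharacter F → G → ℂ := fun l => indFun F (l : F → ℂ)
  have hTchar : ∀ l, IsCharacter G (T l) := fun l =>
    indFun_isCharacter F (IsIrrCharacter.isCharacter l.2)
  have hTcl : ∀ l, IsClassFunction G (T l) := fun l => indFun_isClassFunction F _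
  have hT1 : ∀ l, T l 1 = ((n + 1) * d : ℕ) := by
    intro l
    show indFun F (l : F → ℂ) 1 = _
    rw [indFun_one, S.card_index]
    rw [hlin l, mul_one]
  have hTg : ∀ l, T l g = 0 := fun l => S.ind_kernel_fpf _ hg
  -- multiplicities
  have hcc : ∀ (l : IrrCharacter F) (η : IrrCharacter G), ∃ m : ℕ, classInner (T l) (η : G → ℂ) = m :=
    fun l η => classInner_isCharacter_nat (hTchar l) (IsIrrCharacter.isCharacter η.2)
  choose cc hcc using hcc
  have hcc' : ∀ (l : IrrCharacter F) (η : IrrCharacter G), classInner (η : G → ℂ) (T l) = cc l η := by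
    intro l η
    rw [← conj_classInner, hcc, Complex.conj_natCast]
  let χ₀ : G → ℂ := fun g : G => (Nat.card (fixedBy Ω g) : ℂ) - 1
  have hX : 2 ≤ Nat.card Ω := by
    haveI : Nontrivial Ω := ⟨a, b, S.hab⟩
    rw [Nat.card_eq_fintype_card]
    exact zass_two_le_card
  have hχ₀ : IsIrrCharacter G χ₀ := (permChar_sub_one_isIrr_iff (G := G) (X := Ω) hX).mpr S.hZ.2.1
  let χ₀' : IrrCharacter G := ⟨χ₀, hχ₀⟩
  have hχ1 : χ₀ 1 = (n : ℂ) := by
    show (Nat.card (fixedBy Ω (1 : G)) : ℂ) - 1 = _
    rw [S.card_fix_one]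
    push_cast
    ring
  have hχu : ∀ u ∈ F, u ≠ 1 → χ₀ u = 0 := by
    intro u hu hu1
    show (Nat.card (fixedBy Ω u) : ℂ) - 1 = _
    rw [S.card_fix_kernel hu hu1]
    simp
  have hχg : χ₀ g = -1 := by
    show (Nat.card (fixedBy Ω g) : ℂ) - 1 = _
    have h1 : fixedBy Ω g = ∅ := by
      ext c
      simp [hg c]
    rw [h1]
    simp
  have hχcl : IsClassFunction G χ₀ := IsCharacter.isClassFunction (IsIrrCharacter.isCharacter hχ₀)
  have hcχ : ∀ l, l ≠ one → cc l χ₀' = 1 := by
    intro l hl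
    have h1 := S.inner_values hχcl hχ1 hχu l.2 (hnone l hl)
    have h2 : classInner (T l) χ₀ = 1 := by
      show classInner (indFun F (l : F → ℂ)) χ₀ = 1
      rw [h1, map_zero, sub_zero, Complex.conj_natCast]
      exact div_self hn0
    have h3 := hcc l χ₀'
    rw [show ((χ₀' : IrrCharacter G) : G → ℂ) = χ₀ from rfl, h2] at h3
    exact_mod_cast h3.symm
  have hbχ : cc one χ₀' = 1 := by
    have h1 := S.inner_values_one hχcl hχ1 hχu
    have h2 : classInner (T one) χ₀ = 1 := by
      show classInner (indFun F (fun _ => (1 : ℂ))) χ₀ = 1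
      rw [h1, map_zero, zero_mul, add_zero, Complex.conj_natCast]
      exact div_self hn0
    have h3 := hcc one χ₀'
    rw [show ((χ₀' : IrrCharacter G) : G → ℂ) = χ₀ from rfl, h2] at h3
    exact_mod_cast h3.symm
  -- the sums
  have hC1 : ∑ η : IrrCharacter G, cc one η * cc lam₀ η = d := by
    have h1 := classInner_eq_sum (T one) (T lam₀) (hTcl _) (hTcl _)
    have h2 : classInner (T one) (T lam₀) = (d : ℂ) := S.inner_triv lam₀.2 (hnone _ hlam₀)
    simp only [hcc, Complex.conj_natCast] at h1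
    rw [h2] at h1
    exact_mod_cast h1.symm
  have hC2 : ∑ η : IrrCharacter G, cc lam₀ η ^ 2 = d + 1 := by
    have h1 := classInner_eq_sum (T lam₀) (T lam₀) (hTcl _) (hTcl _)
    have h2 : classInner (T lam₀) (T lam₀) = (d : ℂ) + 1 := S.inner_self lam₀.2 (hnone _ hlam₀)
    simp only [hcc, Complex.conj_natCast] at h1
    rw [h2] at h1
    have h3 : ∀ η : IrrCharacter G, (cc lam₀ η : ℂ) * (cc lam₀ η : ℂ) = ((cc lam₀ η ^ 2 : ℕ) : ℂ) := by
      intro η
      push_cast
      ring
    simp only [h3] at h1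
    exact_mod_cast h1.symm
  have hC3 : ∑ η : IrrCharacter G, (cc lam₀ η : ℂ) * (η : G → ℂ) g = 0 := by
    have h1 := congrFun (classFunction_eq_sum (T lam₀) (hTcl _)) g
    rw [hTg, Finset.sum_apply] at h1
    simp only [Pi.smul_apply, smul_eq_mul, hcc] at h1
    exact h1.symm
  -- the classification
  have hCl : ∀ η : IrrCharacter G, cc one η ≠ 0 → η = χ₀' ∨
      (2 * cc lam₀ η ^ 2 = cc one η * cc lam₀ η ∧ (cc lam₀ η : ℂ) * (η : G → ℂ) g = 0) := by
    intro η hη
    have h0 : classInner (indFun F (fun _ => (1 : ℂ))) (η : G → ℂ) ≠ 0 := by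
      have h1 := hcc one η
      have h2 : classInner (T one) (η : G → ℂ) = classInner (indFun F (fun _ => (1 : ℂ))) (η : G → ℂ) := rfl
      rw [← h2, h1]
      exact_mod_cast hη
    rcases S.classify hinv hodd hEc lam₀.2 (hnone _ hlam₀) hg η.2 h0 with h1 | ⟨h1, h2⟩
    · exact Or.inl (Subtype.ext h1)
    · right
      have h3 : classInner (indFun F (lam₀ : F → ℂ)) (η : G → ℂ) = cc lam₀ η := hcc lam₀ η
      have h4 : classInner (indFun F (fun _ => (1 : ℂ))) (η : G → ℂ) = cc one η := hcc one η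
      rw [h3, h4] at h1
      rw [h3] at h2
      refine ⟨?_, h2⟩
      exact_mod_cast h1
  -- splitting the sums
  let A : Finset (IrrCharacter G) := Finset.univ.filter fun η => cc one η = 0
  let A' : Finset (IrrCharacter G) := Finset.univ.filter fun η => ¬ cc one η = 0
  have hχA : χ₀' ∈ A' := by
    simp only [A', Finset.mem_filter, Finset.mem_univ, true_and]
    rw [hbχ]
    exact one_ne_zero
  have hE1 : 2 * ∑ η ∈ A, cc lam₀ η ^ 2 + 1 = d + 2 := by
    have h1 : ∑ η : IrrCharacter G, (2 * (cc lam₀ η : ℤ) ^ 2 - (cc one η : ℤ) * cc lam₀ η) = (d : ℤ) + 2 := by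
      rw [Finset.sum_sub_distrib, ← Finset.mul_sum]
      have h2 : ∑ η : IrrCharacter G, (cc lam₀ η : ℤ) ^ 2 = (d : ℤ) + 1 := by exact_mod_cast hC2
      have h3 : ∑ η : IrrCharacter G, (cc one η : ℤ) * cc lam₀ η = (d : ℤ) := by exact_mod_cast hC1
      rw [h2, h3]
      ring
    rw [← Finset.sum_filter_add_sum_filter_not Finset.univ (fun η => cc one η = 0)] at h1
    have h2 : ∑ η ∈ A', (2 * (cc lam₀ η : ℤ) ^ 2 - (cc one η : ℤ) * cc lam₀ η) = 1 := by
      rw [Finset.sum_eq_single χ₀']
      · rw [hbχ, hcχ lam₀ hlam₀]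
        norm_num
      · intro η hη hne
        simp only [A', Finset.mem_filter, Finset.mem_univ, true_and] at hη
        rcases hCl η hη with h3 | ⟨h3, -⟩
        · exact absurd h3 hne
        · have h4 : (2 * (cc lam₀ η : ℤ) ^ 2) = (cc one η : ℤ) * cc lam₀ η := by exact_mod_cast h3
          omega
      · intro h
        exact absurd hχA h
    have h3 : ∑ η ∈ A, (2 * (cc lam₀ η : ℤ) ^ 2 - (cc one η : ℤ) * cc lam₀ η) =
        2 * ∑ η ∈ A, (cc lam₀ η : ℤ) ^ 2 := by
      rw [Finset.mul_sum]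
      refine Finset.sum_congr rfl fun η hη => ?_
      simp only [A, Finset.mem_filter, Finset.mem_univ, true_and] at hη
      rw [hη]
      simp
    change ∑ η ∈ A, _ + ∑ η ∈ A', _ = _ at h1
    rw [h2, h3] at h1
    have h4 : ((2 * ∑ η ∈ A, cc lam₀ η ^ 2 + 1 : ℕ) : ℤ) = ((d + 2 : ℕ) : ℤ) := by
      push_cast
      exact h1
    exact_mod_cast h4
  have hE2 : ∑ η ∈ A, (cc lam₀ η : ℂ) * (η : G → ℂ) g = 1 := by
    rw [← Finset.sum_filter_add_sum_filter_not Finset.univ (fun η => cc one η = 0)] at hC3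
    have h2 : ∑ η ∈ A', (cc lam₀ η : ℂ) * (η : G → ℂ) g = -1 := by
      rw [Finset.sum_eq_single χ₀']
      · rw [hcχ lam₀ hlam₀]
        show ((1 : ℕ) : ℂ) * χ₀ g = -1
        rw [hχg]
        simp
      · intro η hη hne
        simp only [A', Finset.mem_filter, Finset.mem_univ, true_and] at hη
        rcases hCl η hη with h3 | ⟨-, h3⟩
        · exact absurd h3 hne
        · exact h3
      · intro h
        exact absurd hχA h
    change ∑ η ∈ A, _ + ∑ η ∈ A', _ = _ at hC3
    rw [h2] at hC3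
    linear_combination hC3
  have hd3 : 3 ≤ d := by
    obtain ⟨k, hk⟩ := hodd
    have h1 : 0 < d := Nat.card_pos
    omega
  have hP2 : 2 ≤ ∑ η ∈ A, cc lam₀ η ^ 2 := by omega
  -- a constituent of the right kind
  have hex : ∃ η : IrrCharacter G, cc one η = 0 ∧ cc lam₀ η ≠ 0 ∧ ∀ l, l ≠ one → cc l η = cc lam₀ η := by
    by_contra hno
    push Not at hno
    obtain ⟨η₀, hη₀A, hη₀⟩ : ∃ η ∈ A, cc lam₀ η ≠ 0 := by
      by_contra hcon
      push Not at hcon
      rw [Finset.sum_eq_zero (fun η hη => by rw [hcon η hη]; simp)] at hP2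
      omega
    have hη₀b : cc one η₀ = 0 := by
      simpa [A] using hη₀A
    -- the pairing of different characters
    have hcase : ∀ l, l ≠ one → ∀ η : IrrCharacter G, cc l η ≠ cc lam₀ η →
        classInner (T lam₀) (T l) = (d : ℂ) := by
      intro l hl η hη
      rcases S.inner_cases lam₀.2 l.2 (hnone l hl) with h1 | h1
      · exact h1
      · exfalso
        apply hη
        have h10 : classInner (T l) (T lam₀) = (d : ℂ) + 1 := by
          rw [← conj_classInner]
          show conj (classInner (indFun F (lam₀ : F → ℂ)) (indFun F (l : F → ℂ))) = _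
          rw [h1, map_add, map_one, Complex.conj_natCast]
        have h2 : classInner (T lam₀ - T l) (T lam₀ - T l) = 0 := by
          rw [classInner_sub_left, classInner_sub_right, classInner_sub_right, h10]
          have h3 : classInner (T lam₀) (T l) = (d : ℂ) + 1 := h1
          have h4 : classInner (T lam₀) (T lam₀) = (d : ℂ) + 1 := S.inner_self lam₀.2 (hnone _ hlam₀)
          have h5 : classInner (T l) (T l) = (d : ℂ) + 1 := S.inner_self l.2 (hnone _ hl)
          rw [h3, h4, h5]
          ring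
        have h3 : T lam₀ = T l := sub_eq_zero.mp (classInner_self_eq_zero.mp h2)
        have h4 := hcc l η
        rw [← h3, hcc lam₀ η] at h4
        exact_mod_cast h4.symm
    have hcommon : ∀ η ∈ A, cc lam₀ η ≠ 0 → (η : G → ℂ) g = (η₀ : G → ℂ) g := by
      intro η hηA hη
      have hηb : cc one η = 0 := by
        simpa [A] using hηA
      obtain ⟨l₁, hl₁, hl₁c⟩ := hno η hηb hη
      obtain ⟨l₂, hl₂, hl₂c⟩ := hno η₀ hη₀b hη₀
      refine same_value (T₀ := T lam₀) (T₁ := T l₁) (T₂ := T l₂) (m := d) (hTchar _) (hTchar _) (hTchar _)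
        (by rw [hT1, hT1]) (by rw [hT1, hT1]) (S.inner_self lam₀.2 (hnone _ hlam₀))
        (S.inner_self l₁.2 (hnone _ hl₁)) (S.inner_self l₂.2 (hnone _ hl₂))
        (hcase l₁ hl₁ η hl₁c) (hcase l₂ hl₂ η₀ hl₂c) (S.inner_cases l₁.2 l₂.2 (hnone _ hl₂))
        (hTg _) (hTg _) (hTg _) η.2 η₀.2 ?_ ?_
      · rw [hcc, hcc]
        exact_mod_cast Ne.symm hl₁c
      · rw [hcc, hcc]
        exact_mod_cast Ne.symm hl₂c
    set w : ℂ := (η₀ : G → ℂ) g with hw
    have hsum : ((∑ η ∈ A, cc lam₀ η : ℕ) : ℂ) * w = 1 := by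
      rw [← hE2]
      push_cast
      rw [Finset.sum_mul]
      refine Finset.sum_congr rfl fun η hη => ?_
      by_cases h0 : cc lam₀ η = 0
      · rw [h0]
        simp
      · rw [hcommon η hη h0]
    set N := ∑ η ∈ A, cc lam₀ η with hN
    have hN0 : N ≠ 0 := by
      rintro h0
      rw [h0] at hsum
      simp at hsum
    have hN0' : (N : ℂ) ≠ 0 := by exact_mod_cast hN0
    have hint : IsIntegral ℤ w := IsCharacter.isIntegral' (IsIrrCharacter.isCharacter η₀.2) g
    have hw2 : w = ((1 : ℕ) : ℂ) / (N : ℂ) := by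
      field_simp
      rw [mul_comm]
      simpa using hsum
    rw [hw2] at hint
    have hN1 : N ∣ 1 := nat_dvd_of_isIntegral_div hN0 hint
    have hN2 : N = 1 := Nat.dvd_one.mp hN1
    have hle : ∀ η ∈ A, cc lam₀ η ≤ 1 := by
      intro η hη
      rw [← hN2, hN]
      exact Finset.single_le_sum (f := fun η => cc lam₀ η) (fun _ _ => Nat.zero_le _) hη
    have hP : ∑ η ∈ A, cc lam₀ η ^ 2 = N := by
      refine Finset.sum_congr rfl fun η hη => ?_
      have := hle η hη
      interval_cases (cc lam₀ η) <;> norm_num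
    omega
  obtain ⟨η₁, hη₁b, hη₁c, hη₁l⟩ := hex
  -- the degree
  have hdeg : (η₁ : G → ℂ) 1 = ((n - 1) * cc lam₀ η₁ : ℕ) := by
    have h1 := congrFun (classFunction_eq_sum (fun u : F => (η₁ : G → ℂ) u)
      (fun u y => by
        have h2 := IsCharacter.isClassFunction (IsIrrCharacter.isCharacter η₁.2) (u : G) (y : G)
        exact h2)) 1
    rw [Finset.sum_apply] at h1
    simp only [Pi.smul_apply, smul_eq_mul, hlin, mul_one] at h1
    have h2 : ∀ l : IrrCharacter F, classInner (fun u : F => (η₁ : G → ℂ) u) (l : F → ℂ) = cc l η₁ := by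
      intro l
      rw [← frobenius_reciprocity' F _ _ (IsCharacter.isClassFunction (IsIrrCharacter.isCharacter η₁.2))]
      exact hcc' l η₁
    simp only [h2] at h1
    have h3 : ((1 : F) : G) = 1 := rfl
    rw [h3] at h1
    rw [h1]
    have h4 : ∑ l : IrrCharacter F, (cc l η₁ : ℂ) = ((∑ l : IrrCharacter F, cc l η₁ : ℕ) : ℂ) := by
      push_cast
      rfl
    rw [h4]
    congr 1
    rw [← Finset.add_sum_erase _ _ (Finset.mem_univ one), hη₁b, zero_add]
    rw [Finset.sum_congr rfl (fun l hl => hη₁l l (Finset.ne_of_mem_erase hl))]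
    rw [Finset.sum_const, Finset.card_erase_of_mem (Finset.mem_univ one), Finset.card_univ, hcardIrr,
      smul_eq_mul]
  obtain ⟨D, hD1, hD0, hDdvd⟩ := IsIrrCharacter_degree_dvd η₁.2
  have hD : D = (n - 1) * cc lam₀ η₁ := by
    rw [hD1] at hdeg
    exact_mod_cast hdeg
  have hdvd : n - 1 ∣ Nat.card G := (Dvd.intro _ hD.symm).trans hDdvd
  rw [S.card_group] at hdvd
  obtain ⟨k, hk⟩ : ∃ k, n = k + 1 := ⟨n - 1, by omega⟩
  have hk1 : n - 1 = k := by omega
  rw [hk1]
  rw [hk1, ← hn, ← hd, hk] at hdvd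
  have hcop : Nat.Coprime k (k + 1) := by simp
  have h1 : k ∣ d * (k + 1 + 1) := hcop.dvd_of_dvd_mul_right hdvd
  have h2 : d * (k + 1 + 1) = d * k + 2 * d := by ring
  rw [h2] at h1
  exact (Nat.dvd_add_right (Dvd.intro_left d rfl)).mp h1

end Setup

end Cfsg.Agent.Lib.Perm.ZA
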