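import Mathlib
import Cfsg.Agent.Lib.Char.Zass

/-!
Involutions in Zassenhaus groups that interchange two points.
-/

set_option autoImplicit false
set_option linter.style.haveILetI false

open Cfsg

namespace Cfsg.Agent.Lib.Perm

/-- Parity of the number of fixed points of a self-inverse map of a finite set. -/
theorem fix_parity {X : Type*} [Fintype X] [DecidableEq X] (f : X → X) (hf : ∀ x, f (f x) = x) :
    Fintype.card X ≡ Nat.card {x // f x = x} [MOD 2] := by
  classical
  haveI : Fact (Nat.Prime 2) := ⟨Nat.prime_two⟩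
  let g : Function.End X := f
  have h1 : g ^ 2 ^ 1 = 1 := by
    rw [pow_one, pow_two]
    funext x
    exact hf x
  have h2 := Equiv.Perm.card_fixedPoints_modEq (f := g) (p := 2) (n := 1) h1
  have h3 : Nat.card {x // f x = x} = Fintype.card (Function.fixedPoints g) := by
    rw [Nat.card_eq_fintype_card]
    exact Fintype.card_congr (Equiv.subtypeEquivRight (fun x => Iff.rfl))
  rw [h3]
  exact h2

section

variable {G Ω : Type*} [Group G] [Finite G] [MulAction G Ω] [Fintype Ω]

theorem fix_parity_pow (t : G) (k : ℕ) (ht : t ^ 2 ^ k = 1) :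
    Fintype.card Ω ≡ Nat.card (MulAction.fixedBy Ω t) [MOD 2] := by
  classical
  haveI : Fact (Nat.Prime 2) := ⟨Nat.prime_two⟩
  let f : Function.End Ω := fun x => t • x
  have hpow : ∀ n : ℕ, ∀ x : Ω, (f ^ n) x = t ^ n • x := by
    intro n
    induction n with
    | zero =>
      intro x
      rw [pow_zero, pow_zero, one_smul]
      rfl
    | succ n ih =>
      intro x
      rw [pow_succ]
      show (f ^ n) (f x) = _
      rw [ih, pow_succ, mul_smul]
  have h1 : f ^ 2 ^ k = 1 := by
    funext x
    rw [hpow, ht, one_smul]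
    rfl
  have h2 := Equiv.Perm.card_fixedPoints_modEq (f := f) (p := 2) (n := k) h1
  have h3 : Nat.card (MulAction.fixedBy Ω t) = Fintype.card (Function.fixedPoints f) := by
    rw [Nat.card_eq_fintype_card]
    exact Fintype.card_congr (Equiv.subtypeEquivRight (fun x => Iff.rfl))
  rw [h3]
  exact h2

theorem fix_le_two (hZ : Cfsg.IsZassenhausGroup G Ω) {s : G} (hs : s ≠ 1) :
    Nat.card (MulAction.fixedBy Ω s) ≤ 2 := by
  by_contra hcon
  push Not at hcon
  rw [Nat.card_coe_set_eq, Set.two_lt_ncard_iff] at hcon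
  obtain ⟨x, y, z, hx, hy, hz, hxy, hxz, hyz⟩ := hcon
  exact hs (hZ.2.2.1 s x y z hxy hyz hxz hx hy hz)

/-- An involution swapping `a`, `b` and fixing a given point moved by an involution of `G_ab`. -/
theorem exists_swap_of_moved (hZ : Cfsg.IsZassenhausGroup G Ω) {a b : Ω} (hab : a ≠ b)
    (heven : Even (Nat.card ↥(MulAction.stabilizer G a ⊓ MulAction.stabilizer G b))) {u : G}
    (hua : u • a = a) (hub : u • b = b) (huo' : orderOf u = 2) {c : Ω} (hc : u • c ≠ c) :
    ∃ s : G, orderOf s = 2 ∧ s • a = b ∧ s • b = a ∧ s • c = c ∧ Nat.card (MulAction.fixedBy Ω s) = 2 := by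
  classical
  haveI := Fintype.ofFinite G
  haveI hfaith := hZ.1
  have hu1 : u ≠ 1 := by
    rintro rfl
    simp at huo'
  have huu : u * u = 1 := by
    rw [← pow_two, ← huo']
    exact pow_orderOf_eq_one u
  set d := u • c with hd
  have hud : u • d = c := by
    rw [hd, ← mul_smul, huu, one_smul]
  have hca : c ≠ a := by
    rintro rfl
    exact hc hua
  have hcb : c ≠ b := by
    rintro rfl
    exact hc hub
  have hda : d ≠ a := by
    intro h
    apply hca
    rw [← hud, h, hua]
  have hdb : d ≠ b := by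
    intro h
    apply hcb
    rw [← hud, h, hub]
  have hcd : c ≠ d := fun h => hc h.symm
  -- stabilizer of the other pair has even order
  have hcardK : Nat.card ↥(MulAction.stabilizer G c ⊓ MulAction.stabilizer G d) =
      Nat.card ↥(MulAction.stabilizer G a ⊓ MulAction.stabilizer G b) := by
    have h1 := Lib.Char.zass_card hZ hab
    have h2 := Lib.Char.zass_card hZ hcd
    haveI : Nontrivial Ω := ⟨a, b, hab⟩
    have hn : 2 ≤ Fintype.card Ω := Lib.Char.zass_two_le_card
    have hn1 : 0 < Fintype.card Ω * (Fintype.card Ω - 1) := Nat.mul_pos (by omega) (by omega)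
    apply Nat.eq_of_mul_eq_mul_right hn1
    rw [← mul_assoc, ← mul_assoc, h1, h2]
  -- the elements of square one in the other stabilizer
  let K : Subgroup G := MulAction.stabilizer G c ⊓ MulAction.stabilizer G d
  let T := {x : K // x * x = 1}
  have hKeven : Even (Nat.card K) := by
    show Even (Nat.card ↥(MulAction.stabilizer G c ⊓ MulAction.stabilizer G d))
    rw [hcardK]
    exact heven
  have hTeven : Even (Fintype.card T) := by
    have h1 := fix_parity (X := K) (fun x => x⁻¹) (fun x => inv_inv x)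
    have h2 : Nat.card {x : K // x⁻¹ = x} = Fintype.card T := by
      rw [Nat.card_eq_fintype_card]
      apply Fintype.card_congr
      apply Equiv.subtypeEquivRight
      intro x
      exact inv_eq_iff_mul_eq_one
    rw [h2] at h1
    have h3 : Fintype.card K = Nat.card K := (Nat.card_eq_fintype_card).symm
    rw [h3] at h1
    rw [Nat.even_iff] at hKeven ⊢
    unfold Nat.ModEq at h1
    omega
  -- conjugation by u on T
  have hconjK : ∀ x : K, u * (x : G) * u⁻¹ ∈ K := by
    rintro ⟨x, hxc, hxd⟩
    have hinv : u⁻¹ = u := inv_eq_of_mul_eq_one_left huu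
    rw [hinv]
    constructor
    · show (u * x * u) • c = c
      have hxd' : x • d = d := hxd
      rw [mul_smul, mul_smul, ← hd, hxd', hud]
    · show (u * x * u) • d = d
      have hxc' : x • c = c := hxc
      rw [mul_smul, mul_smul, hud, hxc']
  let f : T → T := fun x => ⟨⟨u * (x.1 : G) * u⁻¹, hconjK x.1⟩, by
    apply Subtype.ext
    have hx : ((x.1 : G)) * x.1 = 1 := congrArg Subtype.val x.2
    show u * (x.1 : G) * u⁻¹ * (u * (x.1 : G) * u⁻¹) = 1
    calc u * (x.1 : G) * u⁻¹ * (u * (x.1 : G) * u⁻¹) = u * ((x.1 : G) * x.1) * u⁻¹ := by group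
      _ = 1 := by rw [hx]; group⟩
  have hf : ∀ x, f (f x) = x := by
    intro x
    apply Subtype.ext
    apply Subtype.ext
    show u * (u * (x.1 : G) * u⁻¹) * u⁻¹ = x.1
    have hinv : u⁻¹ = u := inv_eq_of_mul_eq_one_left huu
    rw [hinv]
    calc u * (u * (x.1 : G) * u) * u = (u * u) * (x.1 : G) * (u * u) := by group
      _ = x.1 := by rw [huu]; group
  have hpar := fix_parity f hf
  have hfixeven : Even (Nat.card {x // f x = x}) := by
    rw [Nat.even_iff] at hTeven ⊢
    unfold Nat.ModEq at hpar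
    omega
  -- a nontrivial fixed point
  let e : T := ⟨1, one_mul 1⟩
  have hfe : f e = e := by
    apply Subtype.ext
    apply Subtype.ext
    show u * 1 * u⁻¹ = 1
    group
  obtain ⟨⟨v', hv'⟩, hv1⟩ : ∃ v : {x // f x = x}, v ≠ ⟨e, hfe⟩ := by
    by_contra hcon
    push Not at hcon
    have hsub : Subsingleton {x // f x = x} := ⟨fun p q => by rw [hcon p, hcon q]⟩
    have h1 : Nat.card {x // f x = x} = 1 := by
      rw [Nat.card_eq_one_iff_unique]
      exact ⟨hsub, ⟨⟨e, hfe⟩⟩⟩
    rw [h1] at hfixeven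
    exact absurd hfixeven (by decide)
  set v : G := ((v'.1 : K) : G) with hv
  have hvK : v ∈ K := (v'.1).2
  have hvc : v • c = c := hvK.1
  have hvd : v • d = d := hvK.2
  have hvv : v * v = 1 := congrArg Subtype.val v'.2
  have hv_ne : v ≠ 1 := by
    intro h0
    apply hv1
    apply Subtype.ext
    apply Subtype.ext
    apply Subtype.ext
    exact h0
  have hcomm : u * v * u⁻¹ = v := by
    have := congrArg (fun x : T => ((x.1 : K) : G)) hv'
    exact this
  have hcomm' : u * v = v * u := by
    calc u * v = u * v * u⁻¹ * u := by group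
      _ = v * u := by rw [hcomm]
  have hfixu : ∀ x : Ω, u • x = x → x = a ∨ x = b := by
    intro x hx
    by_contra hcon
    push Not at hcon
    exact hu1 (hZ.2.2.1 u a b x hab (Ne.symm hcon.2) (Ne.symm hcon.1) hua hub hx)
  have hv_swap : ∀ x : Ω, u • x = x → u • (v • x) = v • x := by
    intro x hx
    rw [← mul_smul, hcomm', mul_smul, hx]
  have hva : v • a = b := by
    rcases hfixu _ (hv_swap a hua) with h | h
    · exact absurd (hZ.2.2.1 v c d a hcd hda hca hvc hvd h) hv_ne
    · exact h
  have hvb : v • b = a := by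
    rcases hfixu _ (hv_swap b hub) with h | h
    · exact h
    · exact absurd (hZ.2.2.1 v c d b hcd hdb hcb hvc hvd h) hv_ne
  refine ⟨v, ?_, hva, hvb, hvc, ?_⟩
  · apply orderOf_eq_prime _ hv_ne
    rw [pow_two, hvv]
  · have hset : MulAction.fixedBy Ω v = {c, d} := by
      ext x
      simp only [MulAction.mem_fixedBy, Set.mem_insert_iff, Set.mem_singleton_iff]
      constructor
      · intro hx
        by_contra hcon
        push Not at hcon
        exact hv_ne (hZ.2.2.1 v c d x hcd (Ne.symm hcon.2) (Ne.symm hcon.1) hvc hvd hx)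
      · rintro (rfl | rfl)
        · exact hvc
        · exact hvd
    rw [hset, Nat.card_coe_set_eq, Set.ncard_pair hcd]



/-- The involution with two fixed points. -/
theorem exists_swap_two (hZ : Cfsg.IsZassenhausGroup G Ω) {a b : Ω} (hab : a ≠ b)
    (heven : Even (Nat.card ↥(MulAction.stabilizer G a ⊓ MulAction.stabilizer G b))) :
    ∃ s : G, orderOf s = 2 ∧ s • a = b ∧ s • b = a ∧ Nat.card (MulAction.fixedBy Ω s) = 2 := by
  classical
  haveI := Fintype.ofFinite G
  haveI hfaith := hZ.1
  obtain ⟨⟨u, hu⟩, huo⟩ := exists_prime_orderOf_dvd_card' (G := ↥(MulAction.stabilizer G a ⊓ MulAction.stabilizer G b)) 2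
    (heven.two_dvd)
  have huo' : orderOf u = 2 := by
    rwa [Subgroup.orderOf_mk] at huo
  have hua : u • a = a := hu.1
  have hub : u • b = b := hu.2
  have hu1 : u ≠ 1 := by
    rintro rfl
    simp at huo'
  obtain ⟨c, hc⟩ : ∃ c : Ω, u • c ≠ c := by
    by_contra hcon
    push Not at hcon
    apply hu1
    apply FaithfulSMul.eq_of_smul_eq_smul (α := Ω)
    intro x
    simp [hcon x]
  obtain ⟨s, h1, h2, h3, _, h5⟩ := exists_swap_of_moved hZ hab heven hua hub huo' hc
  exact ⟨s, h1, h2, h3, h5⟩

/-- Even two-point stabilisers are large. -/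
theorem two_mul_card_ge (hZ : Cfsg.IsZassenhausGroup G Ω) {a b : Ω} (hab : a ≠ b)
    (heven : Even (Nat.card ↥(MulAction.stabilizer G a ⊓ MulAction.stabilizer G b))) :
    Fintype.card Ω - 2 ≤ 2 * Nat.card ↥(MulAction.stabilizer G a ⊓ MulAction.stabilizer G b) := by
  classical
  haveI := Fintype.ofFinite G
  obtain ⟨⟨u, hu⟩, huo⟩ := exists_prime_orderOf_dvd_card' (G := ↥(MulAction.stabilizer G a ⊓ MulAction.stabilizer G b)) 2
    (heven.two_dvd)
  have huo' : orderOf u = 2 := by
    rwa [Subgroup.orderOf_mk] at huo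
  have hua : u • a = a := hu.1
  have hub : u • b = b := hu.2
  have hu1 : u ≠ 1 := by
    rintro rfl
    simp at huo'
  have hmoved : ∀ c : Ω, c ≠ a → c ≠ b → u • c ≠ c := by
    intro c hca hcb hc
    exact hu1 (hZ.2.2.1 u a b c hab (Ne.symm hcb) (Ne.symm hca) hua hub hc)
  -- the elements swapping a and b
  let Y : Set G := {x | x • a = b ∧ x • b = a}
  have hfun : ∀ c : {c : Ω // c ≠ a ∧ c ≠ b}, ∃ s : G, s ∈ Y ∧ s • (c : Ω) = c ∧ Nat.card (MulAction.fixedBy Ω s) = 2 := by
    rintro ⟨c, hca, hcb⟩
    obtain ⟨s, _, h2, h3, h4, h5⟩ := exists_swap_of_moved hZ hab heven hua hub huo' (hmoved c hca hcb)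
    exact ⟨s, ⟨h2, h3⟩, h4, h5⟩
  choose φ hφ1 hφ2 hφ3 using hfun
  -- fibres have size at most two
  have hcardY : Nat.card Y = Nat.card ↥(MulAction.stabilizer G a ⊓ MulAction.stabilizer G b) := by
    obtain ⟨t, ht1, ht2⟩ := Lib.Char.zass_two_trans hZ a b b a hab (Ne.symm hab)
    apply Nat.card_congr
    refine ⟨fun x => ⟨t⁻¹ * x.1, ?_, ?_⟩, fun h => ⟨t * h.1, ?_, ?_⟩, ?_, ?_⟩
    · show (t⁻¹ * x.1) • a = a
      rw [mul_smul, x.2.1, inv_smul_eq_iff, ht1]
    · show (t⁻¹ * x.1) • b = b
      rw [mul_smul, x.2.2, inv_smul_eq_iff, ht2]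
    · show (t * h.1) • a = b
      have h1 : h.1 • a = a := h.2.1
      rw [mul_smul, h1, ht1]
    · show (t * h.1) • b = a
      have h1 : h.1 • b = b := h.2.2
      rw [mul_smul, h1, ht2]
    · intro x
      apply Subtype.ext
      show t * (t⁻¹ * x.1) = x.1
      group
    · intro h
      apply Subtype.ext
      show t⁻¹ * (t * h.1) = h.1
      group
  haveI : Fintype Y := Fintype.ofFinite _
  let ψ : {c : Ω // c ≠ a ∧ c ≠ b} → Y := fun c => ⟨φ c, hφ1 c⟩
  have hfib : ∀ y : Y, (Finset.univ.filter (fun c => ψ c = y)).card ≤ 2 := by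
    intro y
    have hle : ((Finset.univ.filter (fun c => ψ c = y)).map ⟨Subtype.val, Subtype.val_injective⟩ : Finset Ω) ⊆
        (MulAction.fixedBy Ω (y : G)).toFinset := by
      intro x hx
      rw [Finset.mem_map] at hx
      obtain ⟨c, hc, rfl⟩ := hx
      rw [Finset.mem_filter] at hc
      rw [Set.mem_toFinset]
      have h1 : φ c = y := congrArg Subtype.val hc.2
      show (y : G) • (c : Ω) = c
      rw [← h1]
      exact hφ2 c
    by_cases hy : ∃ c, ψ c = y
    · obtain ⟨c, hc⟩ := hy
      have h1 : φ c = y := congrArg Subtype.val hc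
      have h2 := hφ3 c
      rw [h1] at h2
      have h3 := Finset.card_le_card hle
      rw [Finset.card_map] at h3
      have h4 : (MulAction.fixedBy Ω (y : G)).toFinset.card = 2 := by
        rw [← h2, Nat.card_eq_fintype_card, Set.toFinset_card]
      omega
    · have : Finset.univ.filter (fun c => ψ c = y) = ∅ := by
        rw [Finset.filter_eq_empty_iff]
        intro c _ h
        exact hy ⟨c, h⟩
      rw [this]
      simp
  have hcount : Fintype.card {c : Ω // c ≠ a ∧ c ≠ b} ≤ 2 * Fintype.card Y := by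
    have := Finset.card_le_mul_card_image_of_maps_to (s := Finset.univ) (t := Finset.univ) (f := ψ)
      (fun _ _ => Finset.mem_univ _) 2 (fun y _ => hfib y)
    simpa [Finset.card_univ] using this
  have hcomp : Fintype.card {c : Ω // c ≠ a ∧ c ≠ b} = Fintype.card Ω - 2 := by
    have h1 : Fintype.card {c : Ω // c ≠ a ∧ c ≠ b} = (Finset.univ.filter (fun c : Ω => c ≠ a ∧ c ≠ b)).card :=
      Fintype.card_subtype _
    have h2 : Finset.univ.filter (fun c : Ω => c ≠ a ∧ c ≠ b) = Finset.univ \ {a, b} := by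
      ext c
      simp
    rw [h1, h2, Finset.card_sdiff_of_subset (Finset.subset_univ _), Finset.card_univ, Finset.card_pair hab]
  rw [← hcomp, ← hcardY, Nat.card_eq_fintype_card (α := Y)]
  exact hcount

end

end Cfsg.Agent.Lib.Perm
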