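import Cfsg.Agent.Lib.Char.ZassZ
import Cfsg.Agent.Lib.Block.Jordan
import Cfsg.Agent.Lib.Coprime.SZ2
import Cfsg.Agent.Lib.Transfer.Comp
import Cfsg.Agent.Lib.SmallSimple.Basic

/-!
# The two-point stabilizer of odd order of a Zassenhaus group, without simplicity.
-/

set_option autoImplicit false
set_option linter.unusedSectionVars false
set_option linter.unusedVariables false
set_option linter.style.haveILetI false
set_option linter.unusedSimpArgs false
set_option linter.unnecessarySimpa false

open MulAction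

namespace Cfsg.Agent.Lib.Perm.ZO

open Cfsg.Agent.Lib.Char
open Cfsg (HasNormalPComplement)

universe u v

/-- If a cyclic Sylow subgroup is not in the kernel of a homomorphism to a commutative group, then
there is a normal complement. -/
theorem normal_complement_of_hom {G : Type u} [Group G] [Finite G] {q : ℕ} [hq : Fact q.Prime]
    (S : Sylow q G) (hc : IsCyclic (S : Subgroup G)) {A : Type*} [CommGroup A] (τ : G →* A)
    (hτ : ∃ z ∈ (S : Subgroup G), τ z ≠ 1) : HasNormalPComplement q G := by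
  classical
  have hqp := hq.out
  obtain ⟨g₀, hg₀⟩ := hc
  set x : G := (g₀ : G) with hx
  have hz : Subgroup.zpowers x = (S : Subgroup G) := by
    apply Subgroup.ext
    intro y
    constructor
    · intro hy
      obtain ⟨k, rfl⟩ := Subgroup.mem_zpowers_iff.mp hy
      exact Subgroup.zpow_mem _ g₀.2 k
    · intro hy
      obtain ⟨k, hk⟩ := hg₀ ⟨y, hy⟩
      have := congrArg Subtype.val hk
      simp only [SubgroupClass.coe_zpow] at this
      exact ⟨k, this⟩
  have hτx : τ x ≠ 1 := by
    intro h0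
    obtain ⟨z, hz1, hz2⟩ := hτ
    rw [← hz] at hz1
    obtain ⟨k, rfl⟩ := Subgroup.mem_zpowers_iff.mp hz1
    apply hz2
    rw [map_zpow, h0, one_zpow]
  have hpg : IsPGroup q (Subgroup.zpowers x) := by
    rw [hz]
    exact S.isPGroup'
  obtain ⟨k, hk⟩ : ∃ k, orderOf x = q ^ k := by
    have h1 := IsPGroup.iff_card.mp hpg
    obtain ⟨k, hk⟩ := h1
    exact ⟨k, by rwa [Nat.card_zpowers] at hk⟩
  have hqo : q ∣ orderOf (τ x) := by
    have h1 : orderOf (τ x) ∣ q ^ k := by
      rw [← hk]
      exact orderOf_map_dvd τ x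
    obtain ⟨i, -, hi⟩ := (Nat.dvd_prime_pow hqp).mp h1
    have hi0 : i ≠ 0 := by
      rintro rfl
      rw [pow_zero, orderOf_eq_one_iff] at hi
      exact hτx hi
    rw [hi]
    exact dvd_pow_self q hi0
  have hN : Subgroup.normalizer (S : Set G) ≤ Subgroup.centralizer (S : Set G) := by
    intro g hg
    obtain ⟨g₁, g₂, hg12, hcomm, ⟨i, hi⟩, hg2, hm1, hm2⟩ := Cfsg.Agent.Lib.Block.exists_jordan (p := q) g
    have hle : Subgroup.zpowers g ≤ Subgroup.normalizer (S : Set G) := (Subgroup.zpowers_le).2 hg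
    -- the q-part lies in S
    have h1 : g₁ ∈ (S : Subgroup G) := by
      have hpg1 : IsPGroup q (Subgroup.zpowers g₁) := by
        rw [IsPGroup.iff_card, Nat.card_zpowers, hi]
        exact ⟨i, rfl⟩
      have h2 := IsPGroup.inf_normalizer_sylow hpg1 S
      have h3 : g₁ ∈ Subgroup.zpowers g₁ ⊓ Subgroup.normalizer (S : Set G) :=
        ⟨Subgroup.mem_zpowers g₁, hle hm1⟩
      rw [h2] at h3
      exact h3.2
    -- the q'-part commutes with x
    have h2 : g₂ * x = x * g₂ := by
      have h3 : g₂ * x * g₂⁻¹ ∈ Subgroup.zpowers x := by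
        rw [hz]
        exact (Subgroup.mem_normalizer_iff.mp (hle hm2) x).mp (by
          rw [← hz]
          exact Subgroup.mem_zpowers x)
      obtain ⟨j, hj'⟩ := (mem_powers_iff_mem_zpowers).2 h3
      have hj : x ^ j = g₂ * x * g₂⁻¹ := hj'
      have h4 : τ x ^ j = τ x := by
        rw [← map_pow, hj, map_mul, map_mul, map_inv, mul_comm (τ g₂), mul_assoc, mul_inv_cancel,
          mul_one]
      have hj0 : j ≠ 0 := by
        rintro rfl
        rw [pow_zero] at h4
        exact hτx h4.symm
      have h5 : τ x ^ (j - 1) = 1 := by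
        have h6 : τ x ^ (j - 1) * τ x = 1 * τ x := by
          rw [← pow_succ, Nat.sub_add_cancel (Nat.pos_of_ne_zero hj0), h4, one_mul]
        exact mul_right_cancel h6
      have h7 : q ∣ j - 1 := hqo.trans (orderOf_dvd_of_pow_eq_one h5)
      have h8 : j ≡ 1 [MOD q] := ((Nat.modEq_iff_dvd' (Nat.pos_of_ne_zero hj0)).mpr h7).symm
      exact Cfsg.Agent.Lib.Coprime.commute_of_conj_eq_pow hqp hk hj.symm h8 hg2
    rw [Subgroup.mem_centralizer_iff]
    intro y hy
    have hy' : y ∈ Subgroup.zpowers x := by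
      rw [hz]
      exact hy
    obtain ⟨l, rfl⟩ := Subgroup.mem_zpowers_iff.mp hy'
    have hc1 : Commute g₁ x := by
      have h3 : g₁ ∈ Subgroup.zpowers x := by
        rw [hz]
        exact h1
      obtain ⟨m, rfl⟩ := Subgroup.mem_zpowers_iff.mp h3
      exact Commute.zpow_left (Commute.refl x) m
    have hc2 : Commute g₂ x := h2
    have hc3 : Commute g x := by
      rw [← hg12]
      exact hc1.mul_left hc2
    exact (hc3.zpow_right l).eq.symm
  exact Cfsg.Agent.Lib.Transfer.hasNormalPComplement_of_burnside S hN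

variable {G : Type u} {Ω : Type v} [Group G] [MulAction G Ω]

variable [Finite G] [Fintype Ω]

theorem zass_transfer_formula (hZ : Cfsg.IsZassenhausGroup G Ω) {a b : Ω} (hab : a ≠ b)
    {A : Type*} [CommGroup A] (E : Subgroup G)
    (hmem : ∀ g : G, g ∈ E ↔ g • a = a ∧ g • b = b)
    (ϕ : E →* A) {t : G} (h1 : t • a = b) (h2 : t • b = a)
    (y : E) (hy : t⁻¹ * y * t ∈ E) :
    MonoidHom.transfer ϕ (y : G) = ϕ y * ϕ ⟨t⁻¹ * y * t, hy⟩ := by
  classical
  obtain ⟨x, hxE⟩ := y
  obtain ⟨hxa, hxb⟩ := (hmem x).mp hxE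
  simp only at hy ⊢
  have : Fintype (Quotient (orbitRel (Subgroup.zpowers x) (G ⧸ E))) := Fintype.ofFinite _
  rw [MonoidHom.transfer_eq_prod_quotient_orbitRel_zpowers_quot]
  symm
  -- conjugation invariance
  have hϕconj : ∀ (w z z' : E), (z' : G) = (w : G)⁻¹ * z * w → ϕ z = ϕ z' := by
    intro w z z' h
    have : z' = w⁻¹ * z * w := Subtype.ext (by simpa using h)
    rw [this, map_mul, map_mul, map_inv]
    rw [mul_comm (ϕ w)⁻¹, mul_assoc, inv_mul_cancel, mul_one]
  -- the two fixed cosets
  have hfix : ∀ s : G, x • ((s : G) : G ⧸ E) = ((s : G) : G ⧸ E) → ∀ g ∈ Subgroup.zpowers x,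
      g • ((s : G) : G ⧸ E) = ((s : G) : G ⧸ E) := by
    intro s hs g hg
    have hle : Subgroup.zpowers x ≤ stabilizer G ((s : G) : G ⧸ E) :=
      Subgroup.zpowers_le.mpr hs
    exact hle hg
  have hout : ∀ s : G, x • ((s : G) : G ⧸ E) = ((s : G) : G ⧸ E) →
      (Quotient.mk'' ((s : G) : G ⧸ E) :
        Quotient (orbitRel (Subgroup.zpowers x) (G ⧸ E))).out = ((s : G) : G ⧸ E) := by
    intro s hs
    have h3 := Quotient.mk_out (s := orbitRel (Subgroup.zpowers x) (G ⧸ E)) ((s : G) : G ⧸ E)
    obtain ⟨g, hg⟩ := h3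
    have h4 := hfix s hs g g.2
    exact hg.symm.trans h4
  have hfix1 : x • (((1 : G) : G) : G ⧸ E) = (((1 : G) : G) : G ⧸ E) := by
    rw [MulAction.Quotient.smul_coe, QuotientGroup.eq]
    simp only [smul_eq_mul, mul_one, inv_one, one_mul]
    exact E.inv_mem hxE
  have hfixt : x • ((t : G) : G ⧸ E) = ((t : G) : G ⧸ E) := by
    rw [MulAction.Quotient.smul_coe, QuotientGroup.eq]
    have h3 := E.inv_mem hy
    have h4 : (x • t)⁻¹ * t = (t⁻¹ * x * t)⁻¹ := by
      simp [smul_eq_mul, mul_assoc]
    rw [h4]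
    exact h3
  let q₁ : Quotient (orbitRel (Subgroup.zpowers x) (G ⧸ E)) := Quotient.mk'' (((1 : G) : G) : G ⧸ E)
  let q₂ : Quotient (orbitRel (Subgroup.zpowers x) (G ⧸ E)) := Quotient.mk'' ((t : G) : G ⧸ E)
  have hq1 : q₁.out = (((1 : G) : G) : G ⧸ E) := hout 1 hfix1
  have hq2 : q₂.out = ((t : G) : G ⧸ E) := hout t hfixt
  have htE : t ∉ E := fun h => hab (((hmem t).mp h).1.symm.trans h1)
  have hne : q₁ ≠ q₂ := by
    intro h
    have h3 : (((1 : G) : G) : G ⧸ E) = ((t : G) : G ⧸ E) := by
      rw [← hq1, ← hq2, h]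
    rw [QuotientGroup.eq] at h3
    apply htE
    simpa using h3
  rw [Finset.prod_eq_mul q₁ q₂ hne]
  · -- compute the two factors
    have hper : ∀ r : G ⧸ E, x • r = r → Function.minimalPeriod (x • ·) r = 1 := by
      intro r hr
      rw [Function.minimalPeriod_eq_one_iff_isFixedPt]
      exact hr
    congr 1
    · have h3 : ((q₁.out.out : G) : G ⧸ E) = ((1 : G) : G ⧸ E) := by
        rw [QuotientGroup.out_eq', hq1]
      rw [QuotientGroup.eq] at h3
      have h4 : q₁.out.out ∈ E := by simpa using h3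
      apply hϕconj ⟨q₁.out.out, h4⟩
      simp only
      rw [hper _ (by rw [hq1]; exact hfix1), pow_one]
    · have h3 : ((q₂.out.out : G) : G ⧸ E) = ((t : G) : G ⧸ E) := by
        rw [QuotientGroup.out_eq', hq2]
      have h4 : (q₂.out.out)⁻¹ * t ∈ E := by
        rw [QuotientGroup.eq] at h3
        exact h3
      have h5 : t⁻¹ * q₂.out.out ∈ E := by
        have := E.inv_mem h4
        simpa using this
      apply hϕconj ⟨t⁻¹ * q₂.out.out, h5⟩
      simp only
      rw [hper _ (by rw [hq2]; exact hfixt), pow_one]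
      group
  · -- other factors are trivial
    intro q _ hq
    obtain ⟨hq1', hq2'⟩ := hq
    have hsr : ((q.out.out : G) : G ⧸ E) = q.out := QuotientGroup.out_eq' q.out
    have hqr : q = Quotient.mk'' q.out := (Quotient.out_eq' q).symm
    have hz := QuotientGroup.out_conj_pow_minimalPeriod_mem E x q.out
    have hx1 : x ^ Function.minimalPeriod (x • ·) q.out = 1 := by
      generalize Function.minimalPeriod (x • ·) q.out = m at hz
      generalize hs : q.out.out = s at hsr hz
      by_contra hne1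
      obtain ⟨hsa, hsb⟩ := (hmem _).mp hz
      have hfixa : x ^ m • (s • a) = s • a := by
        have := congrArg (s • ·) hsa
        simpa [mul_smul] using this
      have hfixb : x ^ m • (s • b) = s • b := by
        have := congrArg (s • ·) hsb
        simpa [mul_smul] using this
      have hpa : x ^ m • a = a := by
        have : x ^ m ∈ stabilizer G a := Subgroup.pow_mem _ hxa _
        exact this
      have hpb : x ^ m • b = b := by
        have : x ^ m ∈ stabilizer G b := Subgroup.pow_mem _ hxb _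
        exact this
      have hsab : s • a ≠ s • b := fun h => hab (smul_left_cancel s h)
      have hca : s • a = a ∨ s • a = b := by
        by_contra hcon
        push Not at hcon
        exact hne1 (zass_eq_one hZ hab (Ne.symm hcon.2) (Ne.symm hcon.1) hpa hpb hfixa)
      have hcb : s • b = a ∨ s • b = b := by
        by_contra hcon
        push Not at hcon
        exact hne1 (zass_eq_one hZ hab (Ne.symm hcon.2) (Ne.symm hcon.1) hpa hpb hfixb)
      rcases hca with hca | hca <;> rcases hcb with hcb | hcb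
      · exact hsab (hca.trans hcb.symm)
      · -- `s ∈ E`
        apply hq1'
        rw [hqr]
        have : q.out = (((1 : G) : G) : G ⧸ E) := by
          rw [← hsr, QuotientGroup.eq]
          have hsE : s ∈ E := (hmem s).mpr ⟨hca, hcb⟩
          simpa using E.inv_mem hsE
        rw [this]
      · -- `s ∈ tE`
        apply hq2'
        rw [hqr]
        have : q.out = ((t : G) : G ⧸ E) := by
          rw [← hsr, QuotientGroup.eq, hmem]
          constructor
          · rw [mul_smul, h1, inv_smul_eq_iff, hca]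
          · rw [mul_smul, h2, inv_smul_eq_iff, hcb]
        rw [this]
      · exact hsab (hca.trans hcb.symm)
    refine (congrArg ϕ (?_ : (⟨_, hz⟩ : E) = 1)).trans (map_one ϕ)
    exact Subtype.ext (by simp [hx1])
  · intro h
    exact absurd (Finset.mem_univ _) h
  · intro h
    exact absurd (Finset.mem_univ _) h



/-- Transfers vanish on the two-point stabilizer. -/
def HT (G : Type u) {Ω : Type v} [Group G] [MulAction G Ω] (a b : Ω) : Prop :=
  ∀ {A : Type u} [CommGroup A] (τ : G →* A) (y : G), y ∈ (stabilizer G a ⊓ stabilizer G b : Subgroup G) →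
    τ y = 1

theorem zform (hZ : Cfsg.IsZassenhausGroup G Ω) {a b : Ω} (hab : a ≠ b) (hT : HT G a b)
    {A : Type u} [CommGroup A]
    (ϕ : (stabilizer G a ⊓ stabilizer G b : Subgroup G) →* A) {t : G} (h1 : t • a = b) (h2 : t • b = a)
    (y : (stabilizer G a ⊓ stabilizer G b : Subgroup G)) :
    ϕ y * ϕ ⟨t⁻¹ * y * t, zass_swap_conj_mem h1 h2 y.2⟩ = 1 := by
  rw [← zass_transfer_formula hZ hab _ (fun g => Iff.rfl) ϕ h1 h2 y]
  exact hT _ _ y.2

/-- **The two-point stabilizer of odd order is cyclic, when transfers vanish.** -/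
theorem zo_isCyclic (hZ : Cfsg.IsZassenhausGroup G Ω) {a b : Ω} (hab : a ≠ b) (hT : HT G a b)
    (hodd : Odd (Nat.card (stabilizer G a ⊓ stabilizer G b : Subgroup G))) :
    IsCyclic (stabilizer G a ⊓ stabilizer G b : Subgroup G) := by
  classical
  haveI hzg := zass_isZGroup hZ hab hodd
  obtain ⟨t, h1, h2⟩ := zass_two_trans hZ a b b a hab hab.symm
  haveI hcy : IsCyclic (commutator (stabilizer G a ⊓ stabilizer G b : Subgroup G)) :=
    IsZGroup.isCyclic_commutator _
  letI : CommGroup (MulAut (commutator (stabilizer G a ⊓ stabilizer G b : Subgroup G))) :=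
    (IsCyclic.mulAutMulEquiv _).toMonoidHom.commGroupOfInjective (IsCyclic.mulAutMulEquiv _).injective
  let k : (stabilizer G a ⊓ stabilizer G b : Subgroup G) →*
      MulAut (commutator (stabilizer G a ⊓ stabilizer G b : Subgroup G)) := MulAut.conjNormal
  have hkapp : ∀ (y : (stabilizer G a ⊓ stabilizer G b : Subgroup G))
      (z : commutator (stabilizer G a ⊓ stabilizer G b : Subgroup G)),
      (((k y z : commutator (stabilizer G a ⊓ stabilizer G b : Subgroup G)) :
        (stabilizer G a ⊓ stabilizer G b : Subgroup G)) : G) = y * ((z : _) : G) * (y : G)⁻¹ := by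
    intro y z
    simp [k, MulAut.conjNormal_apply]
  have hchar : ∀ z : (stabilizer G a ⊓ stabilizer G b : Subgroup G),
      z ∈ commutator (stabilizer G a ⊓ stabilizer G b : Subgroup G) →
        (zswap h1 h2).symm z ∈ commutator (stabilizer G a ⊓ stabilizer G b : Subgroup G) := by
    intro z hz
    have h3 := (inferInstance : (commutator (stabilizer G a ⊓ stabilizer G b : Subgroup G)).Characteristic).fixed
      (zswap h1 h2).symm
    rw [← h3] at hz
    exact hz
  have hsym : ∀ y, k (zswap h1 h2 y) = k y := by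
    intro y
    obtain ⟨m, hm⟩ := MonoidHom.map_cyclic ((k y).toMonoidHom)
    apply MulEquiv.ext
    intro z
    apply Subtype.ext
    apply Subtype.ext
    rw [hkapp, hkapp]
    rw [zswap_coe]
    have hz' := hchar z z.2
    have h3 := hm ⟨_, hz'⟩
    have h4 := hm z
    have h5 : (k y) ⟨_, hz'⟩ = ⟨_, hz'⟩ ^ m := h3
    have h6 : (k y) z = z ^ m := h4
    have h7 := hkapp y ⟨_, hz'⟩
    rw [h5] at h7
    have h11 : (y : G) * ((z : (stabilizer G a ⊓ stabilizer G b : Subgroup G)) : G) * (y : G)⁻¹ =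
        ((z : (stabilizer G a ⊓ stabilizer G b : Subgroup G)) : G) ^ m := by
      rw [← hkapp y z, h6]
      simp
    rw [h11]
    push_cast at h7
    simp only [zswap_symm_coe] at h7
    have h8 : (t * (z : _) * t⁻¹ : G) ^ m = y * (t * (z : _) * t⁻¹) * (y : G)⁻¹ := h7
    have h9 : ((t⁻¹ * (y : G) * t) * ((z : _) : G) * (t⁻¹ * (y : G) * t)⁻¹) =
        t⁻¹ * (y * (t * (z : _) * t⁻¹) * (y : G)⁻¹) * t := by
      group
    rw [h9, ← h8]
    have h10 : t⁻¹ * (t * ((z : (stabilizer G a ⊓ stabilizer G b : Subgroup G)) : G) * t⁻¹) ^ m * t =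
        ((z : (stabilizer G a ⊓ stabilizer G b : Subgroup G)) : G) ^ m := by
      have := conj_zpow (a := t⁻¹) (b := (t * ((z : (stabilizer G a ⊓ stabilizer G b : Subgroup G)) : G) * t⁻¹)) (i := m)
      simp only [inv_inv] at this
      rw [← this]
      group
    exact h10
  have hk1 : ∀ y, k y = 1 := by
    intro y
    have h3 := zform hZ hab hT k h1 h2 y
    have h4 : k ⟨t⁻¹ * y * t, zass_swap_conj_mem h1 h2 y.2⟩ = k y := hsym y
    rw [h4] at h3
    apply eq_one_of_sq_of_odd (x := k y) (e := Nat.card (stabilizer G a ⊓ stabilizer G b : Subgroup G))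
      (by rw [sq]; exact h3) _ hodd
    rw [← map_pow, pow_card_eq_one', map_one]
  have hcen : commutator (stabilizer G a ⊓ stabilizer G b : Subgroup G) ≤
      Subgroup.center (stabilizer G a ⊓ stabilizer G b : Subgroup G) := by
    intro z hz
    rw [Subgroup.mem_center_iff]
    intro y
    have h3 := hkapp y ⟨z, hz⟩
    rw [hk1 y] at h3
    simp only [MulAut.one_apply] at h3
    apply Subtype.ext
    simp only [Subgroup.coe_mul]
    rw [eq_mul_inv_iff_mul_eq] at h3
    exact h3.symm
  haveI : Group.IsNilpotent (stabilizer G a ⊓ stabilizer G b : Subgroup G) :=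
    isNilpotent_of_ker_le_center (Abelianization.of)
      (by rw [Abelianization.ker_of]; exact hcen)
  infer_instance

/-- **A swap inverts the two-point stabilizer of odd order.** -/
theorem zo_invert (hZ : Cfsg.IsZassenhausGroup G Ω) {a b : Ω} (hab : a ≠ b) (hT : HT G a b)
    (hodd : Odd (Nat.card (stabilizer G a ⊓ stabilizer G b : Subgroup G))) {t : G}
    (h1 : t • a = b) (h2 : t • b = a) {y : G} (hy : y ∈ (stabilizer G a ⊓ stabilizer G b : Subgroup G)) :
    t⁻¹ * y * t = y⁻¹ := by
  classical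
  haveI := zo_isCyclic hZ hab hT hodd
  letI : CommGroup (stabilizer G a ⊓ stabilizer G b : Subgroup G) := IsCyclic.commGroup
  have h3 := zform hZ hab hT (MonoidHom.id (stabilizer G a ⊓ stabilizer G b : Subgroup G)) h1 h2 ⟨y, hy⟩
  have h4 := congrArg Subtype.val h3
  simp only [MonoidHom.id_apply] at h4
  exact eq_inv_of_mul_eq_one_right h4


/-- A prime order element of the two-point stabilizer gives the congruence `|Ω| ≡ 2`. -/
theorem zo_modEq (hZ : Cfsg.IsZassenhausGroup G Ω) {a b : Ω} (hab : a ≠ b) {q : ℕ} [hq : Fact q.Prime]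
    {u : G} (hu : u ∈ (stabilizer G a ⊓ stabilizer G b : Subgroup G)) (huq : orderOf u = q) :
    Fintype.card Ω ≡ 2 [MOD q] := by
  classical
  let f : Function.End Ω := MulAction.toEndHom u
  have hf : f ^ q ^ 1 = 1 := by
    show (MulAction.toEndHom u : Function.End Ω) ^ q ^ 1 = 1
    rw [← map_pow, pow_one, ← huq, pow_orderOf_eq_one, map_one]
  have hm := Equiv.Perm.card_fixedPoints_modEq hf
  have hu1 : u ≠ 1 := by
    rintro rfl
    rw [orderOf_one] at huq
    exact hq.out.one_lt.ne huq
  have hfix : Function.fixedPoints f = ({a, b} : Set Ω) := by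
    ext z
    simp only [Set.mem_insert_iff, Set.mem_singleton_iff]
    constructor
    · intro hz
      by_contra hcon
      push Not at hcon
      exact hu1 (zass_eq_one hZ hab (Ne.symm hcon.2) (Ne.symm hcon.1) hu.1 hu.2 hz)
    · rintro (rfl | rfl)
      · exact hu.1
      · exact hu.2
  have h2 : Nat.card (Function.fixedPoints f) = 2 := by
    rw [hfix, Nat.card_coe_set_eq, Set.ncard_pair hab]
  rw [← Nat.card_eq_fintype_card, ← Nat.card_eq_fintype_card, h2] at hm
  rw [← Nat.card_eq_fintype_card]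
  exact hm

/-- Homomorphisms to commutative groups vanish under the hypothesis of no normal complements. -/
theorem zo_hom_trivial (hZ : Cfsg.IsZassenhausGroup G Ω) {a b : Ω} (hab : a ≠ b)
    (hodd : Odd (Nat.card (stabilizer G a ⊓ stabilizer G b : Subgroup G)))
    (hnil : ∀ q : ℕ, q.Prime → q ∣ Nat.card (stabilizer G a ⊓ stabilizer G b : Subgroup G) →
      ¬ ∃ N : Subgroup G, N.Normal ∧ N.index = q ^ (Nat.card G).factorization q) : HT G a b := by
  classical
  intro A _ τ y hy
  by_contra hne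
  set E : Subgroup G := stabilizer G a ⊓ stabilizer G b with hE
  have ho1 : orderOf (τ y) ≠ 1 := fun h0 => hne (orderOf_eq_one_iff.mp h0)
  obtain ⟨q, hqp, hqo⟩ := Nat.exists_prime_and_dvd ho1
  haveI : Fact q.Prime := ⟨hqp⟩
  have hyd : orderOf y ∣ Nat.card E := by
    have := orderOf_dvd_natCard (⟨y, hy⟩ : E)
    rwa [Subgroup.orderOf_mk] at this
  have hqy : q ∣ orderOf y := hqo.trans (orderOf_map_dvd τ y)
  have hqd : q ∣ Nat.card E := hqy.trans hyd
  have hq2 : q ≠ 2 := by
    rintro rfl
    exact (Nat.not_even_iff_odd.mpr hodd) (even_iff_two_dvd.mpr hqd)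
  -- an element of order q in the stabilizer
  obtain ⟨u, hu⟩ := exists_prime_orderOf_dvd_card' (G := E) q hqd
  have hmodq := zo_modEq hZ hab (q := q) (u := (u : G)) u.2 ((Subgroup.orderOf_coe u).trans hu)
  have hΩ : Fintype.card Ω % q = 2 % q := hmodq
  have hq3 : 3 ≤ q := by
    have := hqp.two_le
    omega
  have hΩ0 : ¬ q ∣ Fintype.card Ω := by
    intro h0
    have h1 := Nat.mod_eq_zero_of_dvd h0
    rw [h1, Nat.mod_eq_of_lt (by omega)] at hΩ
    omega
  have hΩ1 : ¬ q ∣ Fintype.card Ω - 1 := by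
    intro h0
    have h1 : 2 ≤ Fintype.card Ω := by
      haveI : Nontrivial Ω := ⟨a, b, hab⟩
      exact Fintype.one_lt_card
    obtain ⟨c, hc⟩ := h0
    have h2 : Fintype.card Ω = q * c + 1 := by omega
    rw [h2, Nat.mul_add_mod] at hΩ
    rw [Nat.mod_eq_of_lt (by omega), Nat.mod_eq_of_lt (by omega)] at hΩ
    omega
  have hcardG := zass_card hZ hab
  have hfact : (Nat.card G).factorization q = (Nat.card E).factorization q := by
    rw [← hcardG]
    have hE0 : Nat.card E ≠ 0 := Nat.card_pos.ne'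
    have h1 : Fintype.card Ω ≠ 0 := fun h0 => hΩ0 (by rw [h0]; exact dvd_zero q)
    have h2 : Fintype.card Ω - 1 ≠ 0 := fun h0 => hΩ1 (by rw [h0]; exact dvd_zero q)
    rw [Nat.factorization_mul (mul_ne_zero hE0 h1) h2, Nat.factorization_mul hE0 h1]
    simp [Nat.factorization_eq_zero_of_not_dvd hΩ0, Nat.factorization_eq_zero_of_not_dvd hΩ1]
  -- the Sylow subgroup
  obtain ⟨Q₀⟩ : Nonempty (Sylow q E) := inferInstance
  have hQ₀c : IsCyclic (Q₀ : Subgroup E) := (zass_isZGroup hZ hab hodd).isZGroup q hqp Q₀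
  let Q : Subgroup G := (Q₀ : Subgroup E).map E.subtype
  have hQcard : Nat.card Q = q ^ (Nat.card G).factorization q := by
    rw [Subgroup.card_map_of_injective E.subtype_injective, Q₀.card_eq_multiplicity, hfact]
  let S : Sylow q G := Sylow.ofCard Q hQcard
  have hS : (S : Subgroup G) = Q := rfl
  have hSc : IsCyclic (S : Subgroup G) := by
    rw [hS]
    haveI := hQ₀c
    exact isCyclic_of_surjective ((Q₀ : Subgroup E).equivMapOfInjective E.subtype E.subtype_injective)
      (MulEquiv.surjective _)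
  -- a nontrivial value
  obtain ⟨y₁, y₂, hy12, hcomm, ⟨i, hi⟩, hy2, hm1, hm2⟩ := Cfsg.Agent.Lib.Block.exists_jordan (p := q) y
  have hy1E : y₁ ∈ E := (Subgroup.zpowers_le.2 hy) hm1
  have hτy1 : τ y₁ ≠ 1 := by
    intro h0
    have h1 : τ y = τ y₂ := by
      rw [← hy12, map_mul, h0, one_mul]
    rw [h1] at hqo
    exact hy2 (hqo.trans (orderOf_map_dvd τ y₂))
  have hτS : ∃ z ∈ (S : Subgroup G), τ z ≠ 1 := by
    have hpg : IsPGroup q (Subgroup.zpowers (⟨y₁, hy1E⟩ : E)) := by
      rw [IsPGroup.iff_card, Nat.card_zpowers, Subgroup.orderOf_mk, hi]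
      exact ⟨i, rfl⟩
    obtain ⟨Q', hQ'⟩ := hpg.exists_le_sylow
    obtain ⟨g, hg⟩ := MulAction.exists_smul_eq E Q' Q₀
    have hmem : (⟨y₁, hy1E⟩ : E) ∈ (Q' : Subgroup E) := hQ' (Subgroup.mem_zpowers _)
    have h1 : g * ⟨y₁, hy1E⟩ * g⁻¹ ∈ (Q₀ : Subgroup E) := by
      rw [← hg, Sylow.coe_subgroup_smul]
      exact Subgroup.smul_mem_pointwise_smul _ (MulAut.conj g) _ hmem
    refine ⟨((g * ⟨y₁, hy1E⟩ * g⁻¹ : E) : G), ?_, ?_⟩
    · exact ⟨_, h1, rfl⟩
    · have h2 : τ ((g * ⟨y₁, hy1E⟩ * g⁻¹ : E) : G) = τ y₁ := by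
        simp only [Subgroup.coe_mul, InvMemClass.coe_inv, map_mul, map_inv]
        rw [mul_comm (τ (g : G)), mul_assoc, mul_inv_cancel, mul_one]
      rw [h2]
      exact hτy1
  obtain ⟨P, N, hN, hc⟩ := normal_complement_of_hom S hSc τ hτS
  refine hnil q hqp hqd ⟨N, hN, ?_⟩
  rw [hc.symm.index_eq_card, P.card_eq_multiplicity]

/-- The main theorem: the two-point stabilizer is cyclic, self-centralizing and inverted by swaps. -/
theorem zo_main (hZ : Cfsg.IsZassenhausGroup G Ω) {a b : Ω} (hab : a ≠ b)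
    (hodd : Odd (Nat.card (stabilizer G a ⊓ stabilizer G b : Subgroup G))) (hT : HT G a b) :
    IsCyclic (stabilizer G a ⊓ stabilizer G b : Subgroup G) ∧
      Subgroup.centralizer ((stabilizer G a ⊓ stabilizer G b : Subgroup G) : Set G) =
        stabilizer G a ⊓ stabilizer G b ∧
      ∀ s : G, s • a = b → s • b = a → ∀ h ∈ (stabilizer G a ⊓ stabilizer G b : Subgroup G),
        s * h * s⁻¹ = h⁻¹ := by
  classical
  have hcyc := zo_isCyclic hZ hab hT hodd
  have hinv : ∀ s : G, s • a = b → s • b = a → ∀ h ∈ (stabilizer G a ⊓ stabilizer G b : Subgroup G),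
        s * h * s⁻¹ = h⁻¹ := by
    intro s h1 h2 h hh
    have hi := zass_swap_inv h1 h2
    have := zo_invert hZ hab hT hodd hi.1 hi.2 hh
    simpa using this
  refine ⟨hcyc, ?_, hinv⟩
  apply le_antisymm
  · intro c hc
    obtain ⟨y, hy1, hya, hyb⟩ := zass_two_stabilizer_ne_bot hZ hab
    have hy : y ∈ (stabilizer G a ⊓ stabilizer G b : Subgroup G) := ⟨hya, hyb⟩
    have hcy : c * y * c⁻¹ = y := by
      rw [Subgroup.mem_centralizer_iff] at hc
      rw [← hc y hy]
      group
    have hfix : ∀ z : Ω, y • z = z → z = a ∨ z = b := by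
      intro z hz
      by_contra hcon
      push Not at hcon
      exact hy1 (zass_eq_one hZ hab (Ne.symm hcon.2) (Ne.symm hcon.1) hya hyb hz)
    have hcom : y * c = c * y := by
      rw [Subgroup.mem_centralizer_iff] at hc
      exact hc y hy
    have hca := hfix (c • a) (by rw [← mul_smul, hcom, mul_smul, hya])
    have hcb := hfix (c • b) (by rw [← mul_smul, hcom, mul_smul, hyb])
    have hinj : c • a ≠ c • b := fun h0 => hab (smul_left_cancel c h0)
    rcases hca with hca | hca <;> rcases hcb with hcb | hcb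
    · exact absurd (hca.trans hcb.symm) hinj
    · exact ⟨hca, hcb⟩
    · exfalso
      have h3 := hinv c hca hcb y hy
      rw [hcy] at h3
      have h4 : y ^ 2 = 1 := by
        rw [sq]
        nth_rewrite 1 [h3]
        simp
      have h5 : y ^ Nat.card (stabilizer G a ⊓ stabilizer G b : Subgroup G) = 1 := by
        have := pow_card_eq_one' (x := (⟨y, hy⟩ : (stabilizer G a ⊓ stabilizer G b : Subgroup G)))
        simpa [Subtype.ext_iff] using this
      exact hy1 (eq_one_of_sq_of_odd h4 h5 hodd)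
    · exact absurd (hca.trans hcb.symm) hinj
  · intro h hh
    rw [Subgroup.mem_centralizer_iff]
    intro k hk
    have h1 : (⟨k, hk⟩ : (stabilizer G a ⊓ stabilizer G b : Subgroup G)) * ⟨h, hh⟩ = ⟨h, hh⟩ * ⟨k, hk⟩ := by
      letI : CommGroup (stabilizer G a ⊓ stabilizer G b : Subgroup G) := IsCyclic.commGroup
      exact mul_comm _ _
    exact congrArg Subtype.val h1

end Cfsg.Agent.Lib.Perm.ZO
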