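import Mathlib
import Cfsg.Agent.Lib.Perm.ZassAb6
import Cfsg.Agent.Lib.Perm.SharplyTwo
import Cfsg.Agent.Lib.Perm.ZassSwap
import Cfsg.Agent.S0739

/-!
Zassenhaus groups with an abelian kernel: normal subgroups and the numerical conclusion.
-/

set_option autoImplicit false
set_option linter.unusedSectionVars false
set_option linter.unusedVariables false
set_option linter.style.haveILetI false
set_option linter.unusedSimpArgs false
set_option linter.unnecessarySimpa false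

open MulAction

namespace Cfsg.Agent.Lib.Perm.ZA

open Cfsg.Agent.Lib.Char

universe u v

section RegUnique

variable {G : Type u} {Ω : Type v} [Group G] [Finite G] [MulAction G Ω] [Finite Ω]

/-- Nontrivial elements of a regular subgroup normalized by a doubly transitive subgroup are
conjugate. -/
theorem reg_conj [Nontrivial Ω] {N M : Subgroup G}
    (hT : ∀ x y x' y' : Ω, x ≠ y → x' ≠ y' → ∃ n ∈ N, n • x = x' ∧ n • y = y')
    (hMn : ∀ n ∈ N, ∀ m ∈ M, n * m * n⁻¹ ∈ M)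
    (hr₂ : ∀ m ∈ M, ∀ x : Ω, m • x = x → m = 1)
    {m₁ m₂ : G} (h₁ : m₁ ∈ M) (h₁' : m₁ ≠ 1) (h₂ : m₂ ∈ M) (h₂' : m₂ ≠ 1) :
    ∃ g ∈ N, g * m₁ * g⁻¹ = m₂ := by
  obtain ⟨x⟩ : Nonempty Ω := inferInstance
  have hm₁ : x ≠ m₁ • x := fun h => h₁' (hr₂ m₁ h₁ x h.symm)
  have hm₂ : x ≠ m₂ • x := fun h => h₂' (hr₂ m₂ h₂ x h.symm)
  obtain ⟨g, hg, hgx, hgm⟩ := hT x (m₁ • x) x (m₂ • x) hm₁ hm₂
  refine ⟨g, hg, ?_⟩
  have h3 : m₂⁻¹ * (g * m₁ * g⁻¹) = 1 := by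
    apply hr₂ _ (mul_mem (inv_mem h₂) (hMn g hg m₁ h₁)) x
    have h4 : g⁻¹ • x = x := by rw [inv_smul_eq_iff, hgx]
    simp only [mul_smul]
    rw [h4, hgm, inv_smul_smul]
  rw [inv_mul_eq_one] at h3
  exact h3.symm

/-- A regular subgroup normalized by a doubly transitive subgroup is abelian. -/
theorem reg_comm [Nontrivial Ω] {N M : Subgroup G}
    (hT : ∀ x y x' y' : Ω, x ≠ y → x' ≠ y' → ∃ n ∈ N, n • x = x' ∧ n • y = y')
    (hMn : ∀ n ∈ N, ∀ m ∈ M, n * m * n⁻¹ ∈ M) (hMN : M ≤ N)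
    (hr₁ : ∀ x y : Ω, ∃ m ∈ M, m • x = y)
    (hr₂ : ∀ m ∈ M, ∀ x : Ω, m • x = x → m = 1) :
    ∀ m₁ ∈ M, ∀ m₂ ∈ M, m₁ * m₂ = m₂ * m₁ := by
  classical
  obtain ⟨x, y, hxy⟩ : Nontrivial Ω := inferInstance
  obtain ⟨m₀, hm₀, hm₀x⟩ := hr₁ x y
  have hm₀1 : m₀ ≠ 1 := by
    rintro rfl
    exact hxy (by simpa using hm₀x)
  have hne : Nat.card M ≠ 1 := by
    intro h
    haveI : Subsingleton M := (Nat.card_eq_one_iff_unique.mp h).1
    have h2 : (⟨m₀, hm₀⟩ : M) = 1 := Subsingleton.elim _ _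
    exact hm₀1 (congrArg Subtype.val h2)
  obtain ⟨p, hp, hpd⟩ := Nat.exists_prime_and_dvd hne
  haveI : Fact p.Prime := ⟨hp⟩
  obtain ⟨x₀, hx₀⟩ := exists_prime_orderOf_dvd_card' (G := M) p hpd
  have hx₀1 : (x₀ : G) ≠ 1 := by
    intro h
    have h2 : x₀ = 1 := Subtype.ext h
    rw [h2, orderOf_one] at hx₀
    exact hp.one_lt.ne hx₀
  have hx₀p : (x₀ : G) ^ p = 1 := by
    have h2 := pow_orderOf_eq_one x₀
    rw [hx₀] at h2
    simpa using congrArg Subtype.val h2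
  have hP : IsPGroup p M := by
    intro y
    refine ⟨1, ?_⟩
    rw [pow_one]
    by_cases hy : (y : G) = 1
    · have h2 : y = 1 := Subtype.ext hy
      rw [h2, one_pow]
    · obtain ⟨g, -, hg⟩ := reg_conj hT hMn hr₂ x₀.2 hx₀1 y.2 hy
      apply Subtype.ext
      push_cast
      rw [← hg, conj_pow, hx₀p]
      simp
  haveI : Nontrivial M := ⟨⟨x₀, 1, fun h => hx₀1 (congrArg Subtype.val h)⟩⟩
  haveI := hP.center_nontrivial
  obtain ⟨z, hz⟩ := exists_ne (1 : Subgroup.center M)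
  have hz1 : (((z : M) : G)) ≠ 1 := by
    intro h
    apply hz
    apply Subtype.ext
    exact Subtype.ext h
  intro m₁ hm₁ m₂ hm₂
  by_cases hm₁1 : m₁ = 1
  · rw [hm₁1]
    group
  obtain ⟨g, hg, hgz⟩ := reg_conj hT hMn hr₂ (z : M).2 hz1 hm₁ hm₁1
  have hgi : g⁻¹ ∈ N := inv_mem hg
  have h3 : g⁻¹ * m₂ * g ∈ M := by
    have := hMn g⁻¹ hgi m₂ hm₂
    simpa using this
  have h4 : ((z : M) : G) * (g⁻¹ * m₂ * g) = (g⁻¹ * m₂ * g) * ((z : M) : G) := by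
    have h5 := (Subgroup.mem_center_iff.mp z.2) ⟨_, h3⟩
    exact (congrArg Subtype.val h5).symm
  rw [← hgz]
  calc g * ((z : M) : G) * g⁻¹ * m₂ = g * (((z : M) : G) * (g⁻¹ * m₂ * g)) * g⁻¹ := by group
    _ = g * ((g⁻¹ * m₂ * g) * ((z : M) : G)) * g⁻¹ := by rw [h4]
    _ = _ := by group

/-- Uniqueness of a regular subgroup normalized by a doubly transitive subgroup. -/
theorem reg_unique [Nontrivial Ω] [FaithfulSMul G Ω] {N M M' : Subgroup G}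
    (hT : ∀ x y x' y' : Ω, x ≠ y → x' ≠ y' → ∃ n ∈ N, n • x = x' ∧ n • y = y')
    (hMN : M ≤ N) (hM'N : M' ≤ N)
    (hMn : ∀ n ∈ N, ∀ m ∈ M, n * m * n⁻¹ ∈ M) (hM'n : ∀ n ∈ N, ∀ m ∈ M', n * m * n⁻¹ ∈ M')
    (hr₁ : ∀ x y : Ω, ∃ m ∈ M, m • x = y) (hr₂ : ∀ m ∈ M, ∀ x : Ω, m • x = x → m = 1)
    (hr₁' : ∀ x y : Ω, ∃ m ∈ M', m • x = y) (hr₂' : ∀ m ∈ M', ∀ x : Ω, m • x = x → m = 1) :
    M = M' := by
  classical
  by_cases hmeet : ∃ z, z ∈ M ∧ z ∈ M' ∧ z ≠ 1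
  · obtain ⟨z, hzM, hzM', hz1⟩ := hmeet
    have hle : M ≤ M' := by
      intro m hm
      by_cases hm1 : m = 1
      · rw [hm1]
        exact one_mem _
      · obtain ⟨g, hg, hgm⟩ := reg_conj hT hMn hr₂ hzM hz1 hm hm1
        rw [← hgm]
        exact hM'n g hg z hzM'
    apply le_antisymm hle
    intro m' hm'
    obtain ⟨x⟩ : Nonempty Ω := inferInstance
    obtain ⟨m, hm, hmx⟩ := hr₁ x (m' • x)
    have h1 : m⁻¹ * m' = 1 := by
      apply hr₂' _ (mul_mem (inv_mem (hle hm)) hm') x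
      rw [mul_smul, inv_smul_eq_iff, hmx]
    rw [inv_mul_eq_one] at h1
    rw [← h1]
    exact hm
  · exfalso
    push Not at hmeet
    have hcomm : ∀ m ∈ M, ∀ m' ∈ M', m * m' = m' * m := by
      intro m hm m' hm'
      have h1 : m * m' * m⁻¹ * m'⁻¹ ∈ M' :=
        mul_mem (hM'n m (hMN hm) m' hm') (inv_mem hm')
      have h2 : m * m' * m⁻¹ * m'⁻¹ ∈ M := by
        have h3 := mul_mem hm (hMn m' (hM'N hm') m⁻¹ (inv_mem hm))
        have h4 : m * (m' * m⁻¹ * m'⁻¹) = m * m' * m⁻¹ * m'⁻¹ := by group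
        rwa [h4] at h3
      have h3 := hmeet _ h2 h1
      rw [mul_inv_eq_one, mul_inv_eq_iff_eq_mul] at h3
      exact h3
    have hMc := reg_comm hT hMn hMN hr₁ hr₂
    obtain ⟨x, y, hxy⟩ : Nontrivial Ω := inferInstance
    obtain ⟨m', hm', hm'x⟩ := hr₁' x y
    obtain ⟨m, hm, hmx⟩ := hr₁ x y
    have h1 : m⁻¹ * m' = 1 := by
      apply FaithfulSMul.eq_of_smul_eq_smul (α := Ω)
      intro w
      obtain ⟨m₁, hm₁, hm₁x⟩ := hr₁ x w
      rw [one_smul, ← hm₁x]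
      have h2 : m⁻¹ * m' * m₁ = m₁ * (m⁻¹ * m') := by
        have h3 := hcomm m₁ hm₁ m' hm'
        have h4 := hMc m₁ hm₁ m⁻¹ (inv_mem hm)
        calc m⁻¹ * m' * m₁ = m⁻¹ * (m₁ * m') := by rw [mul_assoc, h3]
          _ = (m⁻¹ * m₁) * m' := by group
          _ = (m₁ * m⁻¹) * m' := by rw [h4]
          _ = _ := by group
      rw [← mul_smul, h2, mul_smul, mul_smul, hm'x, ← hmx, inv_smul_smul]
    rw [inv_mul_eq_one] at h1
    have hm'1 : m' ≠ 1 := by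
      rintro rfl
      exact hxy (by simpa using hm'x)
    exact hm'1 (hmeet m' (by rw [← h1]; exact hm) hm')

/-- A normal doubly transitive subgroup of a Zassenhaus group has no regular normal subgroup. -/
theorem no_regular (hZ : Cfsg.IsZassenhausGroup G Ω) {N : Subgroup G} (hN : N.Normal)
    (hT : ∀ x y x' y' : Ω, x ≠ y → x' ≠ y' → ∃ n ∈ N, n • x = x' ∧ n • y = y')
    (M : Subgroup N) (hMn : M.Normal) (hr₁ : ∀ x y : Ω, ∃ m ∈ M, m • x = y)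
    (hr₂ : ∀ m ∈ M, ∀ x : Ω, m • x = x → m = 1) : False := by
  classical
  have hne : Nontrivial Ω := by
    obtain ⟨g, hg, c, d, hcd, -, -⟩ := hZ.2.2.2.1
    exact ⟨c, d, hcd⟩
  haveI := hZ.1
  let M₀ : Subgroup G := M.map N.subtype
  have hM₀ : ∀ z : G, z ∈ M₀ ↔ ∃ h : z ∈ N, (⟨z, h⟩ : N) ∈ M := by
    intro z
    constructor
    · rintro ⟨m, hm, rfl⟩
      exact ⟨m.2, hm⟩
    · rintro ⟨h, hz⟩
      exact ⟨⟨z, h⟩, hz, rfl⟩
  have hM₀N : M₀ ≤ N := by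
    intro z hz
    exact ((hM₀ z).mp hz).1
  have hM₀n : ∀ n ∈ N, ∀ m ∈ M₀, n * m * n⁻¹ ∈ M₀ := by
    intro n hn m hm
    obtain ⟨h, hm'⟩ := (hM₀ m).mp hm
    rw [hM₀]
    refine ⟨N.mul_mem (N.mul_mem hn h) (N.inv_mem hn), ?_⟩
    exact hMn.conj_mem ⟨m, h⟩ hm' ⟨n, hn⟩
  have hr₁₀ : ∀ x y : Ω, ∃ m ∈ M₀, m • x = y := by
    intro x y
    obtain ⟨m, hm, hmx⟩ := hr₁ x y
    exact ⟨m, ⟨m, hm, rfl⟩, hmx⟩
  have hr₂₀ : ∀ m ∈ M₀, ∀ x : Ω, m • x = x → m = 1 := by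
    intro m hm x hx
    obtain ⟨h, hm'⟩ := (hM₀ m).mp hm
    have := hr₂ ⟨m, h⟩ hm' x hx
    exact congrArg Subtype.val this
  have hnormal : M₀.Normal := by
    refine ⟨fun z hz g => ?_⟩
    let M₁ : Subgroup G := M₀.map (MulAut.conj g).toMonoidHom
    have hM₁ : ∀ w : G, w ∈ M₁ ↔ g⁻¹ * w * g ∈ M₀ := by
      intro w
      constructor
      · rintro ⟨z', hz', rfl⟩
        simpa [mul_assoc] using hz'
      · intro h
        refine ⟨_, h, ?_⟩
        simp [mul_assoc]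
    have heq : M₀ = M₁ := by
      refine reg_unique hT hM₀N ?_ hM₀n ?_ hr₁₀ hr₂₀ ?_ ?_
      · intro w hw
        rw [hM₁] at hw
        have h1 := hM₀N hw
        have h2 := hN.conj_mem _ h1 g
        have h3 : g * (g⁻¹ * w * g) * g⁻¹ = w := by group
        rwa [h3] at h2
      · intro n hn m hm
        rw [hM₁] at hm ⊢
        have h1 := hN.conj_mem n hn g⁻¹
        have h2 := hM₀n _ (by simpa using h1) _ hm
        have h3 : g⁻¹ * n * g * (g⁻¹ * m * g) * (g⁻¹ * n * g)⁻¹ = g⁻¹ * (n * m * n⁻¹) * g := by group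
        rwa [h3] at h2
      · intro x y
        obtain ⟨m, hm, hmx⟩ := hr₁₀ (g⁻¹ • x) (g⁻¹ • y)
        refine ⟨g * m * g⁻¹, ?_, ?_⟩
        · rw [hM₁]
          have h3 : g⁻¹ * (g * m * g⁻¹) * g = m := by group
          rwa [h3]
        · simp only [mul_smul]
          rw [hmx, smul_inv_smul]
      · intro m hm x hx
        rw [hM₁] at hm
        have h1 := hr₂₀ _ hm (g⁻¹ • x) (by
          simp only [mul_smul, smul_inv_smul, hx])
        have h2 : m = g * (g⁻¹ * m * g) * g⁻¹ := by group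
        rw [h2, h1]
        group
    have h1 : g * z * g⁻¹ ∈ M₁ := ⟨z, hz, rfl⟩
    rwa [← heq] at h1
  have htrans : IsPretransitive M₀ Ω := by
    refine ⟨fun x y => ?_⟩
    obtain ⟨m, hm, hmx⟩ := hr₁₀ x y
    exact ⟨⟨m, hm⟩, hmx⟩
  obtain ⟨c, hc⟩ := hZ.2.2.2.2 M₀ hnormal htrans
  apply hc
  rw [eq_bot_iff]
  intro m hm
  have h1 : (m : G) • c = c := hm
  have h2 := hr₂₀ m m.2 c h1
  exact Subtype.ext h2

/-- A normal doubly transitive subgroup of a Zassenhaus group is a Zassenhaus group. -/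
theorem zass_restrict (hZ : Cfsg.IsZassenhausGroup G Ω) {N : Subgroup G} (hN : N.Normal)
    (hT : ∀ x y x' y' : Ω, x ≠ y → x' ≠ y' → ∃ n ∈ N, n • x = x' ∧ n • y = y') :
    Cfsg.IsZassenhausGroup N Ω := by
  classical
  have hne : Nontrivial Ω := by
    obtain ⟨g, hg, c, d, hcd, -, -⟩ := hZ.2.2.2.1
    exact ⟨c, d, hcd⟩
  have htwo : 2 ≤ Nat.card Ω := Finite.one_lt_card
  refine ⟨⟨fun {n₁ n₂} h => Subtype.ext (hZ.1.eq_of_smul_eq_smul h)⟩, ?_, ?_, ?_, ?_⟩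
  · refine ⟨fun x y => ?_⟩
    obtain ⟨n, hn, h1, h2⟩ := hT (x 0) (x 1) (y 0) (y 1)
      (fun h => by simpa using x.injective h) (fun h => by simpa using y.injective h)
    refine ⟨⟨n, hn⟩, ?_⟩
    ext i
    fin_cases i
    · exact h1
    · exact h2
  · intro g a b c hab hbc hac h1 h2 h3
    exact Subtype.ext (hZ.2.2.1 g a b c hab hbc hac h1 h2 h3)
  · by_contra hcon
    push Not at hcon
    have hS : ∀ (g : N) (a b : Ω), a ≠ b → g • a = a → g • b = b → g = 1 := by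
      intro g a b hab h1 h2
      by_contra hg
      exact hcon g hg a b hab h1 h2
    have hT' : ∀ a b c d : Ω, a ≠ b → c ≠ d → ∃ g : N, g • a = c ∧ g • b = d := by
      intro a b c d hab hcd
      obtain ⟨n, hn, h1, h2⟩ := hT a b c d hab hcd
      exact ⟨⟨n, hn⟩, h1, h2⟩
    obtain ⟨M, p, j, -, -, -, hMn, -, -, hr₁, hr₂, -, -, -, -⟩ := Cfsg.Agent.Lib.Perm.sharply_two_structure htwo hT' hS
    exact no_regular hZ hN hT M hMn hr₁ hr₂
  · intro M hMn htr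
    by_contra hcon
    push Not at hcon
    refine no_regular hZ hN hT M hMn ?_ ?_
    · intro x y
      obtain ⟨m, hm⟩ := htr.exists_smul_eq x y
      exact ⟨m, m.2, hm⟩
    · intro m hm x hx
      have h1 := hcon x
      have h2 : (⟨m, hm⟩ : M) ∈ stabilizer M x := hx
      rw [h1] at h2
      have h3 : (⟨m, hm⟩ : M) = 1 := h2
      exact congrArg Subtype.val h3

end RegUnique

end Cfsg.Agent.Lib.Perm.ZA
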