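import Mathlib
import Cfsg.Agent.Lib.Perm.ZassAb7

/-!
Zassenhaus groups with an abelian kernel: the numerical conclusion.
-/

set_option autoImplicit false
set_option linter.unusedSectionVars false
set_option linter.unusedVariables false
set_option linter.style.haveILetI false
set_option linter.unusedSimpArgs false
set_option linter.unnecessarySimpa false

open MulAction

namespace Cfsg.Agent.Lib.Perm.ZA

open Cfsg.Agent.Lib.Char

universe u v

variable {G : Type u} {Ω : Type v} [Group G] [MulAction G Ω] [Fintype G] [Fintype Ω]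
  {a b : Ω} {F : Subgroup G}

local notation "E" => (stabilizer G a ⊓ stabilizer G b : Subgroup G)

namespace Setup

variable (S : Setup G Ω a b F)
include S

/-- A normal subgroup containing the kernel is doubly transitive. -/
theorem two_trans_normal {N : Subgroup G} (hN : N.Normal) (hFN : F ≤ N) :
    ∀ x y x' y' : Ω, x ≠ y → x' ≠ y' → ∃ n ∈ N, n • x = x' ∧ n • y = y' := by
  have hat : ∀ c x y : Ω, x ≠ c → y ≠ c → ∃ n ∈ N, n • c = c ∧ n • x = y := by
    intro c x y hx hy
    obtain ⟨g, hg⟩ : ∃ g : G, g • a = c := by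
      by_cases hac : a = c
      · exact ⟨1, by simp [hac]⟩
      · obtain ⟨g, hg, -⟩ := zass_two_trans S.hZ a c c a hac (Ne.symm hac)
        exact ⟨g, hg⟩
    have hx' : g⁻¹ • x ≠ a := by
      intro h0
      apply hx
      rw [inv_smul_eq_iff] at h0
      rw [h0, hg]
    have hy' : g⁻¹ • y ≠ a := by
      intro h0
      apply hy
      rw [inv_smul_eq_iff] at h0
      rw [h0, hg]
    obtain ⟨u, hu, hux⟩ := S.reg hx' hy'
    refine ⟨g * u * g⁻¹, hN.conj_mem u (hFN hu) g, ?_, ?_⟩
    · simp only [mul_smul]
      rw [← hg, inv_smul_smul, show u • a = a from S.hFa hu]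
    · simp only [mul_smul]
      rw [hux, smul_inv_smul]
  have htr : ∀ x y : Ω, ∃ n ∈ N, n • x = y := by
    intro x y
    by_cases hxy : x = y
    · exact ⟨1, one_mem _, by simp [hxy]⟩
    · obtain ⟨c, hc1, hc2⟩ := zass_exists_third S.hZ hxy
      obtain ⟨n, hn, -, h⟩ := hat c x y (Ne.symm hc1) (Ne.symm hc2)
      exact ⟨n, hn, h⟩
  intro x y x' y' hxy hxy'
  obtain ⟨n₁, hn₁, h₁⟩ := htr x x'
  have h2 : n₁ • y ≠ x' := by
    intro h0
    apply hxy
    apply smul_left_cancel n₁
    rw [h₁, h0]
  obtain ⟨n₂, hn₂, h3, h4⟩ := hat x' (n₁ • y) y' h2 (Ne.symm hxy')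
  exact ⟨n₂ * n₁, mul_mem hn₂ hn₁, by rw [mul_smul, h₁, h3], by rw [mul_smul, h4]⟩

/-- The setting passes to a normal subgroup containing the kernel. -/
theorem restrict {N : Subgroup G} (hN : N.Normal) (hFN : F ≤ N) [Fintype N] :
    Setup N Ω a b (F.subgroupOf N) where
  hZ := zass_restrict S.hZ hN (S.two_trans_normal hN hFN)
  hab := S.hab
  hFa := fun x hx => S.hFa (Subgroup.mem_subgroupOf.mp hx)
  hFcard := by
    rw [← S.hFcard]
    congr 1
    exact Nat.card_congr (Subgroup.subgroupOfEquivOfLe hFN).toEquiv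
  hFfix := fun u hu hu1 c hc =>
    S.hFfix u (Subgroup.mem_subgroupOf.mp hu) (fun h => hu1 (Subtype.ext h)) c hc
  hFc := fun x hx y hy => Subtype.ext
    (S.hFc x (Subgroup.mem_subgroupOf.mp hx) y (Subgroup.mem_subgroupOf.mp hy))

theorem card_ge_two : 2 ≤ Nat.card F := by
  classical
  obtain ⟨c₃, hc₃a, hc₃b⟩ := zass_exists_third S.hZ S.hab
  have h1 : ({a, b, c₃} : Finset Ω).card = 3 := by
    rw [Finset.card_eq_three]
    exact ⟨a, b, c₃, S.hab, Ne.symm hc₃a, Ne.symm hc₃b, rfl⟩
  have h2 : 3 ≤ Fintype.card Ω := by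
    rw [← h1]
    exact Finset.card_le_univ _
  have h3 := S.hFcard
  omega

/-- The two point stabilizer acts freely on the remaining points. -/
theorem d_dvd : Nat.card E ∣ Nat.card F - 1 := by
  classical
  let T : SubMulAction E Ω :=
    { carrier := {x | x ≠ a ∧ x ≠ b}
      smul_mem' := by
        rintro e x ⟨hxa, hxb⟩
        constructor
        · intro h0
          apply hxa
          apply smul_left_cancel (e : G)
          rw [show (e : G) • a = a from e.2.1]
          exact h0
        · intro h0
          apply hxb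
          apply smul_left_cancel (e : G)
          rw [show (e : G) • b = b from e.2.2]
          exact h0 }
  have hfree : ∀ x : T, stabilizer E x = ⊥ := by
    intro x
    rw [eq_bot_iff]
    intro e he
    have h1 : (e : G) • (x : Ω) = x := congrArg Subtype.val he
    have h2 := zass_eq_one S.hZ S.hab (Ne.symm x.2.2) (Ne.symm x.2.1) e.2.1 e.2.2 h1
    exact Subtype.ext h2
  have h1 := Nat.card_congr (MulAction.selfEquivOrbitsQuotientProd (G := E) (X := T) hfree)
  rw [Nat.card_prod] at h1
  have h2 : Nat.card T + 1 = Nat.card F := by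
    have h3 : Nat.card T = Fintype.card {x : Ω // x ≠ a ∧ x ≠ b} := by
      rw [← Nat.card_eq_fintype_card]
      exact Nat.card_congr (Equiv.subtypeEquivRight (fun x => Iff.rfl))
    rw [h3, Fintype.card_subtype]
    have h4 : (Finset.univ.filter fun x : Ω => x ≠ a ∧ x ≠ b) = (Finset.univ.erase a).erase b := by
      ext x
      simp
      tauto
    rw [h4, Finset.card_erase_of_mem (Finset.mem_erase.mpr ⟨Ne.symm S.hab, Finset.mem_univ _⟩),
      Finset.card_erase_of_mem (Finset.mem_univ _), Finset.card_univ, ← S.hFcard]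
    have := S.card_ge_two
    omega
  have h5 : Nat.card F - 1 = Nat.card T := by omega
  rw [h5, h1]
  exact Dvd.intro_left _ rfl

/-- The order of the two point stabilizer of a normal subgroup. -/
theorem card_restrict {N : Subgroup G} (hN : N.Normal) (hFN : F ≤ N) [Fintype N] :
    Nat.card (stabilizer N a ⊓ stabilizer N b : Subgroup N) * N.index = Nat.card E := by
  have S' := S.restrict hN hFN
  have h1 := S'.card_group
  have h2 := S.card_group
  have h3 := N.card_mul_index
  have h4 : Nat.card (F.subgroupOf N) = Nat.card F :=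
    Nat.card_congr (Subgroup.subgroupOfEquivOfLe hFN).toEquiv
  rw [h4] at h1
  rw [h1, h2] at h3
  have hp : 0 < Nat.card F := Nat.card_pos
  have hp2 : 0 < (Nat.card F + 1) * Nat.card F := by positivity
  apply Nat.eq_of_mul_eq_mul_right hp2
  calc _ = Nat.card (stabilizer N a ⊓ stabilizer N b : Subgroup N) * (Nat.card F + 1) * Nat.card F * N.index := by ring
    _ = _ := by rw [h3]; ring

/-- There are no normal complements of Sylow subgroups when the numerical conclusion holds for
normal subgroups. -/
theorem hnil_of (hodd : Odd (Nat.card E))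
    (hIH : ∀ (N : Subgroup G) [Fintype N], N.Normal → F ≤ N → Nat.card N < Nat.card G →
      Nat.card F - 1 = Nat.card (stabilizer N a ⊓ stabilizer N b : Subgroup N) ∨
      Nat.card F - 1 = 2 * Nat.card (stabilizer N a ⊓ stabilizer N b : Subgroup N))
    (q : ℕ) (hq : q.Prime) (hqd : q ∣ Nat.card E) :
    ¬ ∃ N : Subgroup G, N.Normal ∧ N.index = q ^ (Nat.card G).factorization q := by
  classical
  rintro ⟨N, hN, hidx⟩
  haveI : Fintype N := Fintype.ofFinite _
  have hq2 : q ≠ 2 := by
    rintro rfl
    exact (Nat.not_even_iff_odd.mpr hodd) (even_iff_two_dvd.mpr hqd)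
  have hq3 : 3 ≤ q := by
    have := hq.two_le
    omega
  have hcardG := S.card_group
  have hqG : q ∣ Nat.card G := by
    rw [hcardG]
    exact Dvd.dvd.mul_right (Dvd.dvd.mul_right hqd _) _
  have hG0 : Nat.card G ≠ 0 := Nat.card_pos.ne'
  have hv : 1 ≤ (Nat.card G).factorization q :=
    (hq.dvd_iff_one_le_factorization hG0).mp hqG
  have hidx3 : 3 ≤ N.index := by
    rw [hidx]
    calc 3 ≤ q := hq3
      _ = q ^ 1 := (pow_one q).symm
      _ ≤ _ := Nat.pow_le_pow_right hq.pos hv
  have hn2 := S.card_ge_two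
  have hdd := S.d_dvd
  have hn1 : Nat.card F - 1 ≠ 0 := by omega
  have hqn : ¬ q ∣ Nat.card F := by
    intro h0
    have h1 : q ∣ Nat.card F - 1 := hqd.trans hdd
    have h2 : q ∣ 1 := by
      have h3 : Nat.card F = (Nat.card F - 1) + 1 := by omega
      rw [h3] at h0
      exact (Nat.dvd_add_right h1).mp h0
    exact hq.one_lt.ne' (Nat.dvd_one.mp h2)
  have hFN : F ≤ N := by
    intro u hu
    have h1 : orderOf u ∣ Nat.card F := by
      have h2 := orderOf_dvd_natCard (⟨u, hu⟩ : F)
      rwa [Subgroup.orderOf_mk] at h2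
    have hcop : (N.index).Coprime (orderOf u) := by
      rw [hidx]
      apply Nat.Coprime.pow_left
      exact (Nat.Prime.coprime_iff_not_dvd hq).mpr (fun h => hqn (h.trans h1))
    obtain ⟨m, hm⟩ := exists_pow_eq_self_of_coprime hcop
    rw [← hm]
    exact pow_mem (Subgroup.pow_index_mem N u) m
  have hd := S.card_restrict hN hFN
  have hd0 : 0 < Nat.card (stabilizer N a ⊓ stabilizer N b : Subgroup N) := Nat.card_pos
  have hlt : Nat.card N < Nat.card G := by
    have h1 := N.card_mul_index
    have h2 : 0 < Nat.card N := Nat.card_pos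
    rw [← h1]
    nlinarith
  have hle : Nat.card E ≤ Nat.card F - 1 := Nat.le_of_dvd (by omega) hdd
  rcases hIH N hN hFN hlt with h | h <;> rw [h] at hle <;> nlinarith

/-- Swaps invert the two point stabilizers, and these are abelian. -/
theorem invert_of_nil (hodd : Odd (Nat.card E))
    (hnil : ∀ q : ℕ, q.Prime → q ∣ Nat.card E →
      ¬ ∃ N : Subgroup G, N.Normal ∧ N.index = q ^ (Nat.card G).factorization q) :
    (∀ x y : E, x * y = y * x) ∧
    ∀ c, c ≠ a → ∀ t : G, t • a = c → t • c = a → ∀ y ∈ stabilizer G a ⊓ stabilizer G c,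
      t⁻¹ * y * t = y⁻¹ := by
  have h0 := Cfsg.Agent.S0739.result S.hZ S.hab hodd hnil
  constructor
  · intro x y
    haveI := h0.1
    letI := IsCyclic.commGroup (α := E)
    exact mul_comm x y
  · intro c hca t h1 h2 y hy
    have hac : a ≠ c := Ne.symm hca
    have heq := zass_card_inf_eq S.hZ S.hab hac
    have h3 := Cfsg.Agent.S0739.result S.hZ hac (by rwa [heq])
      (by
        intro q hq hqd
        rw [heq] at hqd
        exact hnil q hq hqd)
    have h4 := h3.2.2 t⁻¹ (by rw [inv_smul_eq_iff, h2]) (by rw [inv_smul_eq_iff, h1]) y hy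
    simpa using h4

end Setup

/-- **The numerical conclusion.** -/
theorem numeric_aux (Ω : Type v) [Fintype Ω] : ∀ (m : ℕ) (G : Type u) [Group G] [MulAction G Ω]
    [Fintype G] (a b : Ω) (F : Subgroup G), Setup G Ω a b F → Nat.card G = m →
    Nat.card F - 1 = Nat.card (stabilizer G a ⊓ stabilizer G b : Subgroup G) ∨
    Nat.card F - 1 = 2 * Nat.card (stabilizer G a ⊓ stabilizer G b : Subgroup G) := by
  intro m
  induction m using Nat.strong_induction_on with
  | _ m ih =>
    intro G _ _ _ a b F S hm
    have hn2 := S.card_ge_two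
    obtain ⟨k, hk⟩ := S.d_dvd
    have hd0 : 0 < Nat.card (stabilizer G a ⊓ stabilizer G b : Subgroup G) := Nat.card_pos
    have hkpos : 0 < k := by
      rcases Nat.eq_zero_or_pos k with h | h
      · rw [h] at hk
        omega
      · exact h
    rcases Nat.even_or_odd (Nat.card (stabilizer G a ⊓ stabilizer G b : Subgroup G)) with heven | hodd
    · have h1 := Cfsg.Agent.Lib.Perm.two_mul_card_ge S.hZ S.hab heven
      have h2 := S.hFcard
      have h3 : Fintype.card Ω - 2 = Nat.card F - 1 := by omega
      rw [h3, hk] at h1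
      have hk2 : k ≤ 2 := by nlinarith
      interval_cases k
      · left
        omega
      · right
        omega
    · have hd1 : Nat.card (stabilizer G a ⊓ stabilizer G b : Subgroup G) ≠ 1 := by
        intro h1
        obtain ⟨g, hg, hga, hgb⟩ := zass_two_stabilizer_ne_bot S.hZ S.hab
        haveI : Subsingleton (stabilizer G a ⊓ stabilizer G b : Subgroup G) :=
          (Nat.card_eq_one_iff_unique.mp h1).1
        have h2 : (⟨g, hga, hgb⟩ : (stabilizer G a ⊓ stabilizer G b : Subgroup G)) = 1 :=
          Subsingleton.elim _ _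
        exact hg (congrArg Subtype.val h2)
      have hnil := S.hnil_of hodd (fun N _ hN hFN hlt => by
        have h1 := ih (Nat.card N) (hm ▸ hlt) N a b (F.subgroupOf N) (S.restrict hN hFN) rfl
        have h2 : Nat.card (F.subgroupOf N) = Nat.card F :=
          Nat.card_congr (Subgroup.subgroupOfEquivOfLe hFN).toEquiv
        rwa [h2] at h1)
      obtain ⟨hEc, hinv⟩ := S.invert_of_nil hodd hnil
      have h1 := S.char_core hinv hodd hEc hd1
      rw [hk] at h1
      have h2 : k ∣ 2 := by
        rw [mul_comm 2] at h1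
        exact Nat.dvd_of_mul_dvd_mul_left hd0 h1
      have hk2 : k ≤ 2 := Nat.le_of_dvd (by norm_num) h2
      interval_cases k
      · left
        omega
      · right
        omega

end Cfsg.Agent.Lib.Perm.ZA
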