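import Mathlib
import Cfsg.Agent.Lib.Perm.ZassSwap
import Cfsg.Agent.Lib.Char.ZassZ
import Cfsg.Agent.Lib.SmallSimple.Mobius
import Cfsg.Agent.Lib.Classical.Basic
import Cfsg.Agent.S0738

/-!
Zassenhaus groups with even two-point stabilisers of order `(n-1)/2` are `PSL(2,n)`.
-/

set_option autoImplicit false
set_option linter.style.haveILetI false

namespace Cfsg.Agent.Lib.Perm.ZP

open MulAction OnePoint

/-- A commutative group acting freely on a finite abelian group with two regular orbits on the
non-zero elements yields a finite field. -/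
theorem exists_field_of_free {A E : Type*} [AddCommGroup A] [Finite A] [Group E] [Finite E]
    (hc : ∀ e f : E, e * f = f * e) (μ : E →* AddMonoid.End A)
    (hfree : ∀ (e : E) (u : A), μ e u = u → e = 1 ∨ u = 0)
    (hcard : Nat.card A = 2 * Nat.card E + 1) :
    ∃ (p f : ℕ) (K : Type) (_ : Field K) (_ : Fintype K), p.Prime ∧ 0 < f ∧ Fintype.card K = p ^ f ∧
      p ^ f = Nat.card A ∧ ∃ (κ : K ≃+ A) (ε : E →* Kˣ), Function.Injective ε ∧
        ∀ (e : E) (k : K), κ ((ε e : K) * k) = μ e (κ k) := by
  classical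
  let R : Subring (AddMonoid.End A) := Subring.closure (Set.range μ)
  have hcomm : ∀ x ∈ Set.range μ, ∀ y ∈ Set.range μ, x * y = y * x := by
    rintro _ ⟨e, rfl⟩ _ ⟨f, rfl⟩
    rw [← map_mul, hc, map_mul]
  letI iCR : CommRing R := Subring.closureCommRingOfComm hcomm
  haveI : Finite (AddMonoid.End A) := Finite.of_injective (fun f => (f : A → A)) DFunLike.coe_injective
  haveI : Fintype R := Fintype.ofFinite R
  let f₀ : E →* R :=
    { toFun := fun e => ⟨μ e, Subring.subset_closure ⟨e, rfl⟩⟩
      map_one' := Subtype.ext (map_one μ)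
      map_mul' := fun x y => Subtype.ext (map_mul μ x y) }
  have hEpos : 0 < Nat.card E := Nat.card_pos
  have hmulapp : ∀ (x y : AddMonoid.End A) (u : A), (x * y) u = x (y u) := fun _ _ _ => rfl
  haveI hNA : Nontrivial A := Finite.one_lt_card_iff_nontrivial.mp (by omega)
  obtain ⟨v₀, hv₀⟩ := exists_ne (0 : A)
  have hirr : ∀ W : AddSubgroup A, (∀ e, ∀ u ∈ W, μ e u ∈ W) → W = ⊥ ∨ W = ⊤ := by
    intro W hW
    by_cases hb : W = ⊥
    · exact Or.inl hb
    right
    obtain ⟨w, hw, hw0⟩ : ∃ w ∈ W, w ≠ 0 := by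
      by_contra hcon
      push Not at hcon
      exact hb (AddSubgroup.eq_bot_iff_forall _ |>.mpr hcon)
    have hge : Nat.card E + 1 ≤ Nat.card W := by
      rw [← Finite.card_option]
      apply Nat.card_le_card_of_injective (fun o : Option E => match o with
        | Option.none => (⟨0, W.zero_mem⟩ : W)
        | Option.some e => ⟨μ e w, hW e w hw⟩)
      have hne0 : ∀ e : E, μ e w ≠ 0 := by
        intro e h0
        apply hw0
        have h1 : μ e⁻¹ (μ e w) = w := by
          rw [← hmulapp, ← map_mul, inv_mul_cancel, map_one]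
          rfl
        rw [← h1, h0, map_zero]
      intro x y hxy
      cases x with
      | none =>
        cases y with
        | none => rfl
        | some f => exact absurd (congrArg Subtype.val hxy).symm (hne0 f)
      | some e =>
        cases y with
        | none => exact absurd (congrArg Subtype.val hxy) (hne0 e)
        | some f =>
          have h1 : μ e w = μ f w := congrArg Subtype.val hxy
          have h2 : μ (f⁻¹ * e) w = w := by
            rw [map_mul, hmulapp, h1, ← hmulapp, ← map_mul, inv_mul_cancel, map_one]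
            rfl
          rcases hfree _ _ h2 with h3 | h3
          · rw [inv_mul_eq_one] at h3
            rw [h3]
          · exact absurd h3 hw0
    obtain ⟨c, hc'⟩ := AddSubgroup.card_addSubgroup_dvd_card W
    have hc1 : c = 1 := by
      rw [hcard] at hc'
      have hc0 : c ≠ 0 := by
        rintro rfl
        omega
      by_contra hne
      have hc2 : 2 ≤ c := by omega
      nlinarith
    rw [hc1, mul_one] at hc'
    exact AddSubgroup.eq_top_of_card_eq W hc'.symm
  have hrc : ∀ (r : R) (e : E) (u : A), (r : AddMonoid.End A) (μ e u) = μ e ((r : AddMonoid.End A) u) := by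
    intro r e u
    have h1 : r * f₀ e = f₀ e * r := mul_comm _ _
    have h2 := congrArg (fun t : R => (t : AddMonoid.End A) u) h1
    exact h2
  have hkill : ∀ r : R, r ≠ 0 → ∀ u : A, (r : AddMonoid.End A) u = 0 → u = 0 := by
    intro r hr u hu
    let W : AddSubgroup A := ((r : AddMonoid.End A) : A →+ A).ker
    have hWinv : ∀ e, ∀ u ∈ W, μ e u ∈ W := by
      intro e u hu
      have hu' : (r : AddMonoid.End A) u = 0 := hu
      show (r : AddMonoid.End A) (μ e u) = 0
      rw [hrc r e u, hu', map_zero]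
    rcases hirr W hWinv with h0 | h0
    · have h1 : u ∈ W := hu
      rw [h0] at h1
      simpa using h1
    · exfalso
      apply hr
      apply Subtype.ext
      ext x
      have h1 : x ∈ W := by rw [h0]; exact AddSubgroup.mem_top x
      exact h1
  haveI hNR : Nontrivial R := by
    refine ⟨⟨1, 0, fun h => hv₀ ?_⟩⟩
    have h1 := congrArg (fun t : R => (t : AddMonoid.End A) v₀) h
    exact h1
  haveI hNZD : NoZeroDivisors R := by
    refine ⟨fun {r s} h => ?_⟩
    by_cases hr : r = 0
    · exact Or.inl hr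
    right
    apply Subtype.ext
    ext u
    apply hkill r hr
    have h1 := congrArg (fun t : R => (t : AddMonoid.End A) u) h
    exact h1
  haveI : IsDomain R := NoZeroDivisors.to_isDomain R
  letI fld : Field R := Fintype.fieldOfDomain R
  let φ : R →+ A :=
    { toFun := fun r => (r : AddMonoid.End A) v₀
      map_zero' := rfl
      map_add' := fun _ _ => rfl }
  have hφinj : Function.Injective φ := by
    rw [injective_iff_map_eq_zero]
    intro r hr
    by_contra hr0
    exact hv₀ (hkill r hr0 v₀ hr)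
  have hφsurj : Function.Surjective φ := by
    have hinvW : ∀ e, ∀ u ∈ φ.range, μ e u ∈ φ.range := by
      rintro e _ ⟨r, rfl⟩
      exact ⟨f₀ e * r, rfl⟩
    rcases hirr φ.range hinvW with h0 | h0
    · exfalso
      have h1 : v₀ ∈ φ.range := ⟨1, rfl⟩
      rw [h0] at h1
      exact hv₀ (by simpa using h1)
    · intro u
      have h1 : u ∈ φ.range := by rw [h0]; exact AddSubgroup.mem_top u
      exact h1
  let κ₀ : R ≃+ A := AddEquiv.ofBijective φ ⟨hφinj, hφsurj⟩
  have hRA : Fintype.card R = Nat.card A := by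
    rw [← Nat.card_eq_fintype_card]
    exact Nat.card_congr κ₀.toEquiv
  obtain ⟨p, hchar⟩ := CharP.exists R
  obtain ⟨n, hp, hn⟩ := FiniteField.card R p
  haveI : Fact p.Prime := ⟨hp⟩
  haveI : Fintype (GaloisField p n) := Fintype.ofFinite _
  have hK : Fintype.card (GaloisField p n) = p ^ (n : ℕ) := by
    rw [← Nat.card_eq_fintype_card]
    exact GaloisField.card p n n.ne_zero
  let ι : GaloisField p n ≃+* R := FiniteField.ringEquivOfCardEq (by rw [hK, hn])
  let ε : E →* (GaloisField p n)ˣ :=
    (Units.map ((ι.symm : R ≃+* GaloisField p n) : R →* GaloisField p n)).comp f₀.toHomUnits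
  have hε : ∀ e : E, ι (ε e : GaloisField p n) = f₀ e := by
    intro e
    show ι (ι.symm (f₀ e)) = f₀ e
    simp
  refine ⟨p, n, GaloisField p n, inferInstance, inferInstance, hp, n.pos, hK, ?_,
    ι.toAddEquiv.trans κ₀, ε, ?_, ?_⟩
  · rw [← hn, hRA]
  · intro e e' hee
    have h1 : ι (ε e : GaloisField p n) = ι (ε e' : GaloisField p n) := by rw [hee]
    rw [hε, hε] at h1
    have h2 : μ e v₀ = μ e' v₀ := congrArg (fun t : R => (t : AddMonoid.End A) v₀) h1
    have h3 : μ (e'⁻¹ * e) v₀ = v₀ := by
      rw [map_mul, hmulapp, h2, ← hmulapp, ← map_mul, inv_mul_cancel, map_one]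
      rfl
    rcases hfree _ _ h3 with h4 | h4
    · rw [inv_mul_eq_one] at h4
      exact h4.symm
    · exact absurd h4 hv₀
  · intro e k
    show φ (ι ((ε e : GaloisField p n) * k)) = μ e (φ (ι k))
    rw [map_mul, hε]
    rfl

/-- The functional equation forces the inversion. -/
theorem inv_of_functional {K : Type*} [Field K] [Finite K] (Q : Subgroup Kˣ) (hQ : Q.index = 2)
    (hm1 : (-1 : Kˣ) ∈ Q) (S : K → K) (hS1 : S 1 = 1)
    (hSq : ∀ u ∈ Q, ∀ x : K, S ((u : K) * x) = ((u⁻¹ : Kˣ) : K) * S x)
    (hstar : ∀ x : K, x ≠ 0 → x ≠ -1 → S (S x + 1) = 1 - S (x + 1)) :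
    ∀ x : K, x ≠ 0 → S x = x⁻¹ := by
  classical
  haveI : Fintype K := Fintype.ofFinite K
  have hSQ : ∀ u ∈ Q, S (u : K) = ((u⁻¹ : Kˣ) : K) := by
    intro u hu
    have h1 := hSq u hu 1
    rwa [mul_one, hS1, mul_one] at h1
  obtain ⟨x₀, hx₀Q, h1, h2⟩ : ∃ u : Kˣ, u ∈ Q ∧ (u : K) + 1 ≠ 0 ∧ ∀ v ∈ Q, (v : K) ≠ u + 1 := by
    by_contra hcon
    push Not at hcon
    let B : AddSubgroup K :=
      { carrier := {x | x = 0 ∨ ∃ u ∈ Q, (u : K) = x}
        zero_mem' := Or.inl rfl
        add_mem' := by
          rintro a b (rfl | ⟨u, hu, rfl⟩) (rfl | ⟨v, hv, rfl⟩)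
          · left
            simp
          · right
            exact ⟨v, hv, by simp⟩
          · right
            exact ⟨u, hu, by simp⟩
          · have hw : u * v⁻¹ ∈ Q := mul_mem hu (inv_mem hv)
            have h3 : (u : K) + v = v * ((u * v⁻¹ : Kˣ) + 1) := by
              simp only [Units.val_mul, Units.val_inv_eq_inv_val]
              field_simp
            by_cases h4 : ((u * v⁻¹ : Kˣ) : K) + 1 = 0
            · left
              rw [h3, h4, mul_zero]
            · right
              obtain ⟨t, ht, ht'⟩ := hcon _ hw h4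
              refine ⟨v * t, mul_mem hv ht, ?_⟩
              rw [h3, Units.val_mul, ht']
        neg_mem' := by
          rintro a (rfl | ⟨u, hu, rfl⟩)
          · left
            simp
          · right
            exact ⟨-1 * u, mul_mem hm1 hu, by simp⟩ }
    have hcardQ : Nat.card Kˣ = 2 * Nat.card Q := by
      have h3 := Q.card_mul_index
      rw [hQ] at h3
      rw [← h3, mul_comm]
    have hcardK : Nat.card K = 2 * Nat.card Q + 1 := by
      rw [← hcardQ, Nat.card_eq_fintype_card, Nat.card_eq_fintype_card, Fintype.card_units]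
      have : 0 < Fintype.card K := Fintype.card_pos
      omega
    have hpos : 0 < Nat.card Q := Nat.card_pos
    have hge : Nat.card Q + 1 ≤ Nat.card B := by
      rw [← Finite.card_option]
      apply Nat.card_le_card_of_injective (fun o : Option Q => match o with
        | Option.none => (⟨0, Or.inl rfl⟩ : B)
        | Option.some u => ⟨((u : Kˣ) : K), Or.inr ⟨u, u.2, rfl⟩⟩)
      intro x y hxy
      cases x with
      | none =>
        cases y with
        | none => rfl
        | some f => exact absurd (congrArg Subtype.val hxy).symm (Units.ne_zero _)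
      | some e =>
        cases y with
        | none => exact absurd (congrArg Subtype.val hxy) (Units.ne_zero _)
        | some f =>
          have h5 : ((e : Kˣ) : K) = ((f : Kˣ) : K) := congrArg Subtype.val hxy
          rw [Units.val_inj] at h5
          rw [Subtype.ext h5]
    obtain ⟨c, hc⟩ := AddSubgroup.card_addSubgroup_dvd_card B
    have hc1 : c = 1 := by
      rw [hcardK] at hc
      have hc0 : c ≠ 0 := by
        rintro rfl
        omega
      by_contra hne
      have hc2 : 2 ≤ c := by omega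
      nlinarith
    rw [hc1, mul_one] at hc
    have hB : B = ⊤ := AddSubgroup.eq_top_of_card_eq B hc.symm
    have hQtop : Q = ⊤ := by
      rw [eq_top_iff]
      intro u _
      have h5 : (u : K) ∈ B := by rw [hB]; exact AddSubgroup.mem_top _
      rcases h5 with h6 | ⟨v, hv, hvu⟩
      · exact absurd h6 (Units.ne_zero u)
      · rw [Units.val_inj] at hvu
        rwa [← hvu]
    rw [hQtop, Subgroup.index_top] at hQ
    omega
  set η : K := (x₀ : K) + 1 with hη
  let w : Kˣ := Units.mk0 η h1
  have hw : w ∉ Q := by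
    intro hw
    exact h2 w hw rfl
  have hx₀0 : (x₀ : K) ≠ 0 := Units.ne_zero x₀
  have hx₀1 : (x₀ : K) ≠ -1 := by
    intro h0
    apply h1
    rw [hη, h0]
    ring
  have hSη : S η = η⁻¹ := by
    have h3 := hstar x₀ hx₀0 hx₀1
    rw [hSQ x₀ hx₀Q] at h3
    have h4 : ((x₀⁻¹ : Kˣ) : K) + 1 = ((x₀⁻¹ : Kˣ) : K) * η := by
      rw [hη, mul_add, Units.val_inv_eq_inv_val, inv_mul_cancel₀ hx₀0, mul_one, add_comm]
    rw [h4, hSq _ (inv_mem hx₀Q), inv_inv, ← hη] at h3
    have h5 : η * S η = 1 := by
      rw [hη, add_mul, one_mul, h3]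
      ring
    exact eq_inv_of_mul_eq_one_right h5
  intro y hy
  let v : Kˣ := Units.mk0 y hy
  by_cases hv : v ∈ Q
  · have h3 := hSQ v hv
    simpa [v] using h3
  · have h3 : v * w⁻¹ ∈ Q := by
      rw [Subgroup.mul_mem_iff_of_index_two hQ]
      constructor
      · intro h0
        exact absurd h0 hv
      · intro h0
        exact absurd (inv_mem_iff.mp h0) hw
    have h4 : y = ((v * w⁻¹ : Kˣ) : K) * η := by
      simp only [Units.val_mul, Units.val_inv_eq_inv_val, v, w, Units.val_mk0]
      field_simp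
    rw [h4, hSq _ h3, hSη]
    simp only [Units.val_inv_eq_inv_val, Units.val_mul, v, w, Units.val_mk0]
    field_simp

variable {G Ω : Type*} [Group G] [Finite G] [MulAction G Ω] [Fintype Ω]

/-- If `2 d = n - 1` then every element interchanging two points is an involution with two fixed
points. -/
theorem swap_all (hZ : Cfsg.IsZassenhausGroup G Ω) {a b : Ω} (hab : a ≠ b)
    (heven : Even (Nat.card ↥(stabilizer G a ⊓ stabilizer G b)))
    (hd : Fintype.card Ω - 2 = 2 * Nat.card ↥(stabilizer G a ⊓ stabilizer G b))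
    (s : G) (hsa : s • a = b) (hsb : s • b = a) :
    s * s = 1 ∧ Nat.card (fixedBy Ω s) = 2 := by
  classical
  haveI := Fintype.ofFinite G
  obtain ⟨⟨u, hu⟩, huo⟩ := exists_prime_orderOf_dvd_card' (G := ↥(stabilizer G a ⊓ stabilizer G b)) 2
    (heven.two_dvd)
  have huo' : orderOf u = 2 := by
    rwa [Subgroup.orderOf_mk] at huo
  have hua : u • a = a := hu.1
  have hub : u • b = b := hu.2
  have hu1 : u ≠ 1 := by
    rintro rfl
    simp at huo'
  have hmoved : ∀ c : Ω, c ≠ a → c ≠ b → u • c ≠ c := by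
    intro c hca hcb hc
    exact hu1 (hZ.2.2.1 u a b c hab (Ne.symm hcb) (Ne.symm hca) hua hub hc)
  let Y : Set G := {x | x • a = b ∧ x • b = a}
  have hfun : ∀ c : {c : Ω // c ≠ a ∧ c ≠ b}, ∃ s : G, s ∈ Y ∧ s • (c : Ω) = c ∧
      Nat.card (fixedBy Ω s) = 2 ∧ s * s = 1 := by
    rintro ⟨c, hca, hcb⟩
    obtain ⟨s, h1, h2, h3, h4, h5⟩ := exists_swap_of_moved hZ hab heven hua hub huo' (hmoved c hca hcb)
    refine ⟨s, ⟨h2, h3⟩, h4, h5, ?_⟩
    rw [← sq, ← h1]
    exact pow_orderOf_eq_one s
  choose φ hφ1 hφ2 hφ3 hφ4 using hfun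
  have hcardY : Nat.card Y = Nat.card ↥(stabilizer G a ⊓ stabilizer G b) := by
    obtain ⟨t, ht1, ht2⟩ := Lib.Char.zass_two_trans hZ a b b a hab (Ne.symm hab)
    apply Nat.card_congr
    refine ⟨fun x => ⟨t⁻¹ * x.1, ?_, ?_⟩, fun h => ⟨t * h.1, ?_, ?_⟩, ?_, ?_⟩
    · show (t⁻¹ * x.1) • a = a
      rw [mul_smul, x.2.1, inv_smul_eq_iff, ht1]
    · show (t⁻¹ * x.1) • b = b
      rw [mul_smul, x.2.2, inv_smul_eq_iff, ht2]
    · show (t * h.1) • a = b
      have h1 : h.1 • a = a := h.2.1
      rw [mul_smul, h1, ht1]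
    · show (t * h.1) • b = a
      have h1 : h.1 • b = b := h.2.2
      rw [mul_smul, h1, ht2]
    · intro x
      apply Subtype.ext
      show t * (t⁻¹ * x.1) = x.1
      group
    · intro h
      apply Subtype.ext
      show t⁻¹ * (t * h.1) = h.1
      group
  haveI : Fintype Y := Fintype.ofFinite _
  let ψ : {c : Ω // c ≠ a ∧ c ≠ b} → Y := fun c => ⟨φ c, hφ1 c⟩
  have hfib : ∀ y : Y, (Finset.univ.filter (fun c => ψ c = y)).card ≤ 2 := by
    intro y
    have hle : ((Finset.univ.filter (fun c => ψ c = y)).map ⟨Subtype.val, Subtype.val_injective⟩ : Finset Ω) ⊆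
        (fixedBy Ω (y : G)).toFinset := by
      intro x hx
      rw [Finset.mem_map] at hx
      obtain ⟨c, hc, rfl⟩ := hx
      rw [Finset.mem_filter] at hc
      rw [Set.mem_toFinset]
      have h1 : φ c = y := congrArg Subtype.val hc.2
      show (y : G) • (c : Ω) = c
      rw [← h1]
      exact hφ2 c
    by_cases hy : ∃ c, ψ c = y
    · obtain ⟨c, hc⟩ := hy
      have h1 : φ c = y := congrArg Subtype.val hc
      have h2 := hφ3 c
      rw [h1] at h2
      have h3 := Finset.card_le_card hle
      rw [Finset.card_map] at h3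
      have h4 : (fixedBy Ω (y : G)).toFinset.card = 2 := by
        rw [← h2, Nat.card_eq_fintype_card, Set.toFinset_card]
      omega
    · have : Finset.univ.filter (fun c => ψ c = y) = ∅ := by
        rw [Finset.filter_eq_empty_iff]
        intro c _ h
        exact hy ⟨c, h⟩
      rw [this]
      simp
  have hcount : Fintype.card {c : Ω // c ≠ a ∧ c ≠ b} ≤ 2 * (Finset.univ.image ψ).card := by
    have := Finset.card_le_mul_card_image (s := Finset.univ) (f := ψ) 2 (fun y _ => hfib y)
    simpa [Finset.card_univ] using this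
  have hcomp : Fintype.card {c : Ω // c ≠ a ∧ c ≠ b} = Fintype.card Ω - 2 := by
    have h1 : Fintype.card {c : Ω // c ≠ a ∧ c ≠ b} = (Finset.univ.filter (fun c : Ω => c ≠ a ∧ c ≠ b)).card :=
      Fintype.card_subtype _
    have h2 : Finset.univ.filter (fun c : Ω => c ≠ a ∧ c ≠ b) = Finset.univ \ {a, b} := by
      ext c
      simp
    rw [h1, h2, Finset.card_sdiff_of_subset (Finset.subset_univ _), Finset.card_univ, Finset.card_pair hab]
  have himage : Finset.univ.image ψ = Finset.univ := by
    apply Finset.eq_univ_of_card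
    apply le_antisymm (Finset.card_le_univ _)
    rw [← Nat.card_eq_fintype_card (α := Y), hcardY]
    omega
  have hmem : (⟨s, hsa, hsb⟩ : Y) ∈ Finset.univ.image ψ := by
    rw [himage]
    exact Finset.mem_univ _
  rw [Finset.mem_image] at hmem
  obtain ⟨c, -, hc⟩ := hmem
  have h1 : φ c = s := congrArg Subtype.val hc
  rw [← h1]
  exact ⟨hφ4 c, hφ3 c⟩

/-- Recognition of `PSL(2,K)` from coordinates on the complement of a point. -/
theorem psl_of_coords {K : Type} [Field K] [Fintype K] (hZ : Cfsg.IsZassenhausGroup G Ω) (a : Ω) (β : K → Ω)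
    (hβne : ∀ k, β k ≠ a) (hβinj : Function.Injective β) (hβsurj : ∀ x, x ≠ a → ∃ k, β k = x)
    (hT : ∀ u : K, ∃ g : G, g • a = a ∧ ∀ k, g • β k = β (k + u))
    (hM : ∀ c : K, c ≠ 0 → ∃ g : G, g • a = a ∧ ∀ k, g • β k = β (c ^ 2 * k))
    (hI : ∃ g : G, g • a = β 0 ∧ g • β 0 = a ∧ ∀ i, i ≠ 0 → g • β i = β (-i⁻¹))
    (hcard : Nat.card G = Nat.card (Matrix.ProjectiveSpecialLinearGroup (Fin 2) K)) :
    Nonempty (G ≃* Matrix.ProjectiveSpecialLinearGroup (Fin 2) K) := by
  classical
  let θf : OnePoint K → Ω := fun x => match x with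
    | OnePoint.infty => a
    | OnePoint.some k => β k
  have hθinj : Function.Injective θf := by
    intro x y hxy
    cases x with
    | infty =>
      cases y with
      | infty => rfl
      | coe l => exact absurd hxy.symm (hβne l)
    | coe k =>
      cases y with
      | infty => exact absurd hxy (hβne k)
      | coe l =>
        have : β k = β l := hxy
        rw [hβinj this]
  have hθsurj : Function.Surjective θf := by
    intro x
    by_cases hx : x = a
    · exact ⟨∞, hx.symm⟩
    · obtain ⟨k, hk⟩ := hβsurj x hx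
      exact ⟨(k : OnePoint K), hk⟩
  let θ : OnePoint K ≃ Ω := Equiv.ofBijective θf ⟨hθinj, hθsurj⟩
  have hθ1 : θ ∞ = a := rfl
  have hθ2 : ∀ k : K, θ (k : OnePoint K) = β k := fun _ => rfl
  have hθ3 : θ.symm a = ∞ := by
    rw [Equiv.symm_apply_eq]
    rfl
  have hθ4 : ∀ k : K, θ.symm (β k) = (k : OnePoint K) := by
    intro k
    rw [Equiv.symm_apply_eq]
    rfl
  let ρ : G →* Equiv.Perm (OnePoint K) :=
    (θ.symm.permCongrHom.toMonoidHom).comp (MulAction.toPermHom G Ω)
  have hρ : ∀ (g : G) (z : OnePoint K), ρ g z = θ.symm (g • θ z) := fun _ _ => rfl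
  have hinj : Function.Injective ρ := by
    rw [injective_iff_map_eq_one]
    intro g hg
    haveI := hZ.1
    apply FaithfulSMul.eq_of_smul_eq_smul (α := Ω)
    intro x
    have h1 := hρ g (θ.symm x)
    rw [hg] at h1
    simp only [Equiv.Perm.one_apply, Equiv.apply_symm_apply] at h1
    rw [one_smul]
    exact (θ.symm.injective h1).symm
  refine Cfsg.Agent.Lib.SmallSimple.nonempty_psl_of_contains ρ hinj ?_ ?_ ?_ hcard
  · intro u
    obtain ⟨g, h1, h2⟩ := hT u
    refine ⟨ρ g, ⟨g, rfl⟩, ?_, fun k => ?_⟩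
    · rw [hρ, hθ1, h1, hθ3]
    · rw [hρ, hθ2, h2, hθ4]
  · intro c hc
    obtain ⟨g, h1, h2⟩ := hM c hc
    refine ⟨ρ g, ⟨g, rfl⟩, ?_, fun k => ?_⟩
    · rw [hρ, hθ1, h1, hθ3]
    · rw [hρ, hθ2, h2, hθ4]
  · obtain ⟨g, h1, h2, h3⟩ := hI
    refine ⟨ρ g, ⟨g, rfl⟩, ?_, ?_, fun k hk => ?_⟩
    · rw [hρ, hθ1, h1, hθ4]
    · rw [hρ, hθ2, h2, hθ3]
    · rw [hρ, hθ2, h3 k hk, hθ4]

/-- The order of `PSL(2,K)`. -/
theorem card_psl_field {K : Type*} [Field K] [Fintype K] {d : ℕ} (hd : 0 < d)
    (hK : Fintype.card K = 2 * d + 1) :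
    Nat.card (Matrix.ProjectiveSpecialLinearGroup (Fin 2) K) = d * (2 * d + 2) * (2 * d + 1) := by
  have h := Cfsg.Agent.Lib.Classical.card_PSL (F := K) hK 2 (by norm_num)
  have hg : Nat.gcd 2 (2 * d + 1 - 1) = 2 := by
    rw [Nat.add_sub_cancel]
    exact Nat.gcd_mul_right_right d 2
  rw [hg, Fin.prod_univ_two] at h
  simp only [Fin.val_zero, Fin.val_one, pow_zero, pow_one, Nat.add_sub_cancel] at h
  have h1 : (2 * d + 1) ^ 2 - 1 = 2 * d * (2 * d + 2) := by
    have : (2 * d + 1) ^ 2 = 2 * d * (2 * d + 2) + 1 := by ring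
    omega
  have h2 : (2 * d + 1) ^ 2 - (2 * d + 1) = 2 * d * (2 * d + 1) := by
    have : (2 * d + 1) ^ 2 = 2 * d * (2 * d + 1) + (2 * d + 1) := by ring
    omega
  rw [h1, h2] at h
  have h3 : 0 < 2 * (2 * d) := by omega
  apply Nat.eq_of_mul_eq_mul_left h3
  rw [mul_assoc 2 (2 * d), h]
  ring

/-- The main theorem. -/
theorem main (hZ : Cfsg.IsZassenhausGroup G Ω) {a b : Ω} (hab : a ≠ b)
    (heven : Even (Nat.card ↥(stabilizer G a ⊓ stabilizer G b)))
    (hd2 : 2 * Nat.card ↥(stabilizer G a ⊓ stabilizer G b) ≤ Fintype.card Ω - 2) :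
    ∃ (p f : ℕ) (K : Type) (_ : Field K) (_ : Fintype K), p.Prime ∧ p ≠ 2 ∧ Fintype.card K = p ^ f ∧
      Fintype.card Ω = p ^ f + 1 ∧ Nonempty (G ≃* Matrix.ProjectiveSpecialLinearGroup (Fin 2) K) := by
  classical
  have hn := le_antisymm (two_mul_card_ge hZ hab heven) hd2
  have hswap := swap_all hZ hab heven hn
  set E : Subgroup G := stabilizer G a ⊓ stabilizer G b with hE
  set d := Nat.card E with hd
  have hd0 : 0 < d := Nat.card_pos
  haveI : Nontrivial Ω := ⟨a, b, hab⟩
  have hΩ : Fintype.card Ω = 2 * d + 2 := by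
    have h1 : 1 < Fintype.card Ω := Fintype.one_lt_card
    have h2 : 2 ≤ Fintype.card Ω := h1
    obtain ⟨x, hx⟩ : ∃ x, x ∉ ({a, b} : Finset Ω) := by
      by_contra hcon
      push Not at hcon
      have h3 : Fintype.card Ω ≤ 2 := by
        have h4 : (Finset.univ : Finset Ω) ⊆ {a, b} := fun y _ => hcon y
        have h5 := Finset.card_le_card h4
        rw [Finset.card_univ, Finset.card_pair hab] at h5
        exact h5
      have h6 : d = 0 := by omega
      omega
    have h7 : ({a, b, x} : Finset Ω).card = 3 := by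
      simp only [Finset.mem_insert, Finset.mem_singleton, not_or] at hx
      rw [Finset.card_eq_three]
      exact ⟨a, b, x, hab, Ne.symm hx.1, Ne.symm hx.2, rfl⟩
    have h8 : 3 ≤ Fintype.card Ω := by
      rw [← h7]
      exact Finset.card_le_univ _
    omega
  -- swaps invert
  have hinv : ∀ s : G, s • a = b → s • b = a → ∀ e ∈ E, s * e * s⁻¹ = e⁻¹ := by
    intro s h1 h2 e he
    have h3 : (s * e) • a = b := by
      rw [mul_smul, show e • a = a from he.1, h1]
    have h4 : (s * e) • b = a := by
      rw [mul_smul, show e • b = b from he.2, h2]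
    have h5 := (hswap (s * e) h3 h4).1
    have h6 := (hswap s h1 h2).1
    have h7 : s⁻¹ = s := inv_eq_of_mul_eq_one_left h6
    rw [h7, eq_inv_iff_mul_eq_one]
    calc s * e * s * e = (s * e) * (s * e) := by group
      _ = 1 := h5
  obtain ⟨s₀, hs₀a, hs₀b⟩ := Lib.Char.zass_two_trans hZ a b b a hab (Ne.symm hab)
  have hEcomm : ∀ e f : E, e * f = f * e := by
    intro e f
    apply Subtype.ext
    have h1 := hinv s₀ hs₀a hs₀b _ (mul_mem e.2 f.2)
    have h2 := hinv s₀ hs₀a hs₀b _ e.2
    have h3 := hinv s₀ hs₀a hs₀b _ f.2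
    have h4 : s₀ * ((e : G) * f) * s₀⁻¹ = (s₀ * e * s₀⁻¹) * (s₀ * f * s₀⁻¹) := by group
    rw [h4, h2, h3, ← mul_inv_rev] at h1
    have h5 := inv_injective h1
    exact h5.symm
  -- the kernel
  obtain ⟨F, hFa, hFc, hFfix⟩ := Lib.Char.zass_exists_kernel hZ hab
  have hFconj : ∀ {g u : G}, g • a = a → u ∈ F → g * u * g⁻¹ ∈ F := fun hg hu =>
    Lib.Char.zass_kernel_conj_mem hZ hab F hFa hFc hFfix hg hu
  have hcompl : Nat.card {x : Ω // x ≠ a} = Nat.card F := by
    have h1 : Fintype.card {x : Ω // x ≠ a} + 1 = Fintype.card Ω := by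
      have := Fintype.card_congr (Equiv.optionSubtypeNe a)
      rwa [Fintype.card_option] at this
    rw [Nat.card_eq_fintype_card]
    omega
  have hFreg : ∀ y z : Ω, y ≠ a → z ≠ a → ∃! u : F, (u : G) • y = z := by
    intro y z hy hz
    have hne : ∀ u : F, (u : G) • y ≠ a := by
      intro u h0
      apply hy
      have h1 : (u : G) • a = a := hFa u.2
      exact smul_left_cancel (u : G) (h0.trans h1.symm)
    let f : F → {x : Ω // x ≠ a} := fun u => ⟨(u : G) • y, hne u⟩
    have hfinj : Function.Injective f := by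
      intro u v huv
      have h1 : (u : G) • y = (v : G) • y := congrArg Subtype.val huv
      have h2 : ((v : G)⁻¹ * u) • y = y := by
        rw [mul_smul, h1, inv_smul_smul]
      by_contra hne'
      have h3 : (v : G)⁻¹ * u ≠ 1 := by
        intro h0
        rw [inv_mul_eq_one] at h0
        exact hne' (Subtype.ext h0.symm)
      exact hy (hFfix _ (mul_mem (inv_mem v.2) u.2) h3 y h2)
    have hfsurj : Function.Surjective f :=
      (Function.Injective.bijective_of_nat_card_le hfinj hcompl.le).2
    obtain ⟨u, hu⟩ := hfsurj ⟨z, hz⟩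
    have hu' : (u : G) • y = z := congrArg Subtype.val hu
    refine ⟨u, hu', fun v hv => ?_⟩
    apply hfinj
    apply Subtype.ext
    show (v : G) • y = (u : G) • y
    rw [hv, hu']
  have hFcomm : IsMulCommutative F := by
    have h1 := Cfsg.Agent.S0738.result hZ hab (by rw [hn]) F hFa
      ⟨fun n hn g => by
        have h2 : ((g : G) * (n : stabilizer G a) * (g : G)⁻¹) ∈ F :=
          hFconj g.2 (Subgroup.mem_subgroupOf.mp hn)
        exact Subgroup.mem_subgroupOf.mpr h2⟩ hFreg
    exact h1.1
  letI iC : CommGroup F := { (inferInstance : Group F) with mul_comm := hFcomm.is_comm.comm }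
  -- the action on the kernel
  let cF : E → F → F := fun e u => ⟨(e : G) * u * (e : G)⁻¹, hFconj e.2.1 u.2⟩
  let μ : E →* AddMonoid.End (Additive F) :=
    { toFun := fun e =>
        { toFun := fun u => Additive.ofMul (cF e (Additive.toMul u))
          map_zero' := by
            apply Additive.toMul.injective
            apply Subtype.ext
            show (e : G) * 1 * (e : G)⁻¹ = 1
            group
          map_add' := fun u v => by
            apply Additive.toMul.injective
            apply Subtype.ext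
            show (e : G) * (((Additive.toMul u : F) : G) * ((Additive.toMul v : F) : G)) * (e : G)⁻¹ =
              ((e : G) * ((Additive.toMul u : F) : G) * (e : G)⁻¹) * ((e : G) * ((Additive.toMul v : F) : G) * (e : G)⁻¹)
            group }
      map_one' := by
        apply AddMonoidHom.ext
        intro u
        apply Additive.toMul.injective
        apply Subtype.ext
        show (1 : G) * ((Additive.toMul u : F) : G) * (1 : G)⁻¹ = ((Additive.toMul u : F) : G)
        group
      map_mul' := fun e f => by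
        apply AddMonoidHom.ext
        intro u
        apply Additive.toMul.injective
        apply Subtype.ext
        show ((e : G) * (f : G)) * ((Additive.toMul u : F) : G) * ((e : G) * (f : G))⁻¹ =
          (e : G) * ((f : G) * ((Additive.toMul u : F) : G) * (f : G)⁻¹) * (e : G)⁻¹
        group }
  have hμ : ∀ (e : E) (u : Additive F), ((Additive.toMul (μ e u) : F) : G) =
      (e : G) * ((Additive.toMul u : F) : G) * (e : G)⁻¹ := fun _ _ => rfl
  have hfree : ∀ (e : E) (u : Additive F), μ e u = u → e = 1 ∨ u = 0 := by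
    intro e u hu
    by_cases hu0 : u = 0
    · exact Or.inr hu0
    left
    have hg1 : ((Additive.toMul u : F) : G) ≠ 1 := by
      intro h0
      apply hu0
      apply Additive.toMul.injective
      exact Subtype.ext h0
    set g : G := ((Additive.toMul u : F) : G) with hg
    have hgF : g ∈ F := (Additive.toMul u : F).2
    have hc : (e : G) * g * (e : G)⁻¹ = g := by
      have := hμ e u
      rw [hu] at this
      exact this.symm
    have hgb : g • b ≠ b := fun h0 => hab (hFfix g hgF hg1 b h0).symm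
    have hga : g • b ≠ a := by
      intro h0
      have h1 : g • a = a := hFa hgF
      exact hab (smul_left_cancel g (h1.trans h0.symm))
    have heb : (e : G) • (g • b) = g • b := by
      have h1 : (e : G) • b = b := e.2.2
      calc (e : G) • (g • b) = ((e : G) * g * (e : G)⁻¹) • ((e : G) • b) := by
            rw [← mul_smul, ← mul_smul, show (e : G) * g * (e : G)⁻¹ * (e : G) = (e : G) * g by group]
        _ = g • b := by rw [hc, h1]
    have h3 := Lib.Char.zass_eq_one hZ hab (Ne.symm hgb) (Ne.symm hga) e.2.1 e.2.2 heb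
    exact Subtype.ext h3
  have hcardA : Nat.card (Additive F) = 2 * Nat.card E + 1 := by
    have h1 : Nat.card (Additive F) = Nat.card F := rfl
    rw [h1]
    omega
  obtain ⟨p, f, K, iF, iT, hp, hf, hK, hpf, κ, ε, hεinj, hκ⟩ :=
    exists_field_of_free hEcomm μ hfree hcardA
  have hKcard : Fintype.card K = 2 * d + 1 := by
    rw [hK, hpf, hcardA]
  -- coordinates
  let vec : K → F := fun k => Additive.toMul (κ k)
  have hvec0 : vec 0 = 1 := by
    show Additive.toMul (κ 0) = 1
    rw [map_zero]
    rfl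
  have hvecadd : ∀ k l : K, vec (k + l) = vec k * vec l := by
    intro k l
    show Additive.toMul (κ (k + l)) = _
    rw [map_add]
    rfl
  have hvecinj : Function.Injective vec := by
    intro k l hkl
    exact κ.injective (Additive.toMul.injective hkl)
  let β : K → Ω := fun k => ((vec k : F) : G) • b
  have hβ0 : β 0 = b := by
    show ((vec 0 : F) : G) • b = b
    rw [hvec0]
    simp
  have hβne : ∀ k, β k ≠ a := by
    intro k h0
    have h1 : ((vec k : F) : G) • a = a := hFa (vec k).2
    exact hab (smul_left_cancel ((vec k : F) : G) (h1.trans h0.symm))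
  have hβinj : Function.Injective β := by
    intro k l hkl
    apply hvecinj
    have h1 : (((vec l : F) : G))⁻¹ * ((vec k : F) : G) = 1 := by
      by_contra hne
      have h2 : ((((vec l : F) : G))⁻¹ * ((vec k : F) : G)) • b = b := by
        rw [mul_smul]
        show ((vec l : F) : G)⁻¹ • β k = b
        rw [hkl]
        exact inv_smul_smul _ _
      exact hab (hFfix _ (mul_mem (inv_mem (vec l).2) (vec k).2) hne b h2).symm
    rw [inv_mul_eq_one] at h1
    exact Subtype.ext h1.symm
  have hβsurj : ∀ x, x ≠ a → ∃ k, β k = x := by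
    intro x hx
    obtain ⟨u, hu, -⟩ := hFreg b x (Ne.symm hab) hx
    obtain ⟨k, hk⟩ := κ.surjective (Additive.ofMul u)
    refine ⟨k, ?_⟩
    show ((Additive.toMul (κ k) : F) : G) • b = x
    rw [hk]
    exact hu
  have htrans : ∀ u k : K, ((vec u : F) : G) • β k = β (u + k) := by
    intro u k
    show ((vec u : F) : G) • (((vec k : F) : G) • b) = ((vec (u + k) : F) : G) • b
    rw [hvecadd, smul_smul]
    rfl
  have hmulβ : ∀ (e : E) (k : K), (e : G) • β k = β ((ε e : K) * k) := by
    intro e k
    have h1 : ((vec ((ε e : K) * k) : F) : G) = (e : G) * ((vec k : F) : G) * (e : G)⁻¹ := by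
      show ((Additive.toMul (κ ((ε e : K) * k)) : F) : G) = _
      rw [hκ]
      exact hμ e (κ k)
    show (e : G) • (((vec k : F) : G) • b) = ((vec ((ε e : K) * k) : F) : G) • b
    rw [h1]
    have h2 : (e : G) • b = b := e.2.2
    calc (e : G) • (((vec k : F) : G) • b) = ((e : G) * ((vec k : F) : G) * (e : G)⁻¹) • ((e : G) • b) := by
          rw [← mul_smul, ← mul_smul, show (e : G) * ((vec k : F) : G) * (e : G)⁻¹ * (e : G) = (e : G) * ((vec k : F) : G) by group]
      _ = _ := by rw [h2]
  -- the subgroup of squares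
  let Q : Subgroup Kˣ := ε.range
  have hQcard : Nat.card Q = d := (Nat.card_congr (MonoidHom.ofInjective hεinj).toEquiv).symm
  have hunits : Nat.card Kˣ = 2 * d := by
    rw [Nat.card_eq_fintype_card, Fintype.card_units, hKcard]
    omega
  have hQidx : Q.index = 2 := by
    have h1 := Q.card_mul_index
    rw [hQcard, hunits] at h1
    nlinarith
  obtain ⟨z₀, hz₀⟩ := exists_prime_orderOf_dvd_card' (G := E) 2 heven.two_dvd
  have hz₀1 : z₀ ≠ 1 := by
    rintro rfl
    rw [orderOf_one] at hz₀
    omega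
  have hz₀G : orderOf (z₀ : G) = 2 := by
    rw [Subgroup.orderOf_coe]
    exact hz₀
  have hz₀sq : z₀ ^ 2 = 1 := by
    rw [← hz₀]
    exact pow_orderOf_eq_one z₀
  have hεz : ε z₀ = -1 := by
    have h1 : (ε z₀) ^ 2 = 1 := by rw [← map_pow, hz₀sq, map_one]
    have h2 : ε z₀ ≠ 1 := by
      intro h0
      exact hz₀1 (hεinj (h0.trans (map_one ε).symm))
    have h3 : ((ε z₀ : Kˣ) : K) ^ 2 = 1 := by
      have := congrArg (fun t : Kˣ => (t : K)) h1
      simpa using this
    rw [sq, mul_self_eq_one_iff] at h3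
    rcases h3 with h4 | h4
    · exact absurd (Units.ext (by simpa using h4)) h2
    · exact Units.ext (by simpa using h4)
  have hm1Q : (-1 : Kˣ) ∈ Q := ⟨z₀, hεz⟩
  have h10 : (1 : K) ≠ 0 := one_ne_zero
  -- the normalised swap
  have hc₁a : β 1 ≠ a := hβne 1
  have hc₁b : β 1 ≠ b := by
    intro h0
    rw [← hβ0] at h0
    exact h10 (hβinj h0)
  have hz₀mv : (z₀ : G) • β 1 ≠ β 1 := by
    intro h0
    apply hz₀1
    apply Subtype.ext
    exact Lib.Char.zass_eq_one hZ hab (Ne.symm hc₁b) (Ne.symm hc₁a) z₀.2.1 z₀.2.2 h0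
  obtain ⟨s, hso, hsa, hsb, hsc, -⟩ := exists_swap_of_moved hZ hab heven z₀.2.1 z₀.2.2 hz₀G hz₀mv
  have hss : s * s = 1 := (hswap s hsa hsb).1
  have hss' : ∀ x : Ω, s • (s • x) = x := by
    intro x
    rw [← mul_smul, hss, one_smul]
  have hex : ∀ x : K, x ≠ 0 → ∃ k, k ≠ 0 ∧ β k = s • β x := by
    intro x hx
    have h1 : s • β x ≠ a := by
      intro h0
      have h2 : β x = b := by
        rw [← hss' (β x), h0, hsa]
      rw [← hβ0] at h2
      exact hx (hβinj h2)
    obtain ⟨k, hk⟩ := hβsurj _ h1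
    refine ⟨k, ?_, hk⟩
    rintro rfl
    rw [hβ0] at hk
    have h2 : β x = a := by
      rw [← hss' (β x), ← hk, hsb]
    exact hβne x h2
  let S : K → K := fun x => if h : x = 0 then 0 else Classical.choose (hex x h)
  have hS0 : S 0 = 0 := dif_pos rfl
  have hSβ : ∀ x, x ≠ 0 → β (S x) = s • β x := by
    intro x hx
    have h1 : S x = Classical.choose (hex x hx) := dif_neg hx
    rw [h1]
    exact (Classical.choose_spec (hex x hx)).2
  have hSne : ∀ x, x ≠ 0 → S x ≠ 0 := by
    intro x hx
    have h1 : S x = Classical.choose (hex x hx) := dif_neg hx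
    rw [h1]
    exact (Classical.choose_spec (hex x hx)).1
  have hS1 : S 1 = 1 := by
    apply hβinj
    rw [hSβ 1 h10, hsc]
  have hSS : ∀ x, S (S x) = x := by
    intro x
    by_cases hx : x = 0
    · rw [hx, hS0, hS0]
    · apply hβinj
      rw [hSβ _ (hSne x hx), hSβ x hx, hss']
  have hSq : ∀ u ∈ Q, ∀ x : K, S ((u : K) * x) = ((u⁻¹ : Kˣ) : K) * S x := by
    rintro _ ⟨e, rfl⟩ x
    by_cases hx : x = 0
    · rw [hx, mul_zero, hS0, mul_zero]
    · have hne : ((ε e : Kˣ) : K) * x ≠ 0 := mul_ne_zero (Units.ne_zero _) hx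
      apply hβinj
      rw [hSβ _ hne, ← hmulβ, ← map_inv, ← hmulβ, hSβ x hx]
      have h1 := hinv s hsa hsb e e.2
      have h2 : s * (e : G) = (e : G)⁻¹ * s := by
        rw [← h1]
        group
      rw [Subgroup.coe_inv, ← mul_smul, h2, mul_smul]
  have hSm1 : S (-1) = -1 := by
    have h1 := hSq (-1) hm1Q 1
    rw [hS1] at h1
    simpa using h1
  -- the functional equation
  have hstar : ∀ x : K, x ≠ 0 → x ≠ -1 → S (S x + 1) = 1 - S (x + 1) := by
    intro x hx0 hx1
    set t : G := ((vec 1 : F) : G) with ht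
    have htinv : ((vec (-1) : F) : G) = t⁻¹ := by
      have h1 := hvecadd 1 (-1)
      rw [add_neg_cancel, hvec0] at h1
      have h2 : t * ((vec (-1) : F) : G) = 1 := (congrArg Subtype.val h1).symm
      exact (eq_inv_of_mul_eq_one_right h2)
    have hta : t • a = a := hFa (vec 1).2
    have htβ : ∀ k, t • β k = β (1 + k) := htrans 1
    have htiβ : ∀ k, t⁻¹ • β k = β (-1 + k) := by
      intro k
      rw [← htinv]
      exact htrans (-1) k
    have hb1 : β 1 = t • b := by
      rw [← hβ0, htβ, add_zero]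
    let g : G := s * t⁻¹ * s * t * s
    have hga : g • a = a := by
      show (s * t⁻¹ * s * t * s) • a = a
      simp only [mul_smul]
      rw [hsa, ← hβ0, htβ, add_zero, hsc, htiβ, neg_add_cancel, hβ0, hsb]
    have hgb : g • b ≠ a := by
      intro h0
      rw [← hga] at h0
      exact hab (smul_left_cancel g h0).symm
    obtain ⟨v', hv'⟩ := hβsurj _ hgb
    let e₀ : G := ((vec v' : F) : G)⁻¹ * g
    have he₀a : e₀ • a = a := by
      show (((vec v' : F) : G)⁻¹ * g) • a = a
      rw [mul_smul, hga, inv_smul_eq_iff]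
      exact (hFa (vec v').2).symm
    have he₀b : e₀ • b = b := by
      show (((vec v' : F) : G)⁻¹ * g) • b = b
      rw [mul_smul, ← hv', inv_smul_eq_iff]
    let e : E := ⟨e₀, he₀a, he₀b⟩
    have hg : g = ((vec v' : F) : G) * (e : G) := by
      show g = ((vec v' : F) : G) * (((vec v' : F) : G)⁻¹ * g)
      group
    have hrel : s * t * s = t * s * ((vec v' : F) : G) * (e : G) := by
      have h1 : t * s * g = s * t * s := by
        show t * s * (s * t⁻¹ * s * t * s) = s * t * s
        calc t * s * (s * t⁻¹ * s * t * s) = t * (s * s) * t⁻¹ * (s * t * s) := by group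
          _ = s * t * s := by rw [hss]; group
      rw [← h1, hg]
      group
    have happ : ∀ z : Ω, s • (t • (s • z)) = t • (s • (((vec v' : F) : G) • ((e : G) • z))) := by
      intro z
      have := congrArg (fun r : G => r • z) hrel
      simpa only [mul_smul] using this
    -- `v' = -1`
    have hv'1 : v' = -1 := by
      have h1 := happ b
      rw [hsb, hta, hsa, show (e : G) • b = b from he₀b, show ((vec v' : F) : G) • b = β v' from rfl] at h1
      by_cases hv0 : v' = 0
      · exfalso
        rw [hv0, hβ0, hsb, hta] at h1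
        exact hab h1.symm
      · rw [← hSβ v' hv0, htβ, ← hβ0] at h1
        have h2 := hβinj h1
        have h3 : S v' = -1 := by
          have h4 : (1 : K) + S v' = 0 := h2.symm
          exact eq_neg_of_add_eq_zero_right h4
        rw [← hSS v', h3, hSm1]
    -- `e` acts as `-1`
    have hεe : ((ε e : Kˣ) : K) = -1 := by
      have h1 := happ (β (-1))
      rw [← hSβ (-1) (neg_ne_zero.mpr h10), hSm1, htβ, add_neg_cancel, hβ0, hsb, hmulβ, hv'1,
        htrans] at h1
      have h2 : s • β (-1 + ((ε e : Kˣ) : K) * -1) = a := by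
        apply smul_left_cancel t
        rw [← h1, hta]
      by_cases hw : -1 + ((ε e : Kˣ) : K) * -1 = 0
      · have h3 : ((ε e : Kˣ) : K) = -1 := by
          linear_combination (-1 : K) * hw
        exact h3
      · exfalso
        rw [← hSβ _ hw] at h2
        exact hβne _ h2
    have hSx1 : S x + 1 ≠ 0 := by
      intro h0
      have h1 : S x = -1 := eq_neg_of_add_eq_zero_left h0
      apply hx1
      rw [← hSS x, h1, hSm1]
    have hw0 : -1 + ((ε e : Kˣ) : K) * x ≠ 0 := by
      rw [hεe]
      intro h0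
      apply hx1
      linear_combination (-1 : K) * h0
    have h1 := happ (β x)
    rw [← hSβ x hx0, htβ, add_comm (1 : K) (S x), ← hSβ _ hSx1, hmulβ, hv'1, htrans, ← hSβ _ hw0, htβ] at h1
    have h2 := hβinj h1
    rw [h2, hεe]
    have h3 : (-1 : K) + -1 * x = ((-1 : Kˣ) : K) * (x + 1) := by
      simp only [Units.val_neg, Units.val_one]
      ring
    rw [h3, hSq _ hm1Q]
    simp only [inv_neg, inv_one, Units.val_neg, Units.val_one]
    ring
  have hSinv := inv_of_functional Q hQidx hm1Q S hS1 hSq hstar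
  have hnon : Nonempty (G ≃* Matrix.ProjectiveSpecialLinearGroup (Fin 2) K) := by
    apply psl_of_coords hZ a β hβne hβinj hβsurj
    · intro u
      refine ⟨((vec u : F) : G), hFa (vec u).2, fun k => ?_⟩
      rw [htrans, add_comm]
    · intro c hc
      have h1 : (Units.mk0 c hc) ^ 2 ∈ Q := Subgroup.sq_mem_of_index_two hQidx _
      obtain ⟨e, he⟩ := h1
      refine ⟨(e : G), e.2.1, fun k => ?_⟩
      rw [hmulβ, he]
      simp
    · refine ⟨(z₀ : G) * s, ?_, ?_, fun i hi => ?_⟩
      · rw [mul_smul, hsa, hβ0]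
        exact z₀.2.2
      · rw [mul_smul, hβ0, hsb]
        exact z₀.2.1
      · rw [mul_smul, ← hSβ i hi, hmulβ, hSinv i hi, hεz]
        simp
    · have h1 := Lib.Char.zass_card hZ hab
      rw [card_psl_field hd0 hKcard, ← h1, hΩ, show 2 * d + 2 - 1 = 2 * d + 1 by omega]
  refine ⟨p, f, K, iF, iT, hp, ?_, hK, ?_, hnon⟩
  · rintro rfl
    have h1 : 2 ∣ (2 : ℕ) ^ f := dvd_pow_self 2 hf.ne'
    rw [← hK, hKcard] at h1
    omega
  · rw [← hK, hKcard, hΩ]

end Cfsg.Agent.Lib.Perm.ZP
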