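import Mathlib
import Cfsg.Agent.Lib.Perm.ZassAb8
import Cfsg.Agent.Lib.Perm.ZassPSL
import Cfsg.Agent.S0740

/-!
Zassenhaus groups with an abelian kernel: identification.
-/

set_option autoImplicit false
set_option linter.unusedSectionVars false
set_option linter.unusedVariables false
set_option linter.style.haveILetI false
set_option linter.unusedSimpArgs false
set_option linter.unnecessarySimpa false

open MulAction

namespace Cfsg.Agent.Lib.Perm.ZA

open Cfsg.Agent.Lib.Char

universe u v

variable {G : Type u} {Ω : Type v} [Group G] [MulAction G Ω] [Fintype G] [Fintype Ω]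
  {a b : Ω} {F : Subgroup G}

local notation "E" => (stabilizer G a ⊓ stabilizer G b : Subgroup G)

namespace Setup

variable (S : Setup G Ω a b F)
include S

/-- The numerical conclusion for the setting. -/
theorem numeric : Nat.card F - 1 = Nat.card E ∨ Nat.card F - 1 = 2 * Nat.card E :=
  numeric_aux Ω _ G a b F S rfl

/-- Sharp triple transitivity when the two point stabilizer is as large as possible. -/
theorem sharply_three (hn : Nat.card F - 1 = Nat.card E) :
    MulAction.IsMultiplyPretransitive G Ω 3 ∧ ∀ t : Fin 3 ↪ Ω, MulAction.stabilizer G t = ⊥ := by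
  classical
  have hZ := S.hZ
  have hab := S.hab
  constructor
  · -- the two point stabilizer is transitive on the rest
    have htr : ∀ x y : Ω, x ≠ a → x ≠ b → y ≠ a → y ≠ b → ∃ e ∈ E, e • x = y := by
      intro x y hxa hxb hya hyb
      have hne : ∀ e : E, ((e : G) • x) ∈ (Finset.univ.erase a).erase b := by
        intro e
        simp only [Finset.mem_erase, Finset.mem_univ, and_true]
        constructor
        · intro h0
          apply hxb
          apply smul_left_cancel (e : G)
          rw [h0, show (e : G) • b = b from e.2.2]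
        · intro h0
          apply hxa
          apply smul_left_cancel (e : G)
          rw [h0, show (e : G) • a = a from e.2.1]
      let f : E → ((Finset.univ.erase a).erase b : Finset Ω) := fun e => ⟨(e : G) • x, hne e⟩
      have hfinj : Function.Injective f := by
        intro e₁ e₂ h
        have h1 : (e₁ : G) • x = (e₂ : G) • x := congrArg Subtype.val h
        have h2 : ((e₂ : G)⁻¹ * e₁) • x = x := by
          rw [mul_smul, h1, inv_smul_smul]
        have h3 := zass_eq_one hZ hab (Ne.symm hxb) (Ne.symm hxa)
          (show ((e₂ : G)⁻¹ * e₁) • a = a from (mul_mem (inv_mem e₂.2) e₁.2).1)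
          (show ((e₂ : G)⁻¹ * e₁) • b = b from (mul_mem (inv_mem e₂.2) e₁.2).2) h2
        rw [inv_mul_eq_one] at h3
        exact Subtype.ext h3.symm
      have hcard : Nat.card ((Finset.univ.erase a).erase b : Finset Ω) = Nat.card E := by
        rw [← hn, Nat.card_eq_fintype_card, Fintype.card_coe,
          Finset.card_erase_of_mem (Finset.mem_erase.mpr ⟨Ne.symm hab, Finset.mem_univ _⟩),
          Finset.card_erase_of_mem (Finset.mem_univ _), Finset.card_univ, ← S.hFcard]
        have := S.card_ge_two
        omega
      have hfsurj : Function.Surjective f :=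
        (Function.Injective.bijective_of_nat_card_le hfinj hcard.le).2
      obtain ⟨e, he⟩ := hfsurj ⟨y, by simp [hya, hyb]⟩
      exact ⟨e, e.2, congrArg Subtype.val he⟩
    refine Cfsg.Agent.Lib.Perm.isMultiplyPretransitive_of_fixing 3 ?_
    intro u hu x y hx hy
    have hu3 : u.card = 0 ∨ u.card = 1 ∨ u.card = 2 := by omega
    rcases hu3 with h0 | h1 | h2
    · rw [Finset.card_eq_zero] at h0
      subst h0
      by_cases hxy : x = y
      · exact ⟨1, by simp, by simp [hxy]⟩
      · obtain ⟨g, hg, -⟩ := zass_two_trans hZ x y y x hxy (Ne.symm hxy)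
        exact ⟨g, by simp, hg⟩
    · obtain ⟨p, rfl⟩ := Finset.card_eq_one.mp h1
      simp only [Finset.mem_singleton] at hx hy
      obtain ⟨g, hg1, hg2⟩ := zass_two_trans hZ p x p y (Ne.symm hx) (Ne.symm hy)
      exact ⟨g, by simpa using hg1, hg2⟩
    · obtain ⟨p, q, hpq, rfl⟩ := Finset.card_eq_two.mp h2
      simp only [Finset.mem_insert, Finset.mem_singleton, not_or] at hx hy
      obtain ⟨h, hha, hhb⟩ := zass_two_trans hZ a b p q hab hpq
      have h1 : h⁻¹ • x ≠ a := by
        intro h0
        rw [inv_smul_eq_iff, hha] at h0
        exact hx.1 h0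
      have h2 : h⁻¹ • x ≠ b := by
        intro h0
        rw [inv_smul_eq_iff, hhb] at h0
        exact hx.2 h0
      have h3 : h⁻¹ • y ≠ a := by
        intro h0
        rw [inv_smul_eq_iff, hha] at h0
        exact hy.1 h0
      have h4 : h⁻¹ • y ≠ b := by
        intro h0
        rw [inv_smul_eq_iff, hhb] at h0
        exact hy.2 h0
      obtain ⟨e, he, hex⟩ := htr _ _ h1 h2 h3 h4
      refine ⟨h * e * h⁻¹, ?_, ?_⟩
      · intro z hz
        simp only [Finset.mem_insert, Finset.mem_singleton] at hz
        rcases hz with rfl | rfl
        · simp only [mul_smul]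
          rw [← hha, inv_smul_smul, show e • a = a from he.1]
        · simp only [mul_smul]
          rw [← hhb, inv_smul_smul, show e • b = b from he.2]
      · simp only [mul_smul]
        rw [hex, smul_inv_smul]
  · intro t
    rw [eq_bot_iff]
    intro g hg
    have h : ∀ i, g • t i = t i := by
      intro i
      have h1 : g • t = t := hg
      exact DFunLike.congr_fun h1 i
    have h01 : t 0 ≠ t 1 := fun h0 => by simpa using t.injective h0
    have h12 : t 1 ≠ t 2 := fun h0 => by simpa using t.injective h0
    have h02 : t 0 ≠ t 2 := fun h0 => by simpa using t.injective h0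
    exact hZ.2.2.1 g _ _ _ h01 h12 h02 (h 0) (h 1) (h 2)

end Setup

end Cfsg.Agent.Lib.Perm.ZA
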