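import Mathlib
import Cfsg.Agent.Lib.Perm.ZassAb9

/-!
Zassenhaus groups with an abelian kernel: identification with `PSL(2,K)` in the odd case.
-/

set_option autoImplicit false
set_option linter.unusedSectionVars false
set_option linter.unusedVariables false
set_option linter.style.haveILetI false
set_option linter.unusedSimpArgs false
set_option linter.unnecessarySimpa false

open MulAction

namespace Cfsg.Agent.Lib.Perm.ZA

open Cfsg.Agent.Lib.Char
open Cfsg.Agent.Lib.Perm.ZP (exists_field_of_free psl_of_coords card_psl_field)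

universe u v

variable {G : Type u} {Ω : Type v} [Group G] [MulAction G Ω] [Fintype G] [Fintype Ω]
  {a b : Ω} {F : Subgroup G}

local notation "E" => (stabilizer G a ⊓ stabilizer G b : Subgroup G)

namespace Setup

variable (S : Setup G Ω a b F)
include S

/-- Identification in the odd case. -/
theorem psl_odd (hodd : Odd (Nat.card E)) (hn : Nat.card F - 1 = 2 * Nat.card E) :
    ∃ (K : Type) (_ : Field K) (_ : Fintype K), Fintype.card K = 2 * Nat.card E + 1 ∧
      Nonempty (G ≃* Matrix.ProjectiveSpecialLinearGroup (Fin 2) K) := by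
  classical
  have hZ := S.hZ
  have hab := S.hab
  have hFa := S.hFa
  have hFfix := S.hFfix
  have hFconj : ∀ {g u : G}, g • a = a → u ∈ F → g * u * g⁻¹ ∈ F := fun hg hu => S.conj_mem hg hu
  set d := Nat.card E with hd
  have hd0 : 0 < d := Nat.card_pos
  have hFcard : Nat.card F = 2 * d + 1 := by
    have := S.card_ge_two
    omega
  have hΩ : Fintype.card Ω = 2 * d + 2 := by
    have := S.hFcard
    omega
  -- swaps
  have hnil := S.hnil_of hodd (fun N _ hN hFN hlt => by
    have h1 := numeric_aux Ω (Nat.card N) N a b (F.subgroupOf N) (S.restrict hN hFN) rfl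
    have h2 : Nat.card (F.subgroupOf N) = Nat.card F :=
      Nat.card_congr (Subgroup.subgroupOfEquivOfLe hFN).toEquiv
    rwa [h2] at h1)
  obtain ⟨hEcomm, hinv⟩ := S.invert_of_nil hodd hnil
  letI iC : CommGroup F := { (inferInstance : Group F) with mul_comm := S.comm_F }
  -- the action on the kernel
  let cF : E → F → F := fun e u => ⟨(e : G) * u * (e : G)⁻¹, hFconj e.2.1 u.2⟩
  let μ : E →* AddMonoid.End (Additive F) :=
    { toFun := fun e =>
        { toFun := fun u => Additive.ofMul (cF e (Additive.toMul u))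
          map_zero' := by
            apply Additive.toMul.injective
            apply Subtype.ext
            show (e : G) * 1 * (e : G)⁻¹ = 1
            group
          map_add' := fun u v => by
            apply Additive.toMul.injective
            apply Subtype.ext
            show (e : G) * (((Additive.toMul u : F) : G) * ((Additive.toMul v : F) : G)) * (e : G)⁻¹ =
              ((e : G) * ((Additive.toMul u : F) : G) * (e : G)⁻¹) * ((e : G) * ((Additive.toMul v : F) : G) * (e : G)⁻¹)
            group }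
      map_one' := by
        apply AddMonoidHom.ext
        intro u
        apply Additive.toMul.injective
        apply Subtype.ext
        show (1 : G) * ((Additive.toMul u : F) : G) * (1 : G)⁻¹ = ((Additive.toMul u : F) : G)
        group
      map_mul' := fun e f => by
        apply AddMonoidHom.ext
        intro u
        apply Additive.toMul.injective
        apply Subtype.ext
        show ((e : G) * (f : G)) * ((Additive.toMul u : F) : G) * ((e : G) * (f : G))⁻¹ =
          (e : G) * ((f : G) * ((Additive.toMul u : F) : G) * (f : G)⁻¹) * (e : G)⁻¹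
        group }
  have hμ : ∀ (e : E) (u : Additive F), ((Additive.toMul (μ e u) : F) : G) =
      (e : G) * ((Additive.toMul u : F) : G) * (e : G)⁻¹ := fun _ _ => rfl
  have hfree : ∀ (e : E) (u : Additive F), μ e u = u → e = 1 ∨ u = 0 := by
    intro e u hu
    by_cases hu0 : u = 0
    · exact Or.inr hu0
    left
    have hg1 : ((Additive.toMul u : F) : G) ≠ 1 := by
      intro h0
      apply hu0
      apply Additive.toMul.injective
      exact Subtype.ext h0
    set g : G := ((Additive.toMul u : F) : G) with hg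
    have hgF : g ∈ F := (Additive.toMul u : F).2
    have hc : (e : G) * g * (e : G)⁻¹ = g := by
      have := hμ e u
      rw [hu] at this
      exact this.symm
    have hgb : g • b ≠ b := fun h0 => hab (hFfix g hgF hg1 b h0).symm
    have hga : g • b ≠ a := by
      intro h0
      have h1 : g • a = a := hFa hgF
      exact hab (smul_left_cancel g (h1.trans h0.symm))
    have heb : (e : G) • (g • b) = g • b := by
      have h1 : (e : G) • b = b := e.2.2
      calc (e : G) • (g • b) = ((e : G) * g * (e : G)⁻¹) • ((e : G) • b) := by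
            rw [← mul_smul, ← mul_smul, show (e : G) * g * (e : G)⁻¹ * (e : G) = (e : G) * g by group]
        _ = g • b := by rw [hc, h1]
    have h3 := zass_eq_one hZ hab (Ne.symm hgb) (Ne.symm hga) e.2.1 e.2.2 heb
    exact Subtype.ext h3
  have hcardA : Nat.card (Additive F) = 2 * Nat.card E + 1 := by
    have h1 : Nat.card (Additive F) = Nat.card F := rfl
    rw [h1]
    omega
  obtain ⟨p, f, K, iF, iT, hp, hf, hK, hpf, κ, ε, hεinj, hκ⟩ :=
    exists_field_of_free hEcomm μ hfree hcardA
  have hKcard : Fintype.card K = 2 * d + 1 := by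
    rw [hK, hpf, hcardA]
  refine ⟨K, iF, iT, hKcard, ?_⟩
  -- coordinates
  let vec : K → F := fun k => Additive.toMul (κ k)
  have hvec0 : vec 0 = 1 := by
    show Additive.toMul (κ 0) = 1
    rw [map_zero]
    rfl
  have hvecadd : ∀ k l : K, vec (k + l) = vec k * vec l := by
    intro k l
    show Additive.toMul (κ (k + l)) = _
    rw [map_add]
    rfl
  have hvecinj : Function.Injective vec := by
    intro k l hkl
    exact κ.injective (Additive.toMul.injective hkl)
  let β : K → Ω := fun k => ((vec k : F) : G) • b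
  have hβ0 : β 0 = b := by
    show ((vec 0 : F) : G) • b = b
    rw [hvec0]
    simp
  have hβne : ∀ k, β k ≠ a := by
    intro k h0
    have h1 : ((vec k : F) : G) • a = a := hFa (vec k).2
    exact hab (smul_left_cancel ((vec k : F) : G) (h1.trans h0.symm))
  have hβinj : Function.Injective β := by
    intro k l hkl
    apply hvecinj
    have h1 : (((vec l : F) : G))⁻¹ * ((vec k : F) : G) = 1 := by
      by_contra hne
      have h2 : ((((vec l : F) : G))⁻¹ * ((vec k : F) : G)) • b = b := by
        rw [mul_smul]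
        show ((vec l : F) : G)⁻¹ • β k = b
        rw [hkl]
        exact inv_smul_smul _ _
      exact hab (hFfix _ (mul_mem (inv_mem (vec l).2) (vec k).2) hne b h2).symm
    rw [inv_mul_eq_one] at h1
    exact Subtype.ext h1.symm
  have hβsurj : ∀ x, x ≠ a → ∃ k, β k = x := by
    intro x hx
    obtain ⟨u, hu, hux⟩ := S.reg (Ne.symm hab) hx
    obtain ⟨k, hk⟩ := κ.surjective (Additive.ofMul (⟨u, hu⟩ : F))
    refine ⟨k, ?_⟩
    show ((Additive.toMul (κ k) : F) : G) • b = x
    rw [hk]
    exact hux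
  have htrans : ∀ u k : K, ((vec u : F) : G) • β k = β (u + k) := by
    intro u k
    show ((vec u : F) : G) • (((vec k : F) : G) • b) = ((vec (u + k) : F) : G) • b
    rw [hvecadd, smul_smul]
    rfl
  have hmulβ : ∀ (e : E) (k : K), (e : G) • β k = β ((ε e : K) * k) := by
    intro e k
    have h1 : ((vec ((ε e : K) * k) : F) : G) = (e : G) * ((vec k : F) : G) * (e : G)⁻¹ := by
      show ((Additive.toMul (κ ((ε e : K) * k)) : F) : G) = _
      rw [hκ]
      exact hμ e (κ k)
    show (e : G) • (((vec k : F) : G) • b) = ((vec ((ε e : K) * k) : F) : G) • b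
    rw [h1]
    have h2 : (e : G) • b = b := e.2.2
    calc (e : G) • (((vec k : F) : G) • b) = ((e : G) * ((vec k : F) : G) * (e : G)⁻¹) • ((e : G) • b) := by
          rw [← mul_smul, ← mul_smul, show (e : G) * ((vec k : F) : G) * (e : G)⁻¹ * (e : G) = (e : G) * ((vec k : F) : G) by group]
      _ = _ := by rw [h2]
  -- the subgroup of squares
  let Q : Subgroup Kˣ := ε.range
  have hQcard : Nat.card Q = d := (Nat.card_congr (MonoidHom.ofInjective hεinj).toEquiv).symm
  have hunits : Nat.card Kˣ = 2 * d := by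
    rw [Nat.card_eq_fintype_card, Fintype.card_units, hKcard]
    omega
  have hQidx : Q.index = 2 := by
    have h1 := Q.card_mul_index
    rw [hQcard, hunits] at h1
    nlinarith
  have h10 : (1 : K) ≠ 0 := one_ne_zero
  have hchar : (2 : K) ≠ 0 := by
    intro h0
    have h1 : ringChar K = 2 := by
      have h2 : ((2 : ℕ) : K) = 0 := by exact_mod_cast h0
      have h3 := (CharP.cast_eq_zero_iff K (ringChar K) 2).mp h2
      have h4 := CharP.char_ne_one K (ringChar K)
      have h5 := (Nat.dvd_prime Nat.prime_two).mp h3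
      rcases h5 with h6 | h6
      · exact absurd h6 h4
      · exact h6
    have h2 := FiniteField.even_card_of_char_two h1
    omega
  have hm1ne : (-1 : K) ≠ 1 := by
    intro h0
    apply hchar
    linear_combination (-1 : K) * h0
  -- `-1` is not in `Q`
  have hm1Q : (-1 : Kˣ) ∉ Q := by
    rintro ⟨e, he⟩
    have h1 : e ^ 2 = 1 := by
      apply hεinj
      rw [map_pow, he, map_one]
      simp
    have h2 : e ≠ 1 := by
      rintro rfl
      rw [map_one] at he
      apply hm1ne
      have := congrArg (fun t : Kˣ => (t : K)) he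
      simpa using this.symm
    have h3 : orderOf e = 2 := orderOf_eq_prime h1 h2
    have h4 : orderOf e ∣ Nat.card E := orderOf_dvd_natCard e
    rw [h3] at h4
    exact (Nat.not_even_iff_odd.mpr hodd) (even_iff_two_dvd.mpr h4)
  have hQcases : ∀ u : Kˣ, u ∈ Q ∨ -u ∈ Q := by
    intro u
    by_cases hu : u ∈ Q
    · exact Or.inl hu
    · right
      have h1 : (-1 : Kˣ) * u ∈ Q := by
        rw [Subgroup.mul_mem_iff_of_index_two hQidx]
        simp [hm1Q, hu]
      simpa using h1
  -- square roots in `Q`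
  have hQsq : ∀ w ∈ Q, ∃ v ∈ Q, v ^ 2 = w := by
    intro w hw
    obtain ⟨k, hk⟩ := hodd
    refine ⟨w ^ (k + 1), pow_mem hw _, ?_⟩
    have h1 : w ^ d = 1 := by
      have h2 := pow_card_eq_one' (x := (⟨w, hw⟩ : Q))
      rw [hQcard] at h2
      simpa using congrArg Subtype.val h2
    rw [← pow_mul, show (k + 1) * 2 = d + 1 by rw [hk]; ring, pow_succ, h1, one_mul]
  -- the swap
  obtain ⟨⟨s, hso, hsa, hsb⟩, hs2, -⟩ := Cfsg.Agent.S0740.result hZ hab
  have hss : s * s = 1 := by
    rw [← sq, ← hso]
    exact pow_orderOf_eq_one s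
  have hss' : ∀ x : Ω, s • (s • x) = x := by
    intro x
    rw [← mul_smul, hss, one_smul]
  have hsfpf : ∀ x : Ω, s • x ≠ x := by
    intro x hx
    have h1 := (hs2 s hso hsa hsb).2 (by rw [hΩ]; exact ⟨d + 1, by ring⟩)
    have h0 : x ∈ fixedBy Ω s := hx
    have h2 : Nat.card (fixedBy Ω s) ≠ 0 := by
      haveI : Nonempty (fixedBy Ω s) := ⟨⟨x, h0⟩⟩
      exact Nat.card_pos.ne'
    have h3 : Nat.card (fixedBy Ω s) = 2 := by omega
    obtain ⟨p₁, p₂, hp, hp₁⟩ := Nat.card_eq_two_iff.mp h3
    have hm₁ : s • (p₁ : Ω) = p₁ := p₁.2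
    have hm₂ : s • (p₂ : Ω) = p₂ := p₂.2
    have hpp : (p₁ : Ω) ≠ p₂ := fun h => hp (Subtype.ext h)
    have hodd' := zass_odd_any hZ hab hodd hpp
    have h4 : orderOf s ∣ Nat.card (stabilizer G (p₁ : Ω) ⊓ stabilizer G (p₂ : Ω) : Subgroup G) := by
      let s' : (stabilizer G (p₁ : Ω) ⊓ stabilizer G (p₂ : Ω) : Subgroup G) := ⟨s, hm₁, hm₂⟩
      have h6 : orderOf (s' : G) = orderOf s' := Subgroup.orderOf_coe s'
      show orderOf (s' : G) ∣ _
      rw [h6]
      exact orderOf_dvd_natCard s'
    rw [hso] at h4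
    exact (Nat.not_even_iff_odd.mpr hodd') (even_iff_two_dvd.mpr h4)
  have hex : ∀ x : K, x ≠ 0 → ∃ k, k ≠ 0 ∧ β k = s • β x := by
    intro x hx
    have h1 : s • β x ≠ a := by
      intro h0
      have h2 : β x = b := by
        rw [← hss' (β x), h0, hsa]
      rw [← hβ0] at h2
      exact hx (hβinj h2)
    obtain ⟨k, hk⟩ := hβsurj _ h1
    refine ⟨k, ?_, hk⟩
    rintro rfl
    rw [hβ0] at hk
    have h2 : β x = a := by
      rw [← hss' (β x), ← hk, hsb]
    exact hβne x h2
  let Sw : K → K := fun x => if h : x = 0 then 0 else Classical.choose (hex x h)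
  have hS0 : Sw 0 = 0 := dif_pos rfl
  have hSβ : ∀ x, x ≠ 0 → β (Sw x) = s • β x := by
    intro x hx
    have h1 : Sw x = Classical.choose (hex x hx) := dif_neg hx
    rw [h1]
    exact (Classical.choose_spec (hex x hx)).2
  have hSne : ∀ x, x ≠ 0 → Sw x ≠ 0 := by
    intro x hx
    have h1 : Sw x = Classical.choose (hex x hx) := dif_neg hx
    rw [h1]
    exact (Classical.choose_spec (hex x hx)).1
  have hSS : ∀ x, Sw (Sw x) = x := by
    intro x
    by_cases hx : x = 0
    · rw [hx, hS0, hS0]
    · apply hβinj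
      rw [hSβ _ (hSne x hx), hSβ x hx, hss']
  have hSq : ∀ u ∈ Q, ∀ x : K, Sw ((u : K) * x) = ((u⁻¹ : Kˣ) : K) * Sw x := by
    rintro _ ⟨e, rfl⟩ x
    by_cases hx : x = 0
    · rw [hx, mul_zero, hS0, mul_zero]
    · have hne : ((ε e : Kˣ) : K) * x ≠ 0 := mul_ne_zero (Units.ne_zero _) hx
      apply hβinj
      rw [hSβ _ hne, ← hmulβ, ← map_inv, ← hmulβ, hSβ x hx]
      have h1 := hinv b (Ne.symm hab) s hsa hsb e e.2
      have h2 : s⁻¹ = s := inv_eq_of_mul_eq_one_left hss
      rw [h2] at h1
      have h3 : s * (e : G) = (e : G)⁻¹ * s := by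
        rw [← h1]
        calc s * (e : G) = s * (e : G) * (s * s) := by rw [hss, mul_one]
          _ = s * (e : G) * s * s := by group
      rw [Subgroup.coe_inv, ← mul_smul, h3, mul_smul]
  -- the value at one
  have hc0 : Sw 1 ≠ 0 := hSne 1 h10
  let cu : Kˣ := Units.mk0 (Sw 1) hc0
  have hcu : cu ∉ Q := by
    intro hcQ
    obtain ⟨v, hvQ, hv⟩ := hQsq cu hcQ
    have hv0 : (v : K) ≠ 0 := Units.ne_zero v
    have h1 := hSq v hvQ 1
    rw [mul_one] at h1
    have h2 : Sw 1 = (v : K) ^ 2 := by
      have := congrArg (fun t : Kˣ => (t : K)) hv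
      simpa [cu] using this.symm
    have h3 : Sw (v : K) = (v : K) := by
      rw [h1, h2, Units.val_inv_eq_inv_val]
      field_simp
    have h4 := hSβ (v : K) hv0
    rw [h3] at h4
    exact hsfpf (β (v : K)) h4.symm
  obtain ⟨v, hvQ, hv⟩ := hQsq (-cu) ((hQcases cu).resolve_left hcu)
  have hv0 : (v : K) ≠ 0 := Units.ne_zero v
  have hvsq : (v : K) ^ 2 = - Sw 1 := by
    have := congrArg (fun t : Kˣ => (t : K)) hv
    simpa [cu] using this
  -- rescaled coordinates
  let β' : K → Ω := fun k => β ((v : K) * k)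
  let S' : K → K := fun x => (v : K)⁻¹ * Sw ((v : K) * x)
  have hS'β : ∀ x, x ≠ 0 → β' (S' x) = s • β' x := by
    intro x hx
    show β ((v : K) * ((v : K)⁻¹ * Sw ((v : K) * x))) = s • β ((v : K) * x)
    rw [← mul_assoc, mul_inv_cancel₀ hv0, one_mul]
    exact hSβ _ (mul_ne_zero hv0 hx)
  have hS'1 : S' 1 = -1 := by
    show (v : K)⁻¹ * Sw ((v : K) * 1) = -1
    rw [hSq v hvQ 1, Units.val_inv_eq_inv_val]
    have h1 : Sw 1 = -(v : K) ^ 2 := by
      rw [hvsq]
      ring
    rw [h1]
    field_simp
  have hS'S' : ∀ x, S' (S' x) = x := by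
    intro x
    show (v : K)⁻¹ * Sw ((v : K) * ((v : K)⁻¹ * Sw ((v : K) * x))) = x
    rw [← mul_assoc, mul_inv_cancel₀ hv0, one_mul, hSS]
    field_simp
  have hS'm1 : S' (-1) = 1 := by
    rw [← hS'1, hS'S']
  have hS'Q : ∀ u ∈ Q, ∀ x : K, S' ((u : K) * x) = ((u⁻¹ : Kˣ) : K) * S' x := by
    intro u hu x
    show (v : K)⁻¹ * Sw ((v : K) * ((u : K) * x)) = ((u⁻¹ : Kˣ) : K) * ((v : K)⁻¹ * Sw ((v : K) * x))
    rw [show (v : K) * ((u : K) * x) = (u : K) * ((v : K) * x) by ring, hSq u hu]
    ring
  have hS'inv : ∀ i : K, i ≠ 0 → S' i = -i⁻¹ := by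
    intro i hi
    let iu : Kˣ := Units.mk0 i hi
    have hiu : (iu : K) = i := rfl
    rcases hQcases iu with h1 | h1
    · have h2 := hS'Q iu h1 1
      rw [mul_one, hS'1, hiu, Units.val_inv_eq_inv_val, hiu] at h2
      rw [h2]
      ring
    · have h2 := hS'Q (-iu) h1 (-1)
      have h3 : ((-iu : Kˣ) : K) * -1 = i := by
        simp [hiu]
      rw [h3, hS'm1, Units.val_inv_eq_inv_val] at h2
      rw [h2]
      simp [hiu]
  have hβ'ne : ∀ k, β' k ≠ a := fun k => hβne _
  have hβ'inj : Function.Injective β' := by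
    intro k l h
    exact mul_left_cancel₀ hv0 (hβinj h)
  have hβ'surj : ∀ x, x ≠ a → ∃ k, β' k = x := by
    intro x hx
    obtain ⟨k, hk⟩ := hβsurj x hx
    refine ⟨(v : K)⁻¹ * k, ?_⟩
    show β ((v : K) * ((v : K)⁻¹ * k)) = x
    rw [← mul_assoc, mul_inv_cancel₀ hv0, one_mul, hk]
  have hβ'0 : β' 0 = b := by
    show β ((v : K) * 0) = b
    rw [mul_zero, hβ0]
  apply psl_of_coords hZ a β' hβ'ne hβ'inj hβ'surj
  · intro u
    refine ⟨((vec ((v : K) * u) : F) : G), hFa (vec _).2, fun k => ?_⟩
    show ((vec ((v : K) * u) : F) : G) • β ((v : K) * k) = β ((v : K) * (k + u))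
    rw [htrans]
    congr 1
    ring
  · intro c hc
    have h1 : (Units.mk0 c hc) ^ 2 ∈ Q := Subgroup.sq_mem_of_index_two hQidx _
    obtain ⟨e, he⟩ := h1
    refine ⟨(e : G), e.2.1, fun k => ?_⟩
    show (e : G) • β ((v : K) * k) = β ((v : K) * (c ^ 2 * k))
    rw [hmulβ, he]
    congr 1
    simp
    ring
  · refine ⟨s, ?_, ?_, fun i hi => ?_⟩
    · rw [hsa, hβ'0]
    · rw [hβ'0, hsb]
    · rw [← hS'β i hi, hS'inv i hi]
  · have h1 := zass_card hZ hab
    rw [card_psl_field hd0 hKcard, ← h1, hΩ, show 2 * d + 2 - 1 = 2 * d + 1 by omega]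

end Setup

end Cfsg.Agent.Lib.Perm.ZA
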