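import Mathlib
import Cfsg.Agent.Lib.Perm.ZassAb10
import Cfsg.Agent.Lib.Classical.RingCongr

/-!
Transitive permutation groups of degree `p + 1` and order `(p + 1) p d` with `d < p`:
the structure of a point stabilizer.
-/

set_option autoImplicit false
set_option linter.unusedSectionVars false
set_option linter.unusedVariables false
set_option linter.style.haveILetI false
set_option linter.unusedSimpArgs false
set_option linter.unnecessarySimpa false

open MulAction

namespace Cfsg.Agent.Lib.Perm.DP

universe u v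

/-- The setting: a transitive group with a regular kernel of prime order in a point stabilizer. -/
structure Pre (G : Type u) (Ω : Type v) [Group G] [MulAction G Ω] [Fintype G] [Fintype Ω]
    (p : ℕ) (a b : Ω) (F : Subgroup G) : Prop where
  hp : p.Prime
  hfaith : FaithfulSMul G Ω
  htrans : ∀ x y : Ω, ∃ g : G, g • x = y
  hab : a ≠ b
  hFa : F ≤ stabilizer G a
  hFcard : Nat.card F = p
  hΩ : Fintype.card Ω = p + 1
  hFfix : ∀ u ∈ F, u ≠ 1 → ∀ c : Ω, u • c = c → c = a
  hFn : ∀ {s u : G}, s • a = a → u ∈ F → s * u * s⁻¹ ∈ F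

variable {G : Type u} {Ω : Type v} [Group G] [MulAction G Ω] [Fintype G] [Fintype Ω]
  {p : ℕ} {a b : Ω} {F : Subgroup G}

local notation "E" => (stabilizer G a ⊓ stabilizer G b : Subgroup G)

/-- The structure of the point stabilizer. -/
theorem exists_kernel [FaithfulSMul G Ω] (htr : ∀ x y : Ω, ∃ g : G, g • x = y) {d : ℕ}
    (hp : p.Prime) (hΩ : Fintype.card Ω = p + 1) (hG : Nat.card G = (p + 1) * p * d) (hd : d < p)
    (a : Ω) : ∃ F : Subgroup G, F ≤ stabilizer G a ∧ Nat.card F = p ∧
      (∀ u ∈ F, u ≠ 1 → ∀ c : Ω, u • c = c → c = a) ∧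
      (∀ {s u : G}, s • a = a → u ∈ F → s * u * s⁻¹ ∈ F) := by
  classical
  haveI hfp : Fact p.Prime := ⟨hp⟩
  let S : Subgroup G := stabilizer G a
  haveI hpt : IsPretransitive G Ω := ⟨htr⟩
  have hG0 : 0 < Nat.card G := Nat.card_pos
  have hd0 : d ≠ 0 := by
    rintro rfl
    simp at hG
  have hS : Nat.card S = p * d := by
    have h2 := index_stabilizer_of_transitive G a
    have h3 := (stabilizer G a).card_mul_index
    rw [h2, Nat.card_eq_fintype_card (α := Ω), hΩ, hG] at h3
    have h4 : 0 < p + 1 := by omega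
    apply Nat.eq_of_mul_eq_mul_right h4
    rw [h3]
    ring
  have hpd : ¬ p ∣ d := fun h => absurd (Nat.le_of_dvd (Nat.pos_of_ne_zero hd0) h) (by omega)
  obtain ⟨P⟩ : Nonempty (Sylow p S) := inferInstance
  have hPcard : Nat.card P = p := by
    rw [Sylow.card_eq_multiplicity, hS, Nat.factorization_mul hp.ne_zero hd0]
    simp [hp.factorization_self, Nat.factorization_eq_zero_of_not_dvd hpd]
  have hPidx : (P : Subgroup S).index = d := by
    have h1 := (P : Subgroup S).card_mul_index
    rw [hS] at h1
    have h2 : Nat.card (P : Subgroup S) = p := hPcard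
    rw [h2] at h1
    exact Nat.eq_of_mul_eq_mul_left hp.pos h1
  have hcount : Nat.card (Sylow p S) = 1 := by
    have h1 := card_sylow_modEq_one p S
    have h2 := P.card_dvd_index
    rw [hPidx] at h2
    have h3 := Nat.le_of_dvd (Nat.pos_of_ne_zero hd0) h2
    have h4 : Nat.card (Sylow p S) < p := by omega
    have h5 : Nat.card (Sylow p S) % p = 1 % p := h1
    rw [Nat.mod_eq_of_lt h4, Nat.mod_eq_of_lt hp.one_lt] at h5
    exact h5
  haveI : Subsingleton (Sylow p S) := (Nat.card_eq_one_iff_unique.mp hcount).1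
  have hPn : (P : Subgroup S).Normal := Sylow.normal_of_subsingleton P
  let F : Subgroup G := (P : Subgroup S).map S.subtype
  have hFcard : Nat.card F = p := by
    rw [← hPcard]
    exact (Nat.card_congr (Subgroup.equivMapOfInjective _ _ S.subtype_injective).toEquiv).symm
  have hFS : F ≤ S := by
    rintro _ ⟨x, -, rfl⟩
    exact x.2
  refine ⟨F, hFS, hFcard, ?_, ?_⟩
  · intro u hu hu1 c hc
    let U : F := ⟨u, hu⟩
    have hUp : U ^ p = 1 := by
      rw [← hFcard]
      exact pow_card_eq_one'
    have hup : u ^ p = 1 := by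
      simpa [U] using congrArg Subtype.val hUp
    let π : Function.End Ω := (fun x => u • x)
    have hπ : ∀ (k : ℕ) (x : Ω), (π ^ k) x = (u ^ k) • x := by
      intro k
      induction k with
      | zero => intro x; simp [π]; rfl
      | succ k ih =>
        intro x
        rw [pow_succ, pow_succ, mul_smul]
        show (π ^ k) (π x) = _
        rw [ih]
    have h1 : π ^ p ^ 1 = 1 := by
      rw [pow_one]
      funext x
      rw [hπ, hup, one_smul]
      rfl
    have h2 := Equiv.Perm.card_fixedPoints_modEq (f := π) (p := p) (n := 1) h1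
    rw [hΩ] at h2
    have hafix : a ∈ Function.fixedPoints π := hFS hu
    have hne : ∃ x, x ∉ Function.fixedPoints π := by
      by_contra hcon
      push Not at hcon
      apply hu1
      apply FaithfulSMul.eq_of_smul_eq_smul (α := Ω)
      intro x
      rw [one_smul]
      exact hcon x
    obtain ⟨x₀, hx₀⟩ := hne
    have h3 : Fintype.card (Function.fixedPoints π) < p + 1 := by
      rw [← hΩ]
      exact Fintype.card_subtype_lt hx₀
    have h4 : 0 < Fintype.card (Function.fixedPoints π) := Fintype.card_pos_iff.mpr ⟨⟨a, hafix⟩⟩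
    have h5 : Fintype.card (Function.fixedPoints π) = 1 := by
      have h6 : (p + 1) % p = 1 % p := by simp
      have h7 : Fintype.card (Function.fixedPoints π) % p = 1 % p := by
        rw [← h6]
        exact h2.symm
      have h8 : Fintype.card (Function.fixedPoints π) ≤ p := by omega
      rcases Nat.lt_or_ge (Fintype.card (Function.fixedPoints π)) p with h9 | h9
      · rw [Nat.mod_eq_of_lt h9, Nat.mod_eq_of_lt hp.one_lt] at h7
        exact h7
      · have h10 : Fintype.card (Function.fixedPoints π) = p := by omega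
        rw [h10, Nat.mod_self, Nat.mod_eq_of_lt hp.one_lt] at h7
        omega
    have hcfix : c ∈ Function.fixedPoints π := hc
    have h6 := Fintype.card_le_one_iff.mp h5.le ⟨c, hcfix⟩ ⟨a, hafix⟩
    exact congrArg Subtype.val h6
  · rintro s _ hs ⟨x, hx, rfl⟩
    have h1 := hPn.conj_mem x hx ⟨s, hs⟩
    exact ⟨_, h1, rfl⟩

namespace Pre

variable (S : Pre G Ω p a b F)
include S

/-- The kernel is regular on the other points. -/
theorem reg {y z : Ω} (hy : y ≠ a) (hz : z ≠ a) : ∃ u ∈ F, u • y = z := by
  classical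
  have hcompl : Nat.card {x : Ω // x ≠ a} = Nat.card F := by
    have h1 : Fintype.card {x : Ω // x ≠ a} + 1 = Fintype.card Ω := by
      have := Fintype.card_congr (Equiv.optionSubtypeNe a)
      rwa [Fintype.card_option] at this
    have h2 := S.hFcard
    have h3 := S.hΩ
    rw [Nat.card_eq_fintype_card]
    omega
  have hne : ∀ u : F, (u : G) • y ≠ a := by
    intro u h0
    apply hy
    have h1 : (u : G) • a = a := S.hFa u.2
    exact smul_left_cancel (u : G) (h0.trans h1.symm)
  let f : F → {x : Ω // x ≠ a} := fun u => ⟨(u : G) • y, hne u⟩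
  have hfinj : Function.Injective f := by
    intro u v huv
    have h1 : (u : G) • y = (v : G) • y := congrArg Subtype.val huv
    have h2 : ((v : G)⁻¹ * u) • y = y := by
      rw [mul_smul, h1, inv_smul_smul]
    by_contra hne'
    have h3 : (v : G)⁻¹ * u ≠ 1 := by
      intro h0
      rw [inv_mul_eq_one] at h0
      exact hne' (Subtype.ext h0.symm)
    exact hy (S.hFfix _ (mul_mem (inv_mem v.2) u.2) h3 y h2)
  have hfsurj : Function.Surjective f :=
    (Function.Injective.bijective_of_nat_card_le hfinj hcompl.le).2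
  obtain ⟨u, hu⟩ := hfsurj ⟨z, hz⟩
  exact ⟨u, u.2, congrArg Subtype.val hu⟩

/-- Double transitivity. -/
theorem two_trans : ∀ x y x' y' : Ω, x ≠ y → x' ≠ y' → ∃ g : G, g • x = x' ∧ g • y = y' := by
  have hat : ∀ c x y : Ω, x ≠ c → y ≠ c → ∃ n : G, n • c = c ∧ n • x = y := by
    intro c x y hx hy
    obtain ⟨g, hg⟩ := S.htrans a c
    have hx' : g⁻¹ • x ≠ a := by
      intro h0
      apply hx
      rw [inv_smul_eq_iff] at h0
      rw [h0, hg]
    have hy' : g⁻¹ • y ≠ a := by
      intro h0
      apply hy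
      rw [inv_smul_eq_iff] at h0
      rw [h0, hg]
    obtain ⟨u, hu, hux⟩ := S.reg hx' hy'
    refine ⟨g * u * g⁻¹, ?_, ?_⟩
    · simp only [mul_smul]
      rw [← hg, inv_smul_smul, show u • a = a from S.hFa hu]
    · simp only [mul_smul]
      rw [hux, smul_inv_smul]
  intro x y x' y' hxy hxy'
  obtain ⟨n₁, h₁⟩ := S.htrans x x'
  have h2 : n₁ • y ≠ x' := by
    intro h0
    apply hxy
    apply smul_left_cancel n₁
    rw [h₁, h0]
  obtain ⟨n₂, h3, h4⟩ := hat x' (n₁ • y) y' h2 (Ne.symm hxy')
  exact ⟨n₂ * n₁, by rw [mul_smul, h₁, h3], by rw [mul_smul, h4]⟩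

theorem comm_F : ∀ x ∈ F, ∀ y ∈ F, x * y = y * x := by
  intro x hx y hy
  haveI : Fact p.Prime := ⟨S.hp⟩
  haveI : IsCyclic F := isCyclic_of_prime_card S.hFcard
  letI := IsCyclic.commGroup (α := F)
  have h1 := mul_comm (⟨x, hx⟩ : F) ⟨y, hy⟩
  exact congrArg Subtype.val h1

/-- An element of the two point stabilizer fixes only the two points, unless it is trivial. -/
theorem E_free {e : G} (he : e ∈ E) {c : Ω} (hc : e • c = c) (hca : c ≠ a) (hcb : c ≠ b) : e = 1 := by
  classical
  haveI : Fact p.Prime := ⟨S.hp⟩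
  obtain ⟨f, hf, hfb⟩ := S.reg (Ne.symm S.hab) hca
  have hea : e • a = a := he.1
  have heb : e • b = b := he.2
  have hf1 : f ≠ 1 := by
    rintro rfl
    exact hcb (by simpa using hfb.symm)
  have hefe : e * f * e⁻¹ = f := by
    have h1 := S.hFn hea hf
    have h2 : f⁻¹ * (e * f * e⁻¹) = 1 := by
      by_contra hne
      have h3 : e⁻¹ • b = b := by rw [inv_smul_eq_iff, heb]
      have h4 : (f⁻¹ * (e * f * e⁻¹)) • b = b := by
        simp only [mul_smul]
        rw [h3, hfb, hc, ← hfb, inv_smul_smul]
      exact S.hab (S.hFfix _ (mul_mem (inv_mem hf) h1) hne b h4).symm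
    rw [inv_mul_eq_one] at h2
    exact h2.symm
  have hgen : ∀ u ∈ F, e * u * e⁻¹ = u := by
    intro u hu
    have h1 : (⟨f, hf⟩ : F) ≠ 1 := fun h => hf1 (congrArg Subtype.val h)
    have h2 := zpowers_eq_top_of_prime_card S.hFcard h1
    have h3 : (⟨u, hu⟩ : F) ∈ Subgroup.zpowers (⟨f, hf⟩ : F) := by
      rw [h2]
      exact Subgroup.mem_top _
    obtain ⟨k, hk⟩ := h3
    have h4 : u = f ^ k := by
      have := congrArg Subtype.val hk
      simpa using this.symm
    rw [h4]
    rw [← conj_zpow, hefe]
  haveI := S.hfaith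
  apply FaithfulSMul.eq_of_smul_eq_smul (α := Ω)
  intro x
  rw [one_smul]
  by_cases hxa : x = a
  · rw [hxa, hea]
  · obtain ⟨u, hu, hux⟩ := S.reg (Ne.symm S.hab) hxa
    have h1 := hgen u hu
    have h2 : e * u = u * e := by
      calc e * u = (e * u * e⁻¹) * e := by group
        _ = u * e := by rw [h1]
    rw [← hux, ← mul_smul, h2, mul_smul, heb]

/-- No non-identity element fixes three points. -/
theorem axiom3 (g : G) (x y z : Ω) (hxy : x ≠ y) (hyz : y ≠ z) (hxz : x ≠ z) (h1 : g • x = x)
    (h2 : g • y = y) (h3 : g • z = z) : g = 1 := by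
  obtain ⟨h, hha, hhb⟩ := S.two_trans a b x y S.hab hxy
  have hz1 : h⁻¹ • z ≠ a := by
    intro h0
    rw [inv_smul_eq_iff, hha] at h0
    exact hxz h0.symm
  have hz2 : h⁻¹ • z ≠ b := by
    intro h0
    rw [inv_smul_eq_iff, hhb] at h0
    exact hyz h0.symm
  have hE : h⁻¹ * g * h ∈ E := by
    constructor
    · show (h⁻¹ * g * h) • a = a
      simp only [mul_smul]
      rw [hha, h1, inv_smul_eq_iff, hha]
    · show (h⁻¹ * g * h) • b = b
      simp only [mul_smul]
      rw [hhb, h2, inv_smul_eq_iff, hhb]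
  have h4 := S.E_free hE (c := h⁻¹ • z) (by
    simp only [mul_smul]
    rw [smul_inv_smul, h3]) hz1 hz2
  have h5 : g = h * (h⁻¹ * g * h) * h⁻¹ := by group
  rw [h5, h4]
  group

theorem card_E {d : ℕ} (hG : Nat.card G = (p + 1) * p * d) : Nat.card E = d := by
  classical
  have hS1 : (Nat.card (stabilizer G a)) * (p + 1) = Nat.card G := by
    haveI hpt : IsPretransitive G Ω := ⟨S.htrans⟩
    have h2 := index_stabilizer_of_transitive G a
    have h3 := (stabilizer G a).card_mul_index
    rw [h2, Nat.card_eq_fintype_card (α := Ω), S.hΩ] at h3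
    exact h3
  have hS2 : Nat.card E * Nat.card F = Nat.card (stabilizer G a) := by
    -- the orbit of `b` under the stabilizer of `a`
    have hmap : Nat.card (stabilizer G a) = Nat.card (F × E) := by
      rw [Nat.card_eq_fintype_card, Nat.card_eq_fintype_card]
      symm
      apply Fintype.card_of_bijective (f := fun q : F × E =>
        (⟨(q.1 : G) * (q.2 : G), mul_mem (S.hFa q.1.2) q.2.2.1⟩ : stabilizer G a))
      constructor
      · rintro ⟨f, e⟩ ⟨f', e'⟩ h
        have h1 : (f : G) * e = f' * e' := congrArg Subtype.val h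
        have h2 : (f' : G)⁻¹ * f = e' * (e : G)⁻¹ := by
          calc (f' : G)⁻¹ * f = (f' : G)⁻¹ * (f * e) * (e : G)⁻¹ := by group
            _ = e' * (e : G)⁻¹ := by rw [h1]; group
        have h3 : (f' : G)⁻¹ * f = 1 := by
          by_contra hne
          have h4 : ((f' : G)⁻¹ * f) • b = b := by
            rw [h2]
            exact (mul_mem e'.2 (inv_mem e.2)).2
          exact S.hab (S.hFfix _ (mul_mem (inv_mem f'.2) f.2) hne b h4).symm
        rw [inv_mul_eq_one] at h3
        have h5 : (e : G) = e' := by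
          rw [← h3] at h1
          exact mul_left_cancel h1
        exact Prod.ext (Subtype.ext h3.symm) (Subtype.ext h5)
      · rintro ⟨x, hx⟩
        have hb : x • b ≠ a := by
          intro h0
          apply S.hab
          apply smul_left_cancel x
          rw [show x • a = a from hx, h0]
        obtain ⟨f, hf, hfb⟩ := S.reg (Ne.symm S.hab) hb
        refine ⟨(⟨f, hf⟩, ⟨f⁻¹ * x, ?_, ?_⟩), ?_⟩
        · show (f⁻¹ * x) • a = a
          rw [mul_smul, show x • a = a from hx, inv_smul_eq_iff]
          exact (S.hFa hf).symm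
        · show (f⁻¹ * x) • b = b
          rw [mul_smul, inv_smul_eq_iff, hfb]
        · apply Subtype.ext
          show f * (f⁻¹ * x) = x
          group
    rw [hmap, Nat.card_prod, mul_comm]
  have hF := S.hFcard
  rw [hF] at hS2
  rw [← hS2, hG] at hS1
  have h4 : 0 < (p + 1) * p := Nat.mul_pos (by omega) S.hp.pos
  apply Nat.eq_of_mul_eq_mul_left h4
  rw [← hS1]
  ring

end Pre

end Cfsg.Agent.Lib.Perm.DP
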