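import Mathlib
import Cfsg.Agent.Lib.Perm.DegPrimeOne

/-!
Transitive permutation groups of degree `p + 1` and order `(p + 1) p d` with `d < p`:
fields, coordinates and semi-affine maps.
-/

set_option autoImplicit false
set_option linter.unusedSectionVars false
set_option linter.unusedVariables false
set_option linter.style.haveILetI false
set_option linter.unusedSimpArgs false
set_option linter.unnecessarySimpa false

open MulAction

namespace Cfsg.Agent.Lib.Perm.DP

/-- A commutative group acting freely on a finite abelian group with two regular orbits on the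
non-zero elements yields a finite field. -/
theorem exists_field_of_free' {A E : Type*} [AddCommGroup A] [Finite A] [Group E] [Finite E]
    (hc : ∀ e f : E, e * f = f * e) (μ : E →* AddMonoid.End A)
    (hfree : ∀ (e : E) (u : A), μ e u = u → e = 1 ∨ u = 0)
    (hcard : Nat.card A ≤ 2 * Nat.card E + 1) (hA2 : 2 ≤ Nat.card A) :
    ∃ (p f : ℕ) (K : Type) (_ : Field K) (_ : Fintype K), p.Prime ∧ 0 < f ∧ Fintype.card K = p ^ f ∧
      p ^ f = Nat.card A ∧ ∃ (κ : K ≃+ A) (ε : E →* Kˣ), Function.Injective ε ∧
        ∀ (e : E) (k : K), κ ((ε e : K) * k) = μ e (κ k) := by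
  classical
  let R : Subring (AddMonoid.End A) := Subring.closure (Set.range μ)
  have hcomm : ∀ x ∈ Set.range μ, ∀ y ∈ Set.range μ, x * y = y * x := by
    rintro _ ⟨e, rfl⟩ _ ⟨f, rfl⟩
    rw [← map_mul, hc, map_mul]
  letI iCR : CommRing R := Subring.closureCommRingOfComm hcomm
  haveI : Finite (AddMonoid.End A) := Finite.of_injective (fun f => (f : A → A)) DFunLike.coe_injective
  haveI : Fintype R := Fintype.ofFinite R
  let f₀ : E →* R :=
    { toFun := fun e => ⟨μ e, Subring.subset_closure ⟨e, rfl⟩⟩
      map_one' := Subtype.ext (map_one μ)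
      map_mul' := fun x y => Subtype.ext (map_mul μ x y) }
  have hEpos : 0 < Nat.card E := Nat.card_pos
  have hmulapp : ∀ (x y : AddMonoid.End A) (u : A), (x * y) u = x (y u) := fun _ _ _ => rfl
  haveI hNA : Nontrivial A := Finite.one_lt_card_iff_nontrivial.mp (by omega)
  obtain ⟨v₀, hv₀⟩ := exists_ne (0 : A)
  have hirr : ∀ W : AddSubgroup A, (∀ e, ∀ u ∈ W, μ e u ∈ W) → W = ⊥ ∨ W = ⊤ := by
    intro W hW
    by_cases hb : W = ⊥
    · exact Or.inl hb
    right
    obtain ⟨w, hw, hw0⟩ : ∃ w ∈ W, w ≠ 0 := by
      by_contra hcon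
      push Not at hcon
      exact hb (AddSubgroup.eq_bot_iff_forall _ |>.mpr hcon)
    have hge : Nat.card E + 1 ≤ Nat.card W := by
      rw [← Finite.card_option]
      apply Nat.card_le_card_of_injective (fun o : Option E => match o with
        | Option.none => (⟨0, W.zero_mem⟩ : W)
        | Option.some e => ⟨μ e w, hW e w hw⟩)
      have hne0 : ∀ e : E, μ e w ≠ 0 := by
        intro e h0
        apply hw0
        have h1 : μ e⁻¹ (μ e w) = w := by
          rw [← hmulapp, ← map_mul, inv_mul_cancel, map_one]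
          rfl
        rw [← h1, h0, map_zero]
      intro x y hxy
      cases x with
      | none =>
        cases y with
        | none => rfl
        | some f => exact absurd (congrArg Subtype.val hxy).symm (hne0 f)
      | some e =>
        cases y with
        | none => exact absurd (congrArg Subtype.val hxy) (hne0 e)
        | some f =>
          have h1 : μ e w = μ f w := congrArg Subtype.val hxy
          have h2 : μ (f⁻¹ * e) w = w := by
            rw [map_mul, hmulapp, h1, ← hmulapp, ← map_mul, inv_mul_cancel, map_one]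
            rfl
          rcases hfree _ _ h2 with h3 | h3
          · rw [inv_mul_eq_one] at h3
            rw [h3]
          · exact absurd h3 hw0
    obtain ⟨c, hc'⟩ := AddSubgroup.card_addSubgroup_dvd_card W
    have hc1 : c = 1 := by
      have hc0 : c ≠ 0 := by
        rintro rfl
        simp at hc'
        omega
      by_contra hne
      have hc2 : 2 ≤ c := by omega
      nlinarith
    rw [hc1, mul_one] at hc'
    exact AddSubgroup.eq_top_of_card_eq W hc'.symm
  have hrc : ∀ (r : R) (e : E) (u : A), (r : AddMonoid.End A) (μ e u) = μ e ((r : AddMonoid.End A) u) := by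
    intro r e u
    have h1 : r * f₀ e = f₀ e * r := mul_comm _ _
    have h2 := congrArg (fun t : R => (t : AddMonoid.End A) u) h1
    exact h2
  have hkill : ∀ r : R, r ≠ 0 → ∀ u : A, (r : AddMonoid.End A) u = 0 → u = 0 := by
    intro r hr u hu
    let W : AddSubgroup A := ((r : AddMonoid.End A) : A →+ A).ker
    have hWinv : ∀ e, ∀ u ∈ W, μ e u ∈ W := by
      intro e u hu
      have hu' : (r : AddMonoid.End A) u = 0 := hu
      show (r : AddMonoid.End A) (μ e u) = 0
      rw [hrc r e u, hu', map_zero]
    rcases hirr W hWinv with h0 | h0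
    · have h1 : u ∈ W := hu
      rw [h0] at h1
      simpa using h1
    · exfalso
      apply hr
      apply Subtype.ext
      ext x
      have h1 : x ∈ W := by rw [h0]; exact AddSubgroup.mem_top x
      exact h1
  haveI hNR : Nontrivial R := by
    refine ⟨⟨1, 0, fun h => hv₀ ?_⟩⟩
    have h1 := congrArg (fun t : R => (t : AddMonoid.End A) v₀) h
    exact h1
  haveI hNZD : NoZeroDivisors R := by
    refine ⟨fun {r s} h => ?_⟩
    by_cases hr : r = 0
    · exact Or.inl hr
    right
    apply Subtype.ext
    ext u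
    apply hkill r hr
    have h1 := congrArg (fun t : R => (t : AddMonoid.End A) u) h
    exact h1
  haveI : IsDomain R := NoZeroDivisors.to_isDomain R
  letI fld : Field R := Fintype.fieldOfDomain R
  let φ : R →+ A :=
    { toFun := fun r => (r : AddMonoid.End A) v₀
      map_zero' := rfl
      map_add' := fun _ _ => rfl }
  have hφinj : Function.Injective φ := by
    rw [injective_iff_map_eq_zero]
    intro r hr
    by_contra hr0
    exact hv₀ (hkill r hr0 v₀ hr)
  have hφsurj : Function.Surjective φ := by
    have hinvW : ∀ e, ∀ u ∈ φ.range, μ e u ∈ φ.range := by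
      rintro e _ ⟨r, rfl⟩
      exact ⟨f₀ e * r, rfl⟩
    rcases hirr φ.range hinvW with h0 | h0
    · exfalso
      have h1 : v₀ ∈ φ.range := ⟨1, rfl⟩
      rw [h0] at h1
      exact hv₀ (by simpa using h1)
    · intro u
      have h1 : u ∈ φ.range := by rw [h0]; exact AddSubgroup.mem_top u
      exact h1
  let κ₀ : R ≃+ A := AddEquiv.ofBijective φ ⟨hφinj, hφsurj⟩
  have hRA : Fintype.card R = Nat.card A := by
    rw [← Nat.card_eq_fintype_card]
    exact Nat.card_congr κ₀.toEquiv
  obtain ⟨p, hchar⟩ := CharP.exists R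
  obtain ⟨n, hp, hn⟩ := FiniteField.card R p
  haveI : Fact p.Prime := ⟨hp⟩
  haveI : Fintype (GaloisField p n) := Fintype.ofFinite _
  have hK : Fintype.card (GaloisField p n) = p ^ (n : ℕ) := by
    rw [← Nat.card_eq_fintype_card]
    exact GaloisField.card p n n.ne_zero
  let ι : GaloisField p n ≃+* R := FiniteField.ringEquivOfCardEq (by rw [hK, hn])
  let ε : E →* (GaloisField p n)ˣ :=
    (Units.map ((ι.symm : R ≃+* GaloisField p n) : R →* GaloisField p n)).comp f₀.toHomUnits
  have hε : ∀ e : E, ι (ε e : GaloisField p n) = f₀ e := by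
    intro e
    show ι (ι.symm (f₀ e)) = f₀ e
    simp
  refine ⟨p, n, GaloisField p n, inferInstance, inferInstance, hp, n.pos, hK, ?_,
    ι.toAddEquiv.trans κ₀, ε, ?_, ?_⟩
  · rw [← hn, hRA]
  · intro e e' hee
    have h1 : ι (ε e : GaloisField p n) = ι (ε e' : GaloisField p n) := by rw [hee]
    rw [hε, hε] at h1
    have h2 : μ e v₀ = μ e' v₀ := congrArg (fun t : R => (t : AddMonoid.End A) v₀) h1
    have h3 : μ (e'⁻¹ * e) v₀ = v₀ := by
      rw [map_mul, hmulapp, h2, ← hmulapp, ← map_mul, inv_mul_cancel, map_one]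
      rfl
    rcases hfree _ _ h3 with h4 | h4
    · rw [inv_mul_eq_one] at h4
      exact h4.symm
    · exact absurd h4 hv₀
  · intro e k
    show φ (ι ((ε e : GaloisField p n) * k)) = μ e (φ (ι k))
    rw [map_mul, hε]
    rfl


/-- A normalizing element of a group of translations, normalizing the multiplications, is
semilinear. -/
theorem semi_form {L G : Type*} [Field L] [Finite L] [Group G] {M F : Subgroup G} (hMn : M.Normal)
    (vec : L → G) (hadd : ∀ k l, vec (k + l) = vec k * vec l) (hinj : Function.Injective vec)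
    (hsurj : ∀ m ∈ M, ∃ k, vec k = m) (hmem : ∀ k, vec k ∈ M) (ε : F → Lˣ)
    (hεs : Function.Surjective ε)
    (hε : ∀ (f : F) (k : L), (f : G) * vec k * (f : G)⁻¹ = vec ((ε f : L) * k))
    (h : G) (hh : ∀ f ∈ F, h * f * h⁻¹ ∈ F) :
    ∃ (c : Lˣ) (σ : L ≃+* L), ∀ k, h * vec k * h⁻¹ = vec ((c : L) * σ k) := by
  classical
  have hex : ∀ k, ∃ k', vec k' = h * vec k * h⁻¹ := fun k => hsurj _ (hMn.conj_mem _ (hmem k) h)
  choose phi hphi using hex
  have hvec0 : vec 0 = 1 := by
    have h1 := hadd 0 0
    rw [add_zero] at h1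
    exact (mul_eq_left.mp h1.symm)
  have hphi_add : ∀ k l, phi (k + l) = phi k + phi l := by
    intro k l
    apply hinj
    rw [hphi, hadd, hadd, hphi, hphi]
    group
  have hphi_inj : Function.Injective phi := by
    intro k l hkl
    apply hinj
    have h1 : h * vec k * h⁻¹ = h * vec l * h⁻¹ := by rw [← hphi, ← hphi, hkl]
    have h2 := mul_right_cancel h1
    exact mul_left_cancel h2
  have hphi0 : phi 0 = 0 := by
    apply hinj
    rw [hphi, hvec0]
    group
  have hrel : ∀ (f : F) (k : L), phi ((ε f : L) * k) =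
      (ε ⟨h * f * h⁻¹, hh f f.2⟩ : L) * phi k := by
    intro f k
    apply hinj
    rw [hphi, ← hε, ← hε ⟨h * f * h⁻¹, hh f f.2⟩, hphi]
    group
  have hc₀ : phi 1 ≠ 0 := by
    intro h0
    exact one_ne_zero (hphi_inj (h0.trans hphi0.symm))
  let s : L → L := fun k => (phi 1)⁻¹ * phi k
  have hs1 : s 1 = 1 := inv_mul_cancel₀ hc₀
  have hs0 : s 0 = 0 := by
    show (phi 1)⁻¹ * phi 0 = 0
    rw [hphi0, mul_zero]
  have hsadd : ∀ k l, s (k + l) = s k + s l := by
    intro k l
    show (phi 1)⁻¹ * phi (k + l) = (phi 1)⁻¹ * phi k + (phi 1)⁻¹ * phi l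
    rw [hphi_add]
    ring
  have hsmul : ∀ t k, s (t * k) = s t * s k := by
    intro t k
    by_cases ht : t = 0
    · rw [ht, zero_mul, hs0, zero_mul]
    · obtain ⟨f, hf⟩ := hεs (Units.mk0 t ht)
      have ht' : t = (ε f : L) := by
        rw [hf]
        rfl
      have h1 : s t = (ε ⟨h * f * h⁻¹, hh f f.2⟩ : L) := by
        show (phi 1)⁻¹ * phi t = _
        have h2 := hrel f 1
        rw [mul_one, ← ht'] at h2
        rw [h2]
        field_simp
      show (phi 1)⁻¹ * phi (t * k) = s t * ((phi 1)⁻¹ * phi k)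
      rw [h1, ht', hrel]
      ring
  let rh : L →+* L :=
    { toFun := s
      map_one' := hs1
      map_mul' := hsmul
      map_zero' := hs0
      map_add' := hsadd }
  have hrhinj : Function.Injective rh := rh.injective
  have hrhbij : Function.Bijective rh := Finite.injective_iff_bijective.mp hrhinj
  refine ⟨Units.mk0 _ hc₀, RingEquiv.ofBijective rh hrhbij, fun k => ?_⟩
  rw [← hphi]
  congr 1
  show phi k = phi 1 * ((phi 1)⁻¹ * phi k)
  field_simp

/-- The number of automorphisms of the field with `2^q` elements. -/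
theorem card_ringAut (q : ℕ) (hq : q ≠ 0) :
    Nat.card (GaloisField 2 q ≃+* GaloisField 2 q) = q := by
  haveI : Fact (Nat.Prime 2) := ⟨Nat.prime_two⟩
  have h1 := IsGalois.card_aut_eq_finrank (ZMod 2) (GaloisField 2 q)
  rw [GaloisField.finrank 2 hq] at h1
  refine Eq.trans ?_ h1
  refine Nat.card_congr ⟨fun σ => AlgEquiv.ofRingEquiv (f := σ) ?_, fun τ => τ.toRingEquiv, ?_, ?_⟩
  · intro r
    have h2 : r = 0 ∨ r = 1 := by
      fin_cases r
      · exact Or.inl rfl
      · exact Or.inr rfl
    rcases h2 with rfl | rfl <;> simp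
  · intro σ
    ext x
    rfl
  · intro τ
    ext x
    rfl

end Cfsg.Agent.Lib.Perm.DP
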