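import Mathlib
import Cfsg.Agent.Lib.Perm.DegPrimeTwo

/-!
Transitive permutation groups of degree `p + 1` and order `(p + 1) p d` with `d < p`:
the case of a regular normal subgroup.
-/

set_option autoImplicit false
set_option linter.unusedSectionVars false
set_option linter.unusedVariables false
set_option linter.style.haveILetI false
set_option linter.unusedSimpArgs false
set_option linter.unnecessarySimpa false

open MulAction

namespace Cfsg.Agent.Lib.Perm.DP

universe u v

variable {G : Type u} {Ω : Type v} [Group G] [MulAction G Ω] [Fintype G] [Fintype Ω]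
  {p : ℕ} {a b : Ω} {F : Subgroup G}

namespace Pre

variable (S : Pre G Ω p a b F)
include S

set_option maxHeartbeats 2000000 in
/-- The case of a regular normal subgroup. -/
theorem third {d : ℕ} (hG : Nat.card G = (p + 1) * p * d) (hp2 : p ≠ 2) (M : Subgroup G)
    (hMn : M.Normal) (hr₁ : ∀ x y : Ω, ∃ m ∈ M, m • x = y)
    (hr₂ : ∀ m ∈ M, ∀ x : Ω, m • x = x → m = 1) :
    ∃ q : ℕ, q.Prime ∧ p + 1 = 2 ^ q ∧ (d = 1 ∨ d = q) ∧ ∃ e : Ω ≃ GaloisField 2 q, ∀ g : G,
      ∃ (a' : (GaloisField 2 q)ˣ) (b' : GaloisField 2 q) (φ : GaloisField 2 q ≃+* GaloisField 2 q),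
        ∀ x, e (g • e.symm x) = (a' : GaloisField 2 q) * φ x + b' := by
  classical
  haveI := S.hfaith
  haveI : Nontrivial Ω := ⟨a, b, S.hab⟩
  have hp := S.hp
  have hΩ := S.hΩ
  have hpodd : Odd p := hp.odd_of_ne_two hp2
  have hp3 : 3 ≤ p := by
    have := hp.two_le
    omega
  have hMc : ∀ x ∈ M, ∀ y ∈ M, x * y = y * x :=
    Cfsg.Agent.Lib.Perm.ZA.reg_comm (N := ⊤)
      (fun x y x' y' h h' => by
        obtain ⟨g, h1, h2⟩ := S.two_trans x y x' y' h h'
        exact ⟨g, Subgroup.mem_top _, h1, h2⟩)
      (fun n _ m hm => hMn.conj_mem m hm n) le_top hr₁ hr₂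
  letI iCM : CommGroup M :=
    { (inferInstance : Group M) with
      mul_comm := fun x y => Subtype.ext (hMc x x.2 y y.2) }
  have hcardM : Nat.card M = p + 1 := by
    rw [← hΩ, ← Nat.card_eq_fintype_card]
    refine Nat.card_congr (Equiv.ofBijective (fun m : M => (m : G) • a) ⟨?_, ?_⟩)
    · intro m m' h
      have h1 : (m : G) • a = (m' : G) • a := h
      have h2 : (m' : G)⁻¹ * m = 1 :=
        hr₂ _ (mul_mem (inv_mem m'.2) m.2) a (by rw [mul_smul, h1, inv_smul_smul])
      rw [inv_mul_eq_one] at h2
      exact Subtype.ext h2.symm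
    · intro x
      obtain ⟨m, hm, hmx⟩ := hr₁ a x
      exact ⟨⟨m, hm⟩, hmx⟩
  have hFcomm : ∀ x y : F, x * y = y * x := fun x y => Subtype.ext (S.comm_F x x.2 y y.2)
  -- the action on the regular normal subgroup
  let cF : F → M → M := fun f u => ⟨(f : G) * u * (f : G)⁻¹, hMn.conj_mem _ u.2 _⟩
  let μ : F →* AddMonoid.End (Additive M) :=
    { toFun := fun e =>
        { toFun := fun u => Additive.ofMul (cF e (Additive.toMul u))
          map_zero' := by
            apply Additive.toMul.injective
            apply Subtype.ext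
            show (e : G) * 1 * (e : G)⁻¹ = 1
            group
          map_add' := fun u v => by
            apply Additive.toMul.injective
            apply Subtype.ext
            show (e : G) * (((Additive.toMul u : M) : G) * ((Additive.toMul v : M) : G)) * (e : G)⁻¹ =
              ((e : G) * ((Additive.toMul u : M) : G) * (e : G)⁻¹) * ((e : G) * ((Additive.toMul v : M) : G) * (e : G)⁻¹)
            group }
      map_one' := by
        apply AddMonoidHom.ext
        intro u
        apply Additive.toMul.injective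
        apply Subtype.ext
        show (1 : G) * ((Additive.toMul u : M) : G) * (1 : G)⁻¹ = ((Additive.toMul u : M) : G)
        group
      map_mul' := fun e f => by
        apply AddMonoidHom.ext
        intro u
        apply Additive.toMul.injective
        apply Subtype.ext
        show ((e : G) * (f : G)) * ((Additive.toMul u : M) : G) * ((e : G) * (f : G))⁻¹ =
          (e : G) * ((f : G) * ((Additive.toMul u : M) : G) * (f : G)⁻¹) * (e : G)⁻¹
        group }
  have hμ : ∀ (e : F) (u : Additive M), ((Additive.toMul (μ e u) : M) : G) =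
      (e : G) * ((Additive.toMul u : M) : G) * (e : G)⁻¹ := fun _ _ => rfl
  have hfree : ∀ (e : F) (u : Additive M), μ e u = u → e = 1 ∨ u = 0 := by
    intro e u hu
    by_cases hu0 : u = 0
    · exact Or.inr hu0
    left
    by_contra he
    have he' : (e : G) ≠ 1 := fun h => he (Subtype.ext h)
    set m : G := ((Additive.toMul u : M) : G) with hm
    have hmM : m ∈ M := (Additive.toMul u : M).2
    have hm1 : m ≠ 1 := by
      intro h0
      apply hu0
      apply Additive.toMul.injective
      exact Subtype.ext h0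
    have hc : (e : G) * m * (e : G)⁻¹ = m := by
      have := hμ e u
      rw [hu] at this
      exact this.symm
    have hea : (e : G) • a = a := S.hFa e.2
    have hfix : (e : G) • (m • a) = m • a := by
      calc (e : G) • (m • a) = ((e : G) * m * (e : G)⁻¹) • ((e : G) • a) := by
            rw [← mul_smul, ← mul_smul, show (e : G) * m * (e : G)⁻¹ * (e : G) = (e : G) * m by group]
        _ = m • a := by rw [hc, hea]
    have h1 := S.hFfix _ e.2 he' _ hfix
    exact hm1 (hr₂ m hmM a h1)
  have hcardA : Nat.card (Additive M) = p + 1 := hcardM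
  obtain ⟨r, n, K, iF, iT, hr, hn, hK, hrn, κ, ε, hεinj, hκ⟩ :=
    exists_field_of_free' hFcomm μ hfree (by rw [hcardA, S.hFcard]; omega) (by rw [hcardA]; omega)
  -- the characteristic
  have hKcard : Fintype.card K = p + 1 := by rw [hK, hrn, hcardA]
  have hr2 : r = 2 := by
    have h1 : 2 ∣ r ^ n := by
      rw [hrn, hcardA]
      exact (Odd.add_one hpodd).two_dvd
    have h2 := Nat.Prime.dvd_of_dvd_pow Nat.prime_two h1
    exact ((Nat.prime_dvd_prime_iff_eq Nat.prime_two hr).mp h2).symm
  subst hr2
  have hpow : p + 1 = 2 ^ n := by rw [hrn, hcardA]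
  have hn1 : n ≠ 1 := by
    rintro rfl
    omega
  have hn0 : n ≠ 0 := hn.ne'
  have hq : n.Prime := by
    have h1 : 2 ^ n - 1 = p := by omega
    have h2 : (2 ^ n - 1).Prime := by rw [h1]; exact hp
    exact (Nat.prime_of_pow_sub_one_prime hn1 h2).2
  haveI : Fact (Nat.Prime 2) := ⟨Nat.prime_two⟩
  let L := GaloisField 2 n
  haveI : Fintype L := Fintype.ofFinite _
  have hLcard : Fintype.card L = 2 ^ n := by
    rw [← Nat.card_eq_fintype_card]
    exact GaloisField.card 2 n hn0
  let ι : K ≃+* L := FiniteField.ringEquivOfCardEq (by rw [hLcard, hK])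
  refine ⟨n, hq, hpow, ?_⟩
  -- coordinates
  let vec : L → G := fun k => ((Additive.toMul (κ (ι.symm k)) : M) : G)
  have hvecadd : ∀ k l : L, vec (k + l) = vec k * vec l := by
    intro k l
    show ((Additive.toMul (κ (ι.symm (k + l))) : M) : G) = _
    rw [map_add, map_add]
    rfl
  have hvecinj : Function.Injective vec := by
    intro k l hkl
    apply ι.symm.injective
    apply κ.injective
    apply Additive.toMul.injective
    exact Subtype.ext hkl
  have hvecmem : ∀ k, vec k ∈ M := fun k => (Additive.toMul (κ (ι.symm k)) : M).2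
  have hvecsurj : ∀ m ∈ M, ∃ k, vec k = m := by
    intro m hm
    obtain ⟨k, hk⟩ := κ.surjective (Additive.ofMul (⟨m, hm⟩ : M))
    refine ⟨ι k, ?_⟩
    show ((Additive.toMul (κ (ι.symm (ι k))) : M) : G) = m
    rw [RingEquiv.symm_apply_apply, hk]
    rfl
  have hvec0 : vec 0 = 1 := by
    have h1 := hvecadd 0 0
    rw [add_zero] at h1
    exact (mul_eq_left.mp h1.symm)
  let ε' : F → Lˣ := fun f => Units.map (ι : K →* L) (ε f)
  have hε'inj : Function.Injective ε' := by
    intro f f' h
    apply hεinj
    apply Units.ext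
    apply ι.injective
    exact congrArg (fun t : Lˣ => (t : L)) h
  have hε's : Function.Surjective ε' := by
    have hcard : Nat.card Lˣ ≤ Nat.card F := by
      rw [S.hFcard, Nat.card_eq_fintype_card, Fintype.card_units, hLcard]
      omega
    exact (Function.Injective.bijective_of_nat_card_le hε'inj hcard).2
  have hε' : ∀ (f : F) (k : L), (f : G) * vec k * (f : G)⁻¹ = vec ((ε' f : L) * k) := by
    intro f k
    have h1 : ι.symm ((ε' f : L) * k) = (ε f : K) * ι.symm k := by
      rw [map_mul]
      congr 1
      exact ι.symm_apply_apply _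
    show _ = ((Additive.toMul (κ (ι.symm ((ε' f : L) * k))) : M) : G)
    rw [h1, hκ]
    exact (hμ f (κ (ι.symm k))).symm
  have hsemi : ∀ h : G, h • a = a → ∃ (c : Lˣ) (σ : L ≃+* L), ∀ k, h * vec k * h⁻¹ = vec ((c : L) * σ k) :=
    fun h hh => semi_form hMn vec hvecadd hvecinj hvecsurj hvecmem ε' hε's hε' h
      (fun f hf => S.hFn hh hf)
  let pt : L → Ω := fun k => vec k • a
  have hptinj : Function.Injective pt := by
    intro k l h
    apply hvecinj
    have h1 : vec k • a = vec l • a := h
    have h2 : (vec l)⁻¹ * vec k = 1 :=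
      hr₂ _ (mul_mem (inv_mem (hvecmem l)) (hvecmem k)) a (by rw [mul_smul, h1, inv_smul_smul])
    rw [inv_mul_eq_one] at h2
    exact h2.symm
  have hptsurj : Function.Surjective pt := by
    intro x
    obtain ⟨m, hm, hmx⟩ := hr₁ a x
    obtain ⟨k, rfl⟩ := hvecsurj m hm
    exact ⟨k, hmx⟩
  have hpt0 : pt 0 = a := by
    show vec 0 • a = a
    rw [hvec0, one_smul]
  -- conjugation in coordinates
  have hconjpt : ∀ (h : G) (k l : L), h • a = a → h * vec k * h⁻¹ = vec l → h • pt k = pt l := by
    intro h k l hh hkl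
    show h • (vec k • a) = vec l • a
    rw [← hkl]
    calc h • (vec k • a) = (h * vec k * h⁻¹) • (h • a) := by
          rw [← mul_smul, ← mul_smul, show h * vec k * h⁻¹ * h = h * vec k by group]
      _ = _ := by rw [hh]
  have hptadd : ∀ k l : L, vec k • pt l = pt (k + l) := by
    intro k l
    show vec k • (vec l • a) = vec (k + l) • a
    rw [hvecadd, mul_smul]
  constructor
  · -- the order of the two point stabilizer
    have h10 : (1 : L) ≠ 0 := one_ne_zero
    have hb' : a ≠ pt 1 := by
      rw [← hpt0]
      exact fun h => h10 (hptinj h).symm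
    have S' : Pre G Ω p a (pt 1) F := { S with hab := hb' }
    have hE := S'.card_E hG
    rw [← hE]
    have hfix : ∀ e : (stabilizer G a ⊓ stabilizer G (pt 1) : Subgroup G), ∃ σ : L ≃+* L, ∀ k,
        (e : G) * vec k * (e : G)⁻¹ = vec (σ k) := by
      intro e
      obtain ⟨c, σ, hσ⟩ := hsemi e e.2.1
      have h1 := hσ 1
      rw [map_one, mul_one] at h1
      have h2 : (e : G) * vec 1 * (e : G)⁻¹ = vec 1 := by
        have h3 : pt (c : L) = pt 1 := by
          rw [← hconjpt e 1 c e.2.1 h1]
          exact e.2.2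
        rw [h1, hptinj h3]
      have h3 : (c : L) = 1 := hvecinj (h1.symm.trans h2)
      refine ⟨σ, fun k => ?_⟩
      rw [hσ, h3, one_mul]
    choose σ hσ using hfix
    let Ψ : (stabilizer G a ⊓ stabilizer G (pt 1) : Subgroup G) →* (L ≃+* L) :=
      { toFun := σ
        map_one' := by
          ext k
          apply hvecinj
          rw [← hσ]
          show (1 : G) * vec k * (1 : G)⁻¹ = vec k
          group
        map_mul' := fun e f => by
          ext k
          apply hvecinj
          rw [← hσ]
          show ((e : G) * f) * vec k * ((e : G) * f)⁻¹ = vec (σ e (σ f k))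
          rw [← hσ e, ← hσ f]
          group }
    have hΨ : Function.Injective Ψ := by
      rw [injective_iff_map_eq_one]
      intro e he
      apply Subtype.ext
      apply FaithfulSMul.eq_of_smul_eq_smul (α := Ω)
      intro x
      obtain ⟨k, rfl⟩ := hptsurj x
      have h1 : (e : G) * vec k * (e : G)⁻¹ = vec k := by
        rw [hσ]
        congr 1
        have h2 : σ e = 1 := he
        rw [h2]
        rfl
      rw [hconjpt e k k e.2.1 h1]
      simp
    have hdvd := Subgroup.card_dvd_of_injective Ψ hΨ
    rw [card_ringAut n hn0] at hdvd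
    exact (Nat.dvd_prime hq).mp hdvd
  · -- the semi-affine form
    let e₀ : L ≃ Ω := Equiv.ofBijective pt ⟨hptinj, hptsurj⟩
    have he₀ : ∀ k, e₀ k = pt k := fun _ => rfl
    refine ⟨e₀.symm, fun g => ?_⟩
    obtain ⟨k₀, hk₀⟩ := hptsurj (g • a)
    let h : G := (vec k₀)⁻¹ * g
    have hha : h • a = a := by
      show ((vec k₀)⁻¹ * g) • a = a
      rw [mul_smul, ← hk₀, inv_smul_eq_iff]
    obtain ⟨c, σ, hσ⟩ := hsemi h hha
    refine ⟨c, k₀, σ, fun x => ?_⟩
    rw [Equiv.symm_symm, he₀]
    have h1 : g = vec k₀ * h := by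
      show g = vec k₀ * ((vec k₀)⁻¹ * g)
      group
    rw [Equiv.symm_apply_eq, he₀, h1, mul_smul, hconjpt h x _ hha (hσ x), hptadd, add_comm]

end Pre

end Cfsg.Agent.Lib.Perm.DP
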