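import Mathlib
import Cfsg.Agent.Lib.Perm.DegPrimeThree

/-!
Transitive permutation groups of degree `p + 1` and order `(p + 1) p d` with `d < p`:
the Zassenhaus case and the sharply triply transitive case.
-/

set_option autoImplicit false
set_option linter.unusedSectionVars false
set_option linter.unusedVariables false
set_option linter.style.haveILetI false
set_option linter.unusedSimpArgs false
set_option linter.unnecessarySimpa false

open MulAction

namespace Cfsg.Agent.Lib.Perm.DP

universe u v

/-- `PGL` along a field isomorphism. -/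
noncomputable def pglCongr {A B : Type*} [Field A] [Field B] (e : A ≃+* B) :
    Matrix.ProjGenLinGroup (Fin 2) A ≃* Matrix.ProjGenLinGroup (Fin 2) B :=
  QuotientGroup.congr _ _ (Cfsg.Agent.Lib.Classical.RC.glCongr e)
    (Cfsg.Agent.Lib.Classical.RC.map_center_eq (Cfsg.Agent.Lib.Classical.RC.glCongr e))

variable {G : Type u} {Ω : Type v} [Group G] [MulAction G Ω] [Fintype G] [Fintype Ω]
  {p : ℕ} {a b : Ω} {F : Subgroup G}

local notation "E" => (stabilizer G a ⊓ stabilizer G b : Subgroup G)

namespace Pre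

variable (S : Pre G Ω p a b F)
include S

/-- Sharp triple transitivity. -/
theorem sharply_three {d : ℕ} (hcard : Nat.card E = d) (hn : d = p - 1) :
    MulAction.IsMultiplyPretransitive G Ω 3 ∧ ∀ t : Fin 3 ↪ Ω, MulAction.stabilizer G t = ⊥ := by
  classical
  have hab := S.hab
  have hΩ := S.hΩ
  have hp := S.hp.two_le
  constructor
  · -- the two point stabilizer is transitive on the rest
    have htr : ∀ x y : Ω, x ≠ a → x ≠ b → y ≠ a → y ≠ b → ∃ e ∈ E, e • x = y := by
      intro x y hxa hxb hya hyb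
      have hne : ∀ e : E, ((e : G) • x) ∈ (Finset.univ.erase a).erase b := by
        intro e
        simp only [Finset.mem_erase, Finset.mem_univ, and_true]
        constructor
        · intro h0
          apply hxb
          apply smul_left_cancel (e : G)
          rw [h0, show (e : G) • b = b from e.2.2]
        · intro h0
          apply hxa
          apply smul_left_cancel (e : G)
          rw [h0, show (e : G) • a = a from e.2.1]
      let f : E → ((Finset.univ.erase a).erase b : Finset Ω) := fun e => ⟨(e : G) • x, hne e⟩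
      have hfinj : Function.Injective f := by
        intro e₁ e₂ h
        have h1 : (e₁ : G) • x = (e₂ : G) • x := congrArg Subtype.val h
        have h2 : ((e₂ : G)⁻¹ * e₁) • x = x := by
          rw [mul_smul, h1, inv_smul_smul]
        have h3 := S.E_free (mul_mem (inv_mem e₂.2) e₁.2) h2 hxa hxb
        rw [inv_mul_eq_one] at h3
        exact Subtype.ext h3.symm
      have hcard' : Nat.card ((Finset.univ.erase a).erase b : Finset Ω) = Nat.card E := by
        rw [hcard, hn, Nat.card_eq_fintype_card, Fintype.card_coe,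
          Finset.card_erase_of_mem (Finset.mem_erase.mpr ⟨Ne.symm hab, Finset.mem_univ _⟩),
          Finset.card_erase_of_mem (Finset.mem_univ _), Finset.card_univ, hΩ]
        omega
      have hfsurj : Function.Surjective f :=
        (Function.Injective.bijective_of_nat_card_le hfinj hcard'.le).2
      obtain ⟨e, he⟩ := hfsurj ⟨y, by simp [hya, hyb]⟩
      exact ⟨e, e.2, congrArg Subtype.val he⟩
    refine Cfsg.Agent.Lib.Perm.isMultiplyPretransitive_of_fixing 3 ?_
    intro u hu x y hx hy
    have hu3 : u.card = 0 ∨ u.card = 1 ∨ u.card = 2 := by omega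
    rcases hu3 with h0 | h1 | h2
    · rw [Finset.card_eq_zero] at h0
      subst h0
      obtain ⟨g, hg⟩ := S.htrans x y
      exact ⟨g, by simp, hg⟩
    · obtain ⟨p', rfl⟩ := Finset.card_eq_one.mp h1
      simp only [Finset.mem_singleton] at hx hy
      obtain ⟨g, hg1, hg2⟩ := S.two_trans p' x p' y (Ne.symm hx) (Ne.symm hy)
      exact ⟨g, by simpa using hg1, hg2⟩
    · obtain ⟨p', q, hpq, rfl⟩ := Finset.card_eq_two.mp h2
      simp only [Finset.mem_insert, Finset.mem_singleton, not_or] at hx hy
      obtain ⟨h, hha, hhb⟩ := S.two_trans a b p' q hab hpq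
      have h1 : h⁻¹ • x ≠ a := by
        intro h0
        rw [inv_smul_eq_iff, hha] at h0
        exact hx.1 h0
      have h2 : h⁻¹ • x ≠ b := by
        intro h0
        rw [inv_smul_eq_iff, hhb] at h0
        exact hx.2 h0
      have h3 : h⁻¹ • y ≠ a := by
        intro h0
        rw [inv_smul_eq_iff, hha] at h0
        exact hy.1 h0
      have h4 : h⁻¹ • y ≠ b := by
        intro h0
        rw [inv_smul_eq_iff, hhb] at h0
        exact hy.2 h0
      obtain ⟨e, he, hex⟩ := htr _ _ h1 h2 h3 h4
      refine ⟨h * e * h⁻¹, ?_, ?_⟩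
      · intro z hz
        simp only [Finset.mem_insert, Finset.mem_singleton] at hz
        rcases hz with rfl | rfl
        · simp only [mul_smul]
          rw [← hha, inv_smul_smul, show e • a = a from he.1]
        · simp only [mul_smul]
          rw [← hhb, inv_smul_smul, show e • b = b from he.2]
      · simp only [mul_smul]
        rw [hex, smul_inv_smul]
  · intro t
    rw [eq_bot_iff]
    intro g hg
    have h : ∀ i, g • t i = t i := by
      intro i
      have h1 : g • t = t := hg
      exact DFunLike.congr_fun h1 i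
    have h01 : t 0 ≠ t 1 := fun h0 => by simpa using t.injective h0
    have h12 : t 1 ≠ t 2 := fun h0 => by simpa using t.injective h0
    have h02 : t 0 ≠ t 2 := fun h0 => by simpa using t.injective h0
    exact S.axiom3 g _ _ _ h01 h12 h02 (h 0) (h 1) (h 2)

/-- A sharply doubly transitive group has a regular normal subgroup. -/
theorem regular_of_trivial (hd1 : Nat.card E = 1) :
    ∃ M : Subgroup G, M.Normal ∧ (∀ x y : Ω, ∃ m ∈ M, m • x = y) ∧
      ∀ m ∈ M, ∀ x : Ω, m • x = x → m = 1 := by
  classical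
  haveI : Nontrivial Ω := ⟨a, b, S.hab⟩
  have htwo : 2 ≤ Nat.card Ω := Finite.one_lt_card
  have hS' : ∀ (g : G) (x y : Ω), x ≠ y → g • x = x → g • y = y → g = 1 := by
    intro g x y hxy h1 h2
    obtain ⟨h, hha, hhb⟩ := S.two_trans a b x y S.hab hxy
    have hE : h⁻¹ * g * h ∈ E := by
      constructor
      · show (h⁻¹ * g * h) • a = a
        simp only [mul_smul]
        rw [hha, h1, inv_smul_eq_iff, hha]
      · show (h⁻¹ * g * h) • b = b
        simp only [mul_smul]
        rw [hhb, h2, inv_smul_eq_iff, hhb]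
    haveI : Subsingleton E := (Nat.card_eq_one_iff_unique.mp hd1).1
    have h3 : (⟨_, hE⟩ : E) = 1 := Subsingleton.elim _ _
    have h4 : h⁻¹ * g * h = 1 := congrArg Subtype.val h3
    have h5 : g = h * (h⁻¹ * g * h) * h⁻¹ := by group
    rw [h5, h4]
    group
  obtain ⟨M, r, j, -, -, -, hMn, -, -, hr₁, hr₂, -, -, -, -⟩ :=
    Cfsg.Agent.Lib.Perm.sharply_two_structure htwo S.two_trans hS'
  exact ⟨M, hMn, hr₁, hr₂⟩

/-- The Zassenhaus case. -/
theorem zass (hd1 : Nat.card E ≠ 1)
    (hreg : ¬ ∃ M : Subgroup G, M.Normal ∧ (∀ x y : Ω, ∃ m ∈ M, m • x = y) ∧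
      ∀ m ∈ M, ∀ x : Ω, m • x = x → m = 1) :
    Cfsg.IsZassenhausGroup G Ω := by
  classical
  haveI : Nontrivial Ω := ⟨a, b, S.hab⟩
  refine ⟨S.hfaith, ?_, S.axiom3, ?_, ?_⟩
  · refine ⟨fun x y => ?_⟩
    obtain ⟨g, h1, h2⟩ := S.two_trans (x 0) (x 1) (y 0) (y 1)
      (fun h => by simpa using x.injective h) (fun h => by simpa using y.injective h)
    refine ⟨g, ?_⟩
    ext i
    fin_cases i
    · exact h1
    · exact h2
  · by_contra hcon
    push Not at hcon
    apply hd1
    rw [Nat.card_eq_one_iff_unique]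
    refine ⟨⟨fun x y => ?_⟩, ⟨1⟩⟩
    have h1 : ∀ e : E, e = 1 := by
      intro e
      by_contra he
      exact hcon e (fun h => he (Subtype.ext h)) a b S.hab e.2.1 e.2.2
    rw [h1 x, h1 y]
  · intro N hN htr
    by_contra hcon
    push Not at hcon
    apply hreg
    refine ⟨N, hN, fun x y => ?_, fun m hm x hx => ?_⟩
    · obtain ⟨m, hm⟩ := htr.exists_smul_eq x y
      exact ⟨m, m.2, hm⟩
    · have h1 := hcon x
      have h2 : (⟨m, hm⟩ : N) ∈ stabilizer N x := hx
      rw [h1] at h2
      have h3 : (⟨m, hm⟩ : N) = 1 := h2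
      exact congrArg Subtype.val h3

/-- The case of `PSL`. -/
theorem psl {d : ℕ} (hcard : Nat.card E = d) (hd1 : d ≠ 1) (hne : d ≠ p - 1)
    (hreg : ¬ ∃ M : Subgroup G, M.Normal ∧ (∀ x y : Ω, ∃ m ∈ M, m • x = y) ∧
      ∀ m ∈ M, ∀ x : Ω, m • x = x → m = 1) :
    2 * d = p - 1 ∧ Nonempty (G ≃* Matrix.ProjectiveSpecialLinearGroup (Fin 2) (ZMod p)) := by
  classical
  haveI : Fact p.Prime := ⟨S.hp⟩
  have hZ := S.zass (by rwa [hcard]) hreg
  have S' : ZA.Setup G Ω a b F :=
    ⟨hZ, S.hab, S.hFa, by rw [S.hFcard, S.hΩ], S.hFfix, S.comm_F⟩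
  have hp2 := S.hp.two_le
  have hΩ := S.hΩ
  have hn : 2 * d = p - 1 := by
    rcases S'.numeric with h | h
    · rw [S.hFcard, hcard] at h
      exact absurd h.symm hne
    · rw [S.hFcard, hcard] at h
      exact h.symm
  refine ⟨hn, ?_⟩
  have hKex : ∃ (K : Type) (_ : Field K) (_ : Fintype K), Fintype.card K = p ∧
      Nonempty (G ≃* Matrix.ProjectiveSpecialLinearGroup (Fin 2) K) := by
    rcases Nat.even_or_odd (Nat.card E) with heven | hodd
    · obtain ⟨r, f, K, iF, iT, hr, hr2, hK, hΩ', hnon⟩ :=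
        Lib.Perm.ZP.main hZ S.hab heven (by rw [hcard]; omega)
      refine ⟨K, iF, iT, ?_, hnon⟩
      omega
    · obtain ⟨K, iF, iT, hK, hnon⟩ := S'.psl_odd hodd (by rw [S.hFcard, hcard]; omega)
      refine ⟨K, iF, iT, ?_, hnon⟩
      rw [hK, hcard]
      omega
  obtain ⟨K, iF, iT, hK, ⟨φ⟩⟩ := hKex
  exact ⟨φ.trans (Cfsg.Agent.Lib.Classical.RC.pslCongr (ZMod.ringEquivOfPrime K S.hp hK)).symm⟩

end Pre

end Cfsg.Agent.Lib.Perm.DP
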