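import Cfsg.Prelude.Def_Perm
import Mathlib
import Cfsg.Agent.Lib.Perm.SharplyTwo

/-!
Near-fields and sharply doubly transitive groups.
-/

set_option autoImplicit false

namespace Cfsg.Agent.Lib.Perm

open MulAction

section Basics

variable {F : Type*} [Cfsg.NearField F]

lemma nf_zero_mul (c : F) : (0 : F) * c = 0 := by
  have h := Cfsg.NearField.right_distrib (0 : F) 0 c
  rw [add_zero] at h
  have h2 := left_neg_add_cancel_of_eq (a := (0 : F) * c) h
  exact h2
where
  left_neg_add_cancel_of_eq {a : F} (h : a = a + a) : a = 0 := by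
    have := congrArg (fun t => -a + t) h
    simpa using this.symm

lemma nf_neg_mul (a c : F) : (-a) * c = -(a * c) := by
  have h := Cfsg.NearField.right_distrib (-a) a c
  rw [neg_add_cancel, nf_zero_mul] at h
  exact eq_neg_of_add_eq_zero_left h.symm

lemma nf_sub_mul (a b c : F) : (a + -b) * c = a * c + -(b * c) := by
  rw [Cfsg.NearField.right_distrib, nf_neg_mul]

lemma nf_mul_ne_zero {a b : F} (ha : a ≠ 0) (hb : b ≠ 0) : a * b ≠ 0 := by
  intro h
  obtain ⟨b', hb1, _⟩ := Cfsg.NearField.exists_inv b hb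
  apply ha
  calc a = a * (b * b') := by rw [hb1, mul_one]
    _ = (a * b) * b' := by rw [mul_assoc]
    _ = 0 := by rw [h, nf_zero_mul]

/-- The permutation `x ↦ x * a + b`. -/
def affPerm (a a' b : F) (h : a * a' = 1) (h' : a' * a = 1) : Equiv.Perm F where
  toFun x := x * a + b
  invFun y := (y + -b) * a'
  left_inv x := by
    show (x * a + b + -b) * a' = x
    rw [add_neg_cancel_right, mul_assoc, h, mul_one]
  right_inv y := by
    show (y + -b) * a' * a + b = y
    rw [mul_assoc, h', mul_one, neg_add_cancel_right]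

variable (F) in
/-- The group of affine maps of a near-field. -/
def nfAffine : Subgroup (Equiv.Perm F) where
  carrier := {σ | ∃ a b : F, a ≠ 0 ∧ ∀ x : F, σ x = x * a + b}
  one_mem' := ⟨1, 0, Cfsg.NearField.zero_ne_one.symm, fun x => by simp⟩
  mul_mem' := by
    rintro σ τ ⟨a, b, ha, hσ⟩ ⟨c, d, hc, hτ⟩
    refine ⟨c * a, d * a + b, nf_mul_ne_zero hc ha, fun x => ?_⟩
    simp only [Equiv.Perm.coe_mul, Function.comp_apply, hτ, hσ, Cfsg.NearField.right_distrib,
      mul_assoc, add_assoc]
  inv_mem' := by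
    rintro σ ⟨a, b, ha, hσ⟩
    obtain ⟨a', h1, h2⟩ := Cfsg.NearField.exists_inv a ha
    refine ⟨a', -(b * a'), ?_, fun x => ?_⟩
    · rintro rfl
      rw [Cfsg.NearField.mul_zero] at h1
      exact Cfsg.NearField.zero_ne_one h1
    · apply σ.injective
      have h0 : σ (σ⁻¹ x) = x := by simp
      rw [h0, hσ, Cfsg.NearField.right_distrib,
        nf_neg_mul, mul_assoc, h2, mul_one, mul_assoc, h2, mul_one, neg_add_cancel_right]

lemma mem_nfAffine (σ : Equiv.Perm F) :
    σ ∈ nfAffine F ↔ ∃ a b : F, a ≠ 0 ∧ ∀ x : F, σ x = x * a + b := Iff.rfl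

lemma nfAffine_two_trans {x0 x1 y0 y1 : F} (hx : x0 ≠ x1) (hy : y0 ≠ y1) :
    ∃ g : nfAffine F, g • x0 = y0 ∧ g • x1 = y1 := by
  have hdx : x1 + -x0 ≠ 0 := fun h => hx (eq_of_add_neg_eq_zero h).symm
  have hdy : y1 + -y0 ≠ 0 := fun h => hy (eq_of_add_neg_eq_zero h).symm
  obtain ⟨d, hd1, hd2⟩ := Cfsg.NearField.exists_inv _ hdx
  have hd0 : d ≠ 0 := by
    rintro rfl
    rw [Cfsg.NearField.mul_zero] at hd1
    exact Cfsg.NearField.zero_ne_one hd1
  set a := d * (y1 + -y0) with ha
  have ha0 : a ≠ 0 := nf_mul_ne_zero hd0 hdy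
  obtain ⟨a', h1, h2⟩ := Cfsg.NearField.exists_inv a ha0
  set b := -(x0 * a) + y0 with hb
  refine ⟨⟨affPerm a a' b h1 h2, a, b, ha0, fun _ => rfl⟩, ?_, ?_⟩
  · show x0 * a + b = y0
    rw [hb, add_neg_cancel_left]
  · show x1 * a + b = y1
    have h3 : x1 * a + -(x0 * a) = y1 + -y0 := by
      rw [← nf_sub_mul, ha, ← mul_assoc, hd1, one_mul]
    rw [hb, ← add_assoc, h3, neg_add_cancel_right]

lemma nfAffine_sharp (g : nfAffine F) {x0 x1 : F} (hx : x0 ≠ x1)
    (h0 : g • x0 = x0) (h1 : g • x1 = x1) : g = 1 := by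
  obtain ⟨σ, a, b, ha, hσ⟩ := g
  have h0' : x0 * a + b = x0 := by rw [← hσ]; exact h0
  have h1' : x1 * a + b = x1 := by rw [← hσ]; exact h1
  have hdx : x1 + -x0 ≠ 0 := fun h => hx (eq_of_add_neg_eq_zero h).symm
  obtain ⟨d, hd1, hd2⟩ := Cfsg.NearField.exists_inv _ hdx
  have h2 : (x1 + -x0) * a = x1 + -x0 := by
    rw [nf_sub_mul]
    nth_rw 2 [← h1']
    nth_rw 2 [← h0']
    simp [add_assoc]
  have ha1 : a = 1 := by
    calc a = d * (x1 + -x0) * a := by rw [hd2, one_mul]
      _ = d * ((x1 + -x0) * a) := by rw [mul_assoc]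
      _ = 1 := by rw [h2, hd2]
  subst ha1
  have hb : b = 0 := by
    rw [mul_one] at h0'
    exact add_eq_left.mp h0'
  subst hb
  apply Subtype.ext
  ext x
  rw [hσ]
  simp

end Basics

/-- A finite near-field: additive group elementary abelian of prime power order. -/
theorem nearField_finite_structure {F : Type*} [Cfsg.NearField F] [Finite F] :
    ∃ p j : ℕ, p.Prime ∧ 1 ≤ j ∧ Nat.card F = p ^ j ∧ (∀ x y : F, x + y = y + x) ∧
      ∀ x : F, p • x = 0 := by
  classical
  have hzu : (0 : F) ≠ 1 := Cfsg.NearField.zero_ne_one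
  have h2 : 2 ≤ Nat.card F := by
    have : Nontrivial F := ⟨0, 1, hzu⟩
    exact Finite.one_lt_card
  obtain ⟨N, p, j, hp, hj, hcard, hNn, hNc, hNp, hNt, hNs, hNm, hNcard, hΓ, hpg⟩ :=
    sharply_two_structure (Γ := nfAffine F) (α := F) h2
      (fun a b c d hab hcd => nfAffine_two_trans hab hcd)
      (fun g a b hab ha hb => nfAffine_sharp g hab ha hb)
  -- translations
  let τ : F → nfAffine F := fun b =>
    ⟨affPerm 1 1 b (mul_one 1) (mul_one 1), 1, b, hzu.symm, fun _ => rfl⟩
  have hτ : ∀ b x : F, τ b • x = x + b := by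
    intro b x
    show x * 1 + b = x + b
    rw [mul_one]
  have hτN : ∀ b : F, τ b ∈ N := by
    intro b
    rw [hNm]
    by_cases hb : b = 0
    · left
      subst hb
      apply Subtype.ext
      ext x
      show x * 1 + 0 = x
      simp
    · right
      intro a ha
      rw [hτ] at ha
      exact hb (add_eq_left.mp ha)
  have hτmul : ∀ a b : F, τ a * τ b = τ (b + a) := by
    intro a b
    apply Subtype.ext
    ext x
    show (x * 1 + b) * 1 + a = x * 1 + (b + a)
    simp [add_assoc]
  have hτinj : ∀ a b : F, τ a = τ b → a = b := by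
    intro a b hab
    have := hτ a 0
    rw [hab, hτ] at this
    simpa using this.symm
  refine ⟨p, j, hp, hj, hcard, ?_, ?_⟩
  · intro x y
    have h3 := hNc _ (hτN x) _ (hτN y)
    rw [hτmul, hτmul] at h3
    exact hτinj _ _ h3.symm
  · intro x
    have h3 := hNp _ (hτN x)
    have h4 : ∀ n : ℕ, τ x ^ n = τ (n • x) := by
      intro n
      induction n with
      | zero =>
        apply Subtype.ext
        ext y
        simp only [pow_zero, zero_nsmul]
        show y = y * 1 + 0
        simp
      | succ n ih =>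
        rw [pow_succ, ih, hτmul, succ_nsmul']
    rw [h4] at h3
    have h5 : τ (p • x) • (0 : F) = 0 := by rw [h3]; simp
    rw [hτ, zero_add] at h5
    exact h5

section Construct

variable {Γ α : Type*} [Group Γ] [MulAction Γ α]

/-- The near-field structure from a regular normal subgroup of a sharply doubly transitive group. -/
theorem exists_nearField_of_sharp (z u : α) (hzu : z ≠ u)
    (hT : ∀ a b c d : α, a ≠ b → c ≠ d → ∃ g : Γ, g • a = c ∧ g • b = d)
    (hS : ∀ (g : Γ) (a b : α), a ≠ b → g • a = a → g • b = b → g = 1)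
    (N : Subgroup Γ) (hNn : N.Normal)
    (hNt : ∀ a b : α, ∃ n ∈ N, n • a = b) (hNs : ∀ n ∈ N, ∀ a : α, n • a = a → n = 1) :
    ∃ _ : Cfsg.NearField α,
      (∀ g : Γ, ∃ a b : α, a ≠ 0 ∧ ∀ x : α, g • x = x * a + b) ∧
      (∀ a b : α, a ≠ 0 → ∃ g : Γ, ∀ x : α, g • x = x * a + b) := by
  classical
  -- translations
  obtain ⟨tr, htrN, htrz⟩ : ∃ tr : α → Γ, (∀ x, tr x ∈ N) ∧ (∀ x, tr x • z = x) := by
    choose tr h1 h2 using fun x => hNt z x
    exact ⟨tr, h1, h2⟩
  -- dilations
  obtain ⟨mu, hmuz, hmuu⟩ : ∃ mu : α → Γ, (∀ a, mu a • z = z) ∧ (∀ a, a ≠ z → mu a • u = a) := by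
    have : ∀ a : α, ∃ g : Γ, g • z = z ∧ (a ≠ z → g • u = a) := by
      intro a
      by_cases ha : a = z
      · exact ⟨1, by simp, fun h => absurd ha h⟩
      · obtain ⟨g, h1, h2⟩ := hT z u z a hzu (Ne.symm ha)
        exact ⟨g, h1, fun _ => h2⟩
    choose mu h1 h2 using this
    exact ⟨mu, h1, h2⟩
  have htr_uniq : ∀ (n : Γ) (x : α), n ∈ N → n • z = x → n = tr x := by
    intro n x hn hx
    have h1 : (tr x)⁻¹ * n ∈ N := N.mul_mem (N.inv_mem (htrN x)) hn
    have h2 := hNs _ h1 z (by rw [mul_smul, hx, inv_smul_eq_iff, htrz])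
    exact (inv_mul_eq_one.mp h2).symm
  have hmu_uniq : ∀ (g : Γ) (a : α), a ≠ z → g • z = z → g • u = a → g = mu a := by
    intro g a ha hg1 hg2
    have h2 := hS ((mu a)⁻¹ * g) z u hzu
      (by rw [mul_smul, hg1, inv_smul_eq_iff, hmuz]) (by rw [mul_smul, hg2, inv_smul_eq_iff, hmuu a ha])
    exact (inv_mul_eq_one.mp h2).symm
  have htr_z : tr z = 1 := (htr_uniq 1 z N.one_mem (by simp)).symm
  have htr_mul : ∀ x y : α, tr (tr y • x) = tr y * tr x := by
    intro x y
    exact (htr_uniq _ _ (N.mul_mem (htrN y) (htrN x)) (by rw [mul_smul, htrz])).symm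
  have hmu_u : mu u = 1 := (hmu_uniq 1 u (Ne.symm hzu) (by simp) (by simp)).symm
  have hmu_ne : ∀ (c x : α), x ≠ z → mu c • x ≠ z := by
    intro c x hx h
    apply hx
    rw [← hmuz c] at h
    exact smul_left_cancel _ h
  have hmu_mul : ∀ a c : α, a ≠ z → c ≠ z → mu (mu c • a) = mu c * mu a := by
    intro a c ha hc
    refine (hmu_uniq _ _ (hmu_ne c a ha) ?_ ?_).symm
    · rw [mul_smul, hmuz, hmuz]
    · rw [mul_smul, hmuu a ha]
  have hconj : ∀ b c : α, mu c * tr b = tr (mu c • b) * mu c := by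
    intro b c
    have h1 : mu c * tr b * (mu c)⁻¹ ∈ N := hNn.conj_mem _ (htrN b) _
    have h2 := htr_uniq _ (mu c • b) h1 (by
      have : (mu c)⁻¹ • z = z := by rw [inv_smul_eq_iff, hmuz]
      rw [mul_smul, mul_smul, this, htrz])
    rw [← h2]
    group
  letI i0 : Zero α := ⟨z⟩
  letI i1 : Add α := ⟨fun x y => tr y • x⟩
  letI i2 : Neg α := ⟨fun x => (tr x)⁻¹ • z⟩
  let inst : Cfsg.NearField α :=
    { add := i1.add
      zero := i0.zero
      neg := i2.neg
      add_assoc := by
        intro x y w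
        show tr w • tr y • x = tr (tr w • y) • x
        rw [htr_mul, mul_smul]
      zero_add := fun x => htrz x
      add_zero := by
        intro x
        show tr z • x = x
        rw [htr_z, one_smul]
      nsmul := nsmulRec
      zsmul := zsmulRec
      neg_add_cancel := by
        intro x
        show tr x • (tr x)⁻¹ • z = z
        rw [smul_inv_smul]
      mul := fun x a => if a = z then z else mu a • x
      one := u
      mul_assoc := by
        intro x a c
        show (if c = z then z else mu c • (if a = z then z else mu a • x)) =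
          (if (if c = z then z else mu c • a) = z then z else mu (if c = z then z else mu c • a) • x)
        by_cases hc : c = z
        · simp [hc]
        · by_cases ha : a = z
          · simp [hc, ha, hmuz]
          · have h1 := hmu_ne c a ha
            simp [hc, ha, h1, hmu_mul a c ha hc, mul_smul]
      one_mul := by
        intro a
        show (if a = z then z else mu a • u) = a
        by_cases ha : a = z
        · simp [ha]
        · simp [ha, hmuu a ha]
      mul_one := by
        intro x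
        show (if u = z then z else mu u • x) = x
        simp [hzu.symm, hmu_u]
      right_distrib := by
        intro a b c
        show (if c = z then z else mu c • tr b • a) =
          tr (if c = z then z else mu c • b) • (if c = z then z else mu c • a)
        by_cases hc : c = z
        · simp [hc, htrz]
        · simp only [hc, if_false]
          rw [← mul_smul, hconj, mul_smul]
      mul_zero := by
        intro a
        show (if z = z then z else mu z • a) = z
        simp
      zero_ne_one := hzu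
      exists_inv := by
        intro a ha
        have ha' : a ≠ z := ha
        have hb : (mu a)⁻¹ • u ≠ z := by
          intro h
          rw [inv_smul_eq_iff, hmuz] at h
          exact hzu h.symm
        refine ⟨(mu a)⁻¹ • u, ?_, ?_⟩
        · show (if (mu a)⁻¹ • u = z then z else mu ((mu a)⁻¹ • u) • a) = u
          rw [if_neg hb]
          have h1 := hmu_mul ((mu a)⁻¹ • u) a hb ha'
          rw [smul_inv_smul, hmu_u] at h1
          have h2 : mu ((mu a)⁻¹ • u) = (mu a)⁻¹ := (inv_eq_of_mul_eq_one_right h1.symm).symm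
          rw [h2, inv_smul_eq_iff, hmuu a ha']
        · show (if a = z then z else mu a • (mu a)⁻¹ • u) = u
          rw [if_neg ha', smul_inv_smul] }
  have hmulne : ∀ x a : α, a ≠ z → inst.mul x a = mu a • x := by
    intro x a ha
    show (if a = z then z else mu a • x) = mu a • x
    rw [if_neg ha]
  refine ⟨inst, ?_, ?_⟩
  · intro g
    set b := g • z with hb
    have h1 : ((tr b)⁻¹ * g) • z = z := by
      rw [mul_smul, ← hb, inv_smul_eq_iff, htrz]
    have h2 : ((tr b)⁻¹ * g) • u ≠ z := by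
      intro h
      rw [← h1] at h
      exact hzu (smul_left_cancel _ h).symm
    have h3 := hmu_uniq _ _ h2 h1 rfl
    refine ⟨((tr b)⁻¹ * g) • u, b, h2, ?_⟩
    intro x
    show g • x = tr b • inst.mul x (((tr b)⁻¹ * g) • u)
    rw [hmulne _ _ h2, ← h3, ← mul_smul]
    simp
  · intro a b ha
    refine ⟨tr b * mu a, ?_⟩
    intro x
    show (tr b * mu a) • x = tr b • inst.mul x a
    rw [hmulne _ _ ha, mul_smul]

end Construct

/-- A finite sharply doubly transitive permutation group is the affine group of a near-field. -/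
theorem exists_nearField_perm {α : Type*} [Finite α] (H : Subgroup (Equiv.Perm α))
    (hT : ∀ a b c d : α, a ≠ b → c ≠ d → ∃ g : H, g • a = c ∧ g • b = d)
    (hS : ∀ (g : H) (a b : α), a ≠ b → g • a = a → g • b = b → g = 1) (h2 : 2 ≤ Nat.card α) :
    ∃ _ : Cfsg.NearField α, ∀ σ : Equiv.Perm α, σ ∈ H ↔
      ∃ a b : α, a ≠ 0 ∧ ∀ x : α, σ x = x * a + b := by
  classical
  obtain ⟨N, p, j, hp, hj, hcard, hNn, hNc, hNp, hNt, hNs, hNm, hNcard, hΓ, hpg⟩ :=
    sharply_two_structure (Γ := H) (α := α) h2 hT hS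
  obtain ⟨z, u, hzu⟩ : ∃ z u : α, z ≠ u := by
    have : Nontrivial α := (Finite.one_lt_card_iff_nontrivial).mp (by omega)
    exact exists_pair_ne α
  obtain ⟨inst, h1, h3⟩ := exists_nearField_of_sharp z u hzu hT hS N hNn hNt hNs
  refine ⟨inst, fun σ => ⟨fun hσ => ?_, ?_⟩⟩
  · obtain ⟨a, b, ha, h⟩ := h1 ⟨σ, hσ⟩
    exact ⟨a, b, ha, h⟩
  · rintro ⟨a, b, ha, h⟩
    obtain ⟨g, hg⟩ := h3 a b ha
    have : σ = g.1 := by
      ext x
      rw [h]
      exact (hg x).symm
    rw [this]
    exact g.2

end Cfsg.Agent.Lib.Perm
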