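import Mathlib
import Cfsg.Prelude.Def_Perm
import Cfsg.Agent.Lib.Perm.NearField

/-!
Sharply triply transitive groups of degree `2^f + 1` and `PGL(2, 2^f)`.
-/

set_option autoImplicit false

namespace Cfsg.Agent.Lib.Perm.ST

open Matrix OnePoint
open scoped MatrixGroups

section Mobius

variable {F : Type*} [Field F] [DecidableEq F]

/-- The Möbius action of `GL(2,F)` on the line. -/
noncomputable def mobGL : GL (Fin 2) F →* Equiv.Perm (OnePoint F) :=
  MulAction.toPermHom (GL (Fin 2) F) (OnePoint F)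

theorem mobGL_infty (g : GL (Fin 2) F) :
    mobGL g (∞ : OnePoint F) =
      if (g : Matrix (Fin 2) (Fin 2) F) 1 0 = 0 then ∞
      else (((g : Matrix (Fin 2) (Fin 2) F) 0 0 / (g : Matrix (Fin 2) (Fin 2) F) 1 0 : F) : OnePoint F) := by
  show g • (∞ : OnePoint F) = _
  rw [OnePoint.smul_infty_eq_ite]

theorem mobGL_coe (g : GL (Fin 2) F) (k : F) :
    mobGL g (k : OnePoint F) =
      if (g : Matrix (Fin 2) (Fin 2) F) 1 0 * k + (g : Matrix (Fin 2) (Fin 2) F) 1 1 = 0 then ∞
      else ((((g : Matrix (Fin 2) (Fin 2) F) 0 0 * k + (g : Matrix (Fin 2) (Fin 2) F) 0 1) /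
        ((g : Matrix (Fin 2) (Fin 2) F) 1 0 * k + (g : Matrix (Fin 2) (Fin 2) F) 1 1) : F) : OnePoint F) := by
  show g • (k : OnePoint F) = _
  rw [OnePoint.smul_some_eq_ite]

theorem det_rel (g : GL (Fin 2) F) :
    (g : Matrix (Fin 2) (Fin 2) F) 0 0 * (g : Matrix (Fin 2) (Fin 2) F) 1 1 -
      (g : Matrix (Fin 2) (Fin 2) F) 0 1 * (g : Matrix (Fin 2) (Fin 2) F) 1 0 ≠ 0 := by
  have := g.det_ne_zero
  rwa [Matrix.det_fin_two] at this

/-- The kernel of the Möbius action is the centre. -/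
theorem ker_mobGL : (mobGL (F := F)).ker = Subgroup.center (GL (Fin 2) F) := by
  ext g
  rw [MonoidHom.mem_ker, Matrix.GeneralLinearGroup.center_eq_range_scalar]
  have hdet := det_rel g
  constructor
  · intro h
    have h1 := congrArg (fun f : Equiv.Perm (OnePoint F) => f ∞) h
    simp only [Equiv.Perm.one_apply, mobGL_infty] at h1
    have hc : (g : Matrix (Fin 2) (Fin 2) F) 1 0 = 0 := by
      by_contra hc
      rw [if_neg hc] at h1
      exact OnePoint.coe_ne_infty _ h1
    have h2 := congrArg (fun f : Equiv.Perm (OnePoint F) => f ((0 : F) : OnePoint F)) h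
    simp only [Equiv.Perm.one_apply, mobGL_coe, hc, zero_mul, mul_zero, zero_add, add_zero] at h2
    rw [hc, mul_zero, sub_zero] at hdet
    have hd : (g : Matrix (Fin 2) (Fin 2) F) 1 1 ≠ 0 := right_ne_zero_of_mul hdet
    have ha : (g : Matrix (Fin 2) (Fin 2) F) 0 0 ≠ 0 := left_ne_zero_of_mul hdet
    rw [if_neg hd, OnePoint.coe_eq_coe, div_eq_zero_iff] at h2
    have hb : (g : Matrix (Fin 2) (Fin 2) F) 0 1 = 0 := by
      rcases h2 with h2 | h2
      · exact h2
      · exact absurd h2 hd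
    have h3 := congrArg (fun f : Equiv.Perm (OnePoint F) => f ((1 : F) : OnePoint F)) h
    simp only [Equiv.Perm.one_apply, mobGL_coe, hc, hb, zero_mul, mul_one, add_zero, zero_add] at h3
    rw [if_neg hd, OnePoint.coe_eq_coe, div_eq_one_iff_eq hd] at h3
    refine ⟨Units.mk0 _ hd, ?_⟩
    apply Units.ext
    ext i j
    fin_cases i <;> fin_cases j <;> simp [hb, hc, h3]
  · rintro ⟨u, rfl⟩
    ext x
    cases x with
    | infty => simp [mobGL_infty]
    | coe k =>
      rw [mobGL_coe]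
      simp

/-- `PGL(2,F)` is the image of the Möbius action. -/
noncomputable def pglEquivRange : Matrix.ProjGenLinGroup (Fin 2) F ≃* (mobGL (F := F)).range :=
  ((QuotientGroup.quotientKerEquivOfSurjective _ Matrix.ProjGenLinGroup.mk_surjective).symm.trans
    (QuotientGroup.quotientMulEquivOfEq
      ((Matrix.ProjGenLinGroup.ker_mk).trans ker_mobGL.symm))).trans
    (QuotientGroup.quotientKerEquivRange _)

/-- Recognition of the image of the Möbius action. -/
theorem range_eq (R : Subgroup (Equiv.Perm (OnePoint F)))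
    (hA : ∀ r ∈ R, r ∞ = ∞ → ∃ a b : F, a ≠ 0 ∧ ∀ k : F, r (k : OnePoint F) = ((a * k + b : F) : OnePoint F))
    (hB : ∀ a b : F, a ≠ 0 → ∃ r ∈ R, r ∞ = ∞ ∧ ∀ k : F, r (k : OnePoint F) = ((a * k + b : F) : OnePoint F))
    (hι : ∃ ι ∈ R, ι ∞ = ((0 : F) : OnePoint F) ∧ ι ((0 : F) : OnePoint F) = ∞ ∧
      ∀ k : F, k ≠ 0 → ι (k : OnePoint F) = ((k⁻¹ : F) : OnePoint F)) :
    R = (mobGL (F := F)).range := by
  obtain ⟨ι, hιR, hι1, hι2, hι3⟩ := hι
  apply le_antisymm
  · have haff : ∀ (a b : F), a ≠ 0 → ∀ r : Equiv.Perm (OnePoint F), r ∞ = ∞ →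
        (∀ k : F, r (k : OnePoint F) = ((a * k + b : F) : OnePoint F)) → r ∈ (mobGL (F := F)).range := by
      intro a b ha r hr1 hr2
      refine ⟨Matrix.GeneralLinearGroup.mkOfDetNeZero !![a, b; 0, 1] (by
        simpa [Matrix.det_fin_two] using ha), ?_⟩
      ext x
      cases x with
      | infty =>
        rw [mobGL_infty, hr1]
        simp [Matrix.GeneralLinearGroup.mkOfDetNeZero]
      | coe k =>
        rw [mobGL_coe, hr2]
        simp [Matrix.GeneralLinearGroup.mkOfDetNeZero]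
    have hιm : ι ∈ (mobGL (F := F)).range := by
      refine ⟨Matrix.GeneralLinearGroup.mkOfDetNeZero !![0, 1; 1, 0] (by
        simp [Matrix.det_fin_two]), ?_⟩
      ext x
      cases x with
      | infty =>
        rw [mobGL_infty, hι1]
        simp [Matrix.GeneralLinearGroup.mkOfDetNeZero]
      | coe k =>
        rw [mobGL_coe]
        by_cases hk : k = 0
        · subst hk
          rw [hι2]
          simp [Matrix.GeneralLinearGroup.mkOfDetNeZero]
        · rw [hι3 k hk]
          simp [Matrix.GeneralLinearGroup.mkOfDetNeZero, hk]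
    intro r hr
    by_cases hr1 : r ∞ = ∞
    · obtain ⟨a, b, ha, hab⟩ := hA r hr hr1
      exact haff a b ha r hr1 hab
    · obtain ⟨y, hy⟩ : ∃ y : F, r ∞ = (y : OnePoint F) := by
        cases hx : r ∞ with
        | infty => exact absurd hx hr1
        | coe y => exact ⟨y, rfl⟩
      obtain ⟨t, htR, ht1, ht2⟩ := hB 1 y one_ne_zero
      have hv : ((t * ι)⁻¹ * r) ∞ = ∞ := by
        have h5 : (t * ι) ∞ = r ∞ := by
          rw [Equiv.Perm.mul_apply, hι1, ht2, hy]
          simp
        rw [Equiv.Perm.mul_apply, ← h5]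
        simp
      have hvR : (t * ι)⁻¹ * r ∈ R := mul_mem (inv_mem (mul_mem htR hιR)) hr
      obtain ⟨a, b, ha, hab⟩ := hA _ hvR hv
      have h6 := haff a b ha _ hv hab
      have h7 : r = t * ι * ((t * ι)⁻¹ * r) := by group
      rw [h7]
      exact mul_mem (mul_mem (haff 1 y one_ne_zero t ht1 ht2) hιm) h6
  · rintro _ ⟨g, rfl⟩
    have hdet := det_rel g
    set a := (g : Matrix (Fin 2) (Fin 2) F) 0 0 with ha
    set b := (g : Matrix (Fin 2) (Fin 2) F) 0 1 with hb
    set c := (g : Matrix (Fin 2) (Fin 2) F) 1 0 with hc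
    set d := (g : Matrix (Fin 2) (Fin 2) F) 1 1 with hd
    by_cases hc0 : c = 0
    · rw [hc0, mul_zero, sub_zero] at hdet
      have ha0 : a ≠ 0 := left_ne_zero_of_mul hdet
      have hd0 : d ≠ 0 := right_ne_zero_of_mul hdet
      obtain ⟨r, hr, hr1, hr2⟩ := hB (a / d) (b / d) (div_ne_zero ha0 hd0)
      have : mobGL g = r := by
        ext x
        cases x with
        | infty =>
          rw [mobGL_infty, hr1, ← hc, if_pos hc0]
        | coe k =>
          rw [mobGL_coe, hr2, ← hc, ← hd, ← ha, ← hb, hc0]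
          simp only [zero_mul, zero_add]
          rw [if_neg hd0, OnePoint.coe_eq_coe]
          field_simp
      rw [this]
      exact hr
    · obtain ⟨r₁, hr₁, hr₁i, hr₁c⟩ := hB 1 (a / c) one_ne_zero
      have hdc : (b * c - a * d) / c ^ 2 ≠ 0 := by
        apply div_ne_zero _ (pow_ne_zero 2 hc0)
        intro h0
        apply hdet
        linear_combination -h0
      obtain ⟨r₂, hr₂, hr₂i, hr₂c⟩ := hB _ 0 hdc
      obtain ⟨r₄, hr₄, hr₄i, hr₄c⟩ := hB 1 (d / c) one_ne_zero
      have : mobGL g = r₁ * r₂ * ι * r₄ := by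
        ext x
        cases x with
        | infty =>
          rw [mobGL_infty, ← hc, if_neg hc0]
          simp only [Equiv.Perm.mul_apply, hr₄i, hι1, hr₂c, hr₁c, OnePoint.coe_eq_coe]
          rw [mul_zero, add_zero, one_mul, ← ha, zero_add]
        | coe k =>
          rw [mobGL_coe, ← hc, ← hd, ← ha, ← hb]
          simp only [Equiv.Perm.mul_apply, hr₄c]
          by_cases hw : c * k + d = 0
          · rw [if_pos hw]
            have hw' : 1 * k + d / c = 0 := by
              field_simp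
              linear_combination hw
            rw [hw', hι2, hr₂i, hr₁i]
          · rw [if_neg hw]
            have hw' : 1 * k + d / c ≠ 0 := by
              intro h0
              apply hw
              field_simp at h0
              linear_combination h0
            rw [hι3 _ hw', hr₂c, hr₁c, OnePoint.coe_eq_coe]
            have h1 : 1 * k + d / c = (c * k + d) / c := by
              field_simp
            rw [h1]
            have hw3 : c * k + d ≠ 0 := hw
            generalize hW : c * k + d = W at *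
            have hk : k = (W - d) / c := by
              rw [← hW]
              field_simp
              ring
            rw [hk]
            field_simp
            ring
      rw [this]
      exact mul_mem (mul_mem (mul_mem hr₁ hr₂) hιR) hr₄

end Mobius

/-- A near-field with commutative operations is a field. -/
@[reducible] noncomputable def nfField {X : Type*} [inst : Cfsg.NearField X]
    (hadd : ∀ a b : X, a + b = b + a) (hmul : ∀ a b : X, a * b = b * a) : Field X := by
  classical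
  exact
  { inst.toAddGroup, inst.toMonoid with
    add_comm := hadd
    left_distrib := fun a b c => by
      rw [hmul a, Cfsg.NearField.right_distrib, hmul b, hmul c]
    right_distrib := Cfsg.NearField.right_distrib
    zero_mul := nf_zero_mul
    mul_zero := Cfsg.NearField.mul_zero
    mul_comm := hmul
    inv := fun a => if h : a = 0 then 0 else Classical.choose (Cfsg.NearField.exists_inv a h)
    exists_pair_ne := ⟨0, 1, Cfsg.NearField.zero_ne_one⟩
    mul_inv_cancel := fun a ha => by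
      rw [dif_neg ha]
      exact (Classical.choose_spec (Cfsg.NearField.exists_inv a ha)).1
    inv_zero := dif_pos rfl
    nnqsmul := _
    qsmul := _ }


section Main

variable {α : Type*} [Fintype α] [DecidableEq α] (G : Subgroup (Equiv.Perm α)) (inf : α)

/-- The restriction of the stabilizer of `inf` to the complement. -/
def resH : Subgroup (Equiv.Perm {x : α // x ≠ inf}) where
  carrier := {σ | ∃ g ∈ G, g inf = inf ∧ ∀ x : {x : α // x ≠ inf}, ((σ x : {x : α // x ≠ inf}) : α) = g x}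
  one_mem' := ⟨1, one_mem _, rfl, fun _ => rfl⟩
  mul_mem' := by
    rintro σ τ ⟨g, hg, hg1, hg2⟩ ⟨h, hh, hh1, hh2⟩
    refine ⟨g * h, mul_mem hg hh, by rw [Equiv.Perm.mul_apply, hh1, hg1], fun x => ?_⟩
    rw [Equiv.Perm.mul_apply, hg2, hh2, Equiv.Perm.mul_apply]
  inv_mem' := by
    rintro σ ⟨g, hg, hg1, hg2⟩
    refine ⟨g⁻¹, inv_mem hg, by rw [Equiv.Perm.inv_eq_iff_eq, hg1], fun x => ?_⟩
    rw [Equiv.Perm.eq_inv_iff_eq, ← hg2]
    simp

variable {G inf}

lemma mem_resH {g : Equiv.Perm α} (hg : g ∈ G) (hg1 : g inf = inf) :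
    ∃ σ ∈ resH G inf, ∀ x : {x : α // x ≠ inf}, ((σ x : {x : α // x ≠ inf}) : α) = g x := by
  have hp : ∀ x, g x ≠ inf ↔ x ≠ inf := fun x => by
    constructor
    · rintro h0 rfl
      exact h0 hg1
    · intro h0 h1
      exact h0 (g.injective (h1.trans hg1.symm))
  exact ⟨g.subtypePerm hp, ⟨g, hg, hg1, fun x => rfl⟩, fun x => rfl⟩

/-- The field structure on the complement of a point. -/
theorem exists_field
    (hT : ∀ a b c a' b' c' : α, a ≠ b → a ≠ c → b ≠ c → a' ≠ b' → a' ≠ c' → b' ≠ c' →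
      ∃ g ∈ G, g a = a' ∧ g b = b' ∧ g c = c')
    (hS : ∀ g ∈ G, ∀ a b c : α, a ≠ b → a ≠ c → b ≠ c → g a = a → g b = b → g c = c → g = 1)
    (hodd : Odd (Fintype.card α)) (h3 : 3 ≤ Fintype.card α) :
    ∃ _ : Field {x : α // x ≠ inf},
      (∀ g ∈ G, g inf = inf → ∃ a b : {x : α // x ≠ inf}, a ≠ 0 ∧
        ∀ x : {x : α // x ≠ inf}, g x = ((x * a + b : {x : α // x ≠ inf}) : α)) ∧
      (∀ a b : {x : α // x ≠ inf}, a ≠ 0 → ∃ g ∈ G, g inf = inf ∧
        ∀ x : {x : α // x ≠ inf}, g x = ((x * a + b : {x : α // x ≠ inf}) : α)) ∧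
      (∃ s ∈ G, s inf = ((0 : {x : α // x ≠ inf}) : α) ∧ s ((0 : {x : α // x ≠ inf}) : α) = inf ∧
        ∀ x : {x : α // x ≠ inf}, x ≠ 0 → ∃ y : {x : α // x ≠ inf}, x * y = 1 ∧ s x = y) := by
  classical
  have hcardX : Fintype.card {x : α // x ≠ inf} + 1 = Fintype.card α := by
    have := Fintype.card_congr (Equiv.optionSubtypeNe inf)
    rwa [Fintype.card_option] at this
  have hT2 : ∀ a b c d : {x : α // x ≠ inf}, a ≠ b → c ≠ d →
      ∃ g : resH G inf, g • a = c ∧ g • b = d := by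
    intro a b c d hab hcd
    obtain ⟨g, hg, h1, h2, h3⟩ := hT inf a b inf c d a.2.symm b.2.symm
      (fun h => hab (Subtype.ext h)) c.2.symm d.2.symm (fun h => hcd (Subtype.ext h))
    obtain ⟨σ, hσ, hσx⟩ := mem_resH hg h1
    exact ⟨⟨σ, hσ⟩, Subtype.ext ((hσx a).trans h2), Subtype.ext ((hσx b).trans h3)⟩
  have hS2 : ∀ (g : resH G inf) (a b : {x : α // x ≠ inf}), a ≠ b → g • a = a → g • b = b → g = 1 := by
    rintro ⟨σ, g, hg, h1, h2⟩ a b hab ha hb
    have h3 : g = 1 := hS g hg inf a b a.2.symm b.2.symm (fun h => hab (Subtype.ext h)) h1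
      (by rw [← h2 a]; exact congrArg Subtype.val ha)
      (by rw [← h2 b]; exact congrArg Subtype.val hb)
    apply Subtype.ext
    ext x
    show ((σ x : {x : α // x ≠ inf}) : α) = x
    rw [h2, h3]
    rfl
  have h2X : 2 ≤ Nat.card {x : α // x ≠ inf} := by
    rw [Nat.card_eq_fintype_card]
    omega
  obtain ⟨nf, hnf⟩ := exists_nearField_perm (resH G inf) hT2 hS2 h2X
  have hA : ∀ g ∈ G, g inf = inf → ∃ a b : {x : α // x ≠ inf}, a ≠ 0 ∧
      ∀ x : {x : α // x ≠ inf}, g x = ((x * a + b : {x : α // x ≠ inf}) : α) := by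
    intro g hg h1
    obtain ⟨σ, hσ, hσx⟩ := mem_resH hg h1
    obtain ⟨a, b, ha, hab⟩ := (hnf σ).1 hσ
    exact ⟨a, b, ha, fun x => by rw [← hσx, hab]⟩
  have hB : ∀ a b : {x : α // x ≠ inf}, a ≠ 0 → ∃ g ∈ G, g inf = inf ∧
      ∀ x : {x : α // x ≠ inf}, g x = ((x * a + b : {x : α // x ≠ inf}) : α) := by
    intro a b ha
    obtain ⟨a', h1, h2⟩ := Cfsg.NearField.exists_inv a ha
    obtain ⟨g, hg, hg1, hg2⟩ : affPerm a a' b h1 h2 ∈ resH G inf :=
      (hnf _).2 ⟨a, b, ha, fun _ => rfl⟩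
    exact ⟨g, hg, hg1, fun x => (hg2 x).symm⟩
  have h01 : (0 : {x : α // x ≠ inf}) ≠ 1 := Cfsg.NearField.zero_ne_one
  have h01' : ((0 : {x : α // x ≠ inf}) : α) ≠ ((1 : {x : α // x ≠ inf}) : α) :=
    fun h => h01 (Subtype.ext h)
  obtain ⟨s, hs, hs1, hs2, hs3⟩ := hT inf ((0 : {x : α // x ≠ inf}) : α) ((1 : {x : α // x ≠ inf}) : α)
    ((0 : {x : α // x ≠ inf}) : α) inf ((1 : {x : α // x ≠ inf}) : α)
    (0 : {x : α // x ≠ inf}).2.symm (1 : {x : α // x ≠ inf}).2.symm h01'
    (0 : {x : α // x ≠ inf}).2 h01' (1 : {x : α // x ≠ inf}).2.symm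
  have hss : ∀ z : α, s (s z) = z := by
    have h1 : s * s = 1 := hS (s * s) (mul_mem hs hs) inf ((0 : {x : α // x ≠ inf}) : α)
      ((1 : {x : α // x ≠ inf}) : α) (0 : {x : α // x ≠ inf}).2.symm (1 : {x : α // x ≠ inf}).2.symm h01'
      (by rw [Equiv.Perm.mul_apply, hs1, hs2]) (by rw [Equiv.Perm.mul_apply, hs2, hs1])
      (by rw [Equiv.Perm.mul_apply, hs3, hs3])
    intro z
    have := congrArg (fun f : Equiv.Perm α => f z) h1
    simpa using this
  have hsne : ∀ x : {x : α // x ≠ inf}, x ≠ 0 → s x ≠ inf := by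
    intro x hx h0
    apply hx
    apply Subtype.ext
    apply s.injective
    rw [h0, hs2]
  have hsne0 : ∀ x : {x : α // x ≠ inf}, s x ≠ ((0 : {x : α // x ≠ inf}) : α) := by
    intro x h0
    apply x.2
    apply s.injective
    rw [h0, hs1]
  -- the induced map
  obtain ⟨S, hS0, hSx⟩ : ∃ S : {x : α // x ≠ inf} → {x : α // x ≠ inf}, S 0 = 0 ∧
      ∀ x : {x : α // x ≠ inf}, x ≠ 0 → (S x : α) = s x := by
    refine ⟨fun x => if h : s x = inf then 0 else ⟨s x, h⟩, dif_pos hs2, fun x hx => ?_⟩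
    simp only
    rw [dif_neg (hsne x hx)]
  have hSne : ∀ x : {x : α // x ≠ inf}, x ≠ 0 → S x ≠ 0 := by
    intro x hx h0
    apply hsne0 x
    rw [← hSx x hx, h0]
  have hSS : ∀ x : {x : α // x ≠ inf}, S (S x) = x := by
    intro x
    by_cases hx : x = 0
    · rw [hx, hS0, hS0]
    · apply Subtype.ext
      rw [hSx _ (hSne x hx), hSx x hx, hss]
  have hS1 : S 1 = 1 := by
    apply Subtype.ext
    rw [hSx 1 h01.symm, hs3]
  -- fixed points
  have hfix : ∀ x : {x : α // x ≠ inf}, x ≠ 0 → S x = x → x = 1 := by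
    intro x hx hSxx
    by_contra hx1
    have hsx : s x = x := by
      rw [← hSx x hx, hSxx]
    haveI : Fact (Nat.Prime 2) := ⟨Nat.prime_two⟩
    let f : Function.End α := MulAction.toEndHom s
    have hf : f ^ 2 ^ 1 = 1 := by
      show (MulAction.toEndHom s : Function.End α) ^ 2 ^ 1 = 1
      rw [← map_pow]
      have h5 : s ^ 2 ^ 1 = 1 := by
        ext z
        simp [pow_succ, hss]
      rw [h5, map_one]
    have hm := Equiv.Perm.card_fixedPoints_modEq hf
    have hm' : Fintype.card α ≡ Nat.card (Function.fixedPoints f) [MOD 2] := by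
      rw [Nat.card_eq_fintype_card]
      convert hm
    have hne1 : ((x : α)) ≠ ((1 : {x : α // x ≠ inf}) : α) := fun h => hx1 (Subtype.ext h)
    have hex : ∃ y : α, s y = y ∧ y ≠ x ∧ y ≠ ((1 : {x : α // x ≠ inf}) : α) := by
      by_contra hcon
      push Not at hcon
      have hset : Function.fixedPoints f = ({(x : α), ((1 : {x : α // x ≠ inf}) : α)} : Set α) := by
        ext z
        simp only [Set.mem_insert_iff, Set.mem_singleton_iff]
        constructor
        · intro hz
          by_cases hzx : z = x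
          · exact Or.inl hzx
          · exact Or.inr (hcon z hz hzx)
        · rintro (rfl | rfl)
          · exact hsx
          · exact hs3
      rw [hset, Nat.card_coe_set_eq, Set.ncard_pair hne1] at hm'
      have h6 : Fintype.card α % 2 = 2 % 2 := hm'
      rcases hodd with ⟨k, hk⟩
      omega
    obtain ⟨y, hy1, hy2, hy3⟩ := hex
    have h7 := hS s hs x ((1 : {x : α // x ≠ inf}) : α) y hne1 (Ne.symm hy2) (Ne.symm hy3) hsx hs3 hy1
    rw [h7] at hs1
    exact (0 : {x : α // x ≠ inf}).2 hs1.symm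
  -- multiplicativity
  have hmul0 : ∀ a b : {x : α // x ≠ inf}, a ≠ 0 → b ≠ 0 → a * b ≠ 0 := fun a b ha hb => nf_mul_ne_zero ha hb
  have hSmul : ∀ x a : {x : α // x ≠ inf}, x ≠ 0 → a ≠ 0 → S (x * a) = S x * S a := by
    intro x a hx ha
    obtain ⟨ga, hga, hga1, hga2⟩ := hB a 0 ha
    have hga3 : ∀ z : {x : α // x ≠ inf}, ga z = ((z * a : {x : α // x ≠ inf}) : α) := by
      intro z
      rw [hga2, add_zero]
    have hcG : s * ga * s ∈ G := mul_mem (mul_mem hs hga) hs
    have hc1 : (s * ga * s) inf = inf := by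
      rw [Equiv.Perm.mul_apply, Equiv.Perm.mul_apply, hs1, hga3, nf_zero_mul, hs2]
    obtain ⟨a', b', ha', hab'⟩ := hA _ hcG hc1
    have hb' : b' = 0 := by
      have h1 := hab' 0
      rw [Equiv.Perm.mul_apply, Equiv.Perm.mul_apply, hs2, hga1, hs1, nf_zero_mul, zero_add] at h1
      exact (Subtype.ext h1).symm
    subst hb'
    have ha'1 : a' = S a := by
      have h1 := hab' 1
      rw [Equiv.Perm.mul_apply, Equiv.Perm.mul_apply, hs3, hga3, one_mul, one_mul, add_zero] at h1
      apply Subtype.ext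
      rw [← h1, hSx a ha]
    subst ha'1
    apply Subtype.ext
    rw [hSx _ (hmul0 x a hx ha), ← hga3]
    have h1 := hab' (S x)
    rw [add_zero, Equiv.Perm.mul_apply, Equiv.Perm.mul_apply, hSx x hx, hss] at h1
    exact h1
  let Sh : {x : α // x ≠ inf} →* {x : α // x ≠ inf} :=
    { toFun := S
      map_one' := hS1
      map_mul' := fun a b => by
        by_cases ha : a = 0
        · rw [ha, nf_zero_mul, hS0, nf_zero_mul]
        · by_cases hb : b = 0
          · rw [hb, Cfsg.NearField.mul_zero, hS0, Cfsg.NearField.mul_zero]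
          · exact hSmul a b ha hb }
  let φ : ({x : α // x ≠ inf})ˣ →* ({x : α // x ≠ inf})ˣ := Units.map Sh
  have hφ : ∀ u : ({x : α // x ≠ inf})ˣ, ((φ u : ({x : α // x ≠ inf})ˣ) : {x : α // x ≠ inf}) = S u := fun _ => rfl
  have hune : ∀ u : ({x : α // x ≠ inf})ˣ, (u : {x : α // x ≠ inf}) ≠ 0 := by
    intro u h0
    apply h01
    have h1 := u.mul_inv
    rw [h0, nf_zero_mul] at h1
    exact h1
  have hfp : MonoidHom.FixedPointFree φ := by
    intro u hu
    apply Units.ext
    apply hfix _ (hune u)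
    rw [← hφ, hu]
  have hinv : Function.Involutive φ := by
    intro u
    apply Units.ext
    rw [hφ, hφ, hSS]
  have hcomm := hfp.commute_all_of_involutive hinv
  have hprod : ∀ u : ({x : α // x ≠ inf})ˣ, u * φ u = 1 := by
    intro u
    have h1 := hfp.prod_pow_eq_one (n := 2) (by
      funext v
      exact hinv v) u
    simpa using h1
  have hmk : ∀ a : {x : α // x ≠ inf}, a ≠ 0 → ∃ u : ({x : α // x ≠ inf})ˣ, (u : {x : α // x ≠ inf}) = a := by
    intro a ha
    obtain ⟨a', h1, h2⟩ := Cfsg.NearField.exists_inv a ha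
    exact ⟨⟨a, a', h1, h2⟩, rfl⟩
  have hmulc : ∀ a b : {x : α // x ≠ inf}, a * b = b * a := by
    intro a b
    by_cases ha : a = 0
    · rw [ha, nf_zero_mul, Cfsg.NearField.mul_zero]
    · by_cases hb : b = 0
      · rw [hb, nf_zero_mul, Cfsg.NearField.mul_zero]
      · obtain ⟨u, rfl⟩ := hmk a ha
        obtain ⟨v, rfl⟩ := hmk b hb
        exact congrArg Units.val (hcomm u v)
  have hInvS : ∀ x : {x : α // x ≠ inf}, x ≠ 0 → x * S x = 1 := by
    intro x hx
    obtain ⟨u, rfl⟩ := hmk x hx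
    have := congrArg Units.val (hprod u)
    simpa [hφ] using this
  obtain ⟨_, _, _, _, _, hadd, _⟩ := nearField_finite_structure (F := {x : α // x ≠ inf})
  exact ⟨nfField hadd hmulc, hA, hB, s, hs, hs1, hs2, fun x hx => ⟨S x, hInvS x hx, (hSx x hx).symm⟩⟩

end Main

/-- The theorem for point sets in the lowest universe. -/
theorem main_type {α : Type} [Fintype α] [DecidableEq α] {f : ℕ} (hf : 1 ≤ f)
    (hα : Fintype.card α = 2 ^ f + 1) (G : Subgroup (Equiv.Perm α))
    (hT : ∀ a b c a' b' c' : α, a ≠ b → a ≠ c → b ≠ c → a' ≠ b' → a' ≠ c' → b' ≠ c' →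
      ∃ g ∈ G, g a = a' ∧ g b = b' ∧ g c = c')
    (hS : ∀ g ∈ G, ∀ a b c : α, a ≠ b → a ≠ c → b ≠ c → g a = a → g b = b → g c = c → g = 1) :
    ∃ (F : Type) (_ : Field F) (_ : Fintype F), Fintype.card F = 2 ^ f ∧
      Nonempty (G ≃* Matrix.ProjGenLinGroup (Fin 2) F) := by
  classical
  have h2f : 2 ≤ 2 ^ f := by
    calc 2 = 2 ^ 1 := rfl
      _ ≤ 2 ^ f := Nat.pow_le_pow_right (by norm_num) hf
  have hne : Nonempty α := by
    apply Fintype.card_pos_iff.mp
    omega
  obtain ⟨inf⟩ := hne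
  have hodd : Odd (Fintype.card α) := by
    rw [hα]
    obtain ⟨k, hk⟩ : ∃ k, f = k + 1 := ⟨f - 1, by omega⟩
    subst hk
    exact ⟨2 ^ k, by rw [pow_succ]; ring⟩
  obtain ⟨fld, hA, hB, s, hs, hs1, hs2, hs3⟩ := exists_field (G := G) (inf := inf) hT hS hodd (by omega)
  have hcardX : Fintype.card {x : α // x ≠ inf} + 1 = Fintype.card α := by
    have := Fintype.card_congr (Equiv.optionSubtypeNe inf)
    rwa [Fintype.card_option] at this
  refine ⟨{x : α // x ≠ inf}, fld, inferInstance, by omega, ?_⟩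
  let θ : OnePoint {x : α // x ≠ inf} ≃ α := Equiv.optionSubtypeNe inf
  have hθ1 : θ ∞ = inf := rfl
  have hθ2 : ∀ k : {x : α // x ≠ inf}, θ (k : OnePoint {x : α // x ≠ inf}) = k := fun _ => rfl
  have hθ3 : θ.symm inf = ∞ := by
    rw [Equiv.symm_apply_eq]
    rfl
  have hθ4 : ∀ k : {x : α // x ≠ inf}, θ.symm (k : α) = (k : OnePoint {x : α // x ≠ inf}) := by
    intro k
    rw [Equiv.symm_apply_eq]
    rfl
  let κ : Equiv.Perm α ≃* Equiv.Perm (OnePoint {x : α // x ≠ inf}) := θ.symm.permCongrHom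
  have hκ : ∀ (g : Equiv.Perm α) (z : OnePoint {x : α // x ≠ inf}), κ g z = θ.symm (g (θ z)) := fun _ _ => rfl
  have hR := range_eq (F := {x : α // x ≠ inf}) (G.map κ.toMonoidHom)
    (by
      rintro _ ⟨g, hg, rfl⟩ h1
      have h2 : g inf = inf := by
        have h3 : θ.symm (g inf) = ∞ := h1
        rw [Equiv.symm_apply_eq] at h3
        exact h3
      obtain ⟨a, b, ha, hab⟩ := hA g hg h2
      refine ⟨a, b, ha, fun k => ?_⟩
      show κ g k = _
      rw [hκ, hθ2, hab, hθ4, mul_comm])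
    (by
      intro a b ha
      obtain ⟨g, hg, h1, h2⟩ := hB a b ha
      refine ⟨κ g, ⟨g, hg, rfl⟩, ?_, fun k => ?_⟩
      · rw [hκ, hθ1, h1, hθ3]
      · rw [hκ, hθ2, h2, hθ4, mul_comm])
    ⟨κ s, ⟨s, hs, rfl⟩, by rw [hκ, hθ1, hs1, hθ4],
      by
        rw [hκ, hθ2, hs2, hθ3],
      fun k hk => by
        obtain ⟨y, hy1, hy2⟩ := hs3 k hk
        have hy : y = k⁻¹ := eq_inv_of_mul_eq_one_left (by rw [mul_comm]; exact hy1)
        rw [hκ, hθ2, hy2, hθ4, hy]⟩
  exact ⟨(κ.subgroupMap G).trans ((MulEquiv.subgroupCongr hR).trans pglEquivRange.symm)⟩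

end Cfsg.Agent.Lib.Perm.ST
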